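/-
The rows of an irreducible character of degree less than `p - 1` (namespace `Cfsg.Agent.FeitSmall`).

Main results: `norm_of_flat`, `Row`, `exists_row`, `Row.cases`, `Row.K_scalar`.
-/
import Cfsg.Agent.Lib.CyclicDefect.SmallDegree
import Cfsg.Agent.Lib.CyclicDefect.Apply

set_option autoImplicit false
set_option linter.unusedSectionVars false
set_option linter.style.haveILetI false

open scoped ComplexConjugate

namespace Cfsg.Agent.FeitSmall

open Cfsg Cfsg.Agent.Blocks Cfsg.Agent.CyclicDefect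

variable {G : Type*} [Group G] [Finite G] {p : ℕ} [Fact p.Prime] {x : G} {L : Subgroup G}
variable (hS : Setting p x L) {M : Ideal AlgInt} (hM : IsPModular p M)
include hS

theorem sum_units_multN_le (χ : IrrCharacter G) (φ : IrrCharacter (K x L)) [Fintype (IrrCharacter (K x L))] :
    ∑ u : (ZMod p)ˣ, multN hS χ φ (u : ZMod p) ≤ charDegree (χ : G → ℂ) := by
  refine le_trans ?_ (sum_multN_le hS χ φ)
  classical
  rw [← Finset.sum_image (f := fun j => multN hS χ φ j) (fun a _ b _ e => Units.ext e)]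
  exact Finset.sum_le_sum_of_subset (Finset.subset_univ _)

/-- A character without any multiplicity at the primitive exponents is scalar on `x`. -/
theorem eq_one_of_flat (χ : IrrCharacter G)
    (hz : ∀ (φ : IrrCharacter (K x L)) (u : (ZMod p)ˣ), multN hS χ φ (u : ZMod p) = 0) :
    (χ : G → ℂ) x = (χ : G → ℂ) 1 := by
  have := Fintype.ofFinite (K x L)
  have := Fintype.ofFinite (IrrCharacter (K x L))
  have hi : ∀ i : ZMod p, (χ : G → ℂ) (pw x i * ((1 : K x L) : L)) =
      ∑ φ : IrrCharacter (K x L), (multN hS χ φ 0 : ℂ) * (φ : K x L → ℂ) 1 := fun i => by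
    rw [apply_eq_sum hS (irr_class χ)]
    refine Finset.sum_congr rfl fun φ _ => congrArg (· * _) ?_
    rw [dec_eq_sum_mult, Finset.sum_eq_single 0 (fun j _ hj => ?_) (fun h => absurd (Finset.mem_univ _) h),
      mul_zero, ζ_zero, mul_one, multN_spec hS]
    rw [multN_spec hS, show j = ((Units.mk0 j hj : (ZMod p)ˣ) : ZMod p) from rfl, hz, Nat.cast_zero, zero_mul]
  have h := (hi 1).trans (hi 0).symm
  simpa [hS.pw_one, hS.pw_zero] using h

open scoped Classical in
/-- The exceptional row of a character of degree less than `p - 1`. -/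
structure Row (M : Ideal AlgInt) (χ : IrrCharacter G) where
  η : IrrCharacter (K x L)
  lies : Lies M x L (blockOf M (χ : G → ℂ)) η
  c : (ZMod p)ˣ ⧸ U hS (η : K x L → ℂ)
  ε : ℤ
  hε : ε = 1 ∨ ε = -1
  row : ∀ u : (ZMod p)ˣ, bInt hS χ η (u : ZMod p) = if (u : (ZMod p)ˣ ⧸ U hS (η : K x L → ℂ)) = c then ε else 0
  nonlying : ∀ φ : IrrCharacter (K x L), ¬ Lies M x L (blockOf M (χ : G → ℂ)) φ → ∀ j, multN hS χ φ j = 0
  two : 2 * Nat.card (U hS (η : K x L → ℂ)) + 1 ≤ p

include hM

open scoped Classical in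
theorem exists_row (χ : IrrCharacter G) (hn : charDegree (χ : G → ℂ) + 1 < p)
    (hx : ‖(χ : G → ℂ) x‖ ≠ (charDegree (χ : G → ℂ) : ℝ)) : Nonempty (Row hS M χ) := by
  have := Fintype.ofFinite G
  have := Fintype.ofFinite (K x L)
  have := Fintype.ofFinite (IrrCharacter G)
  have := Fintype.ofFinite (IrrCharacter (K x L))
  set n := charDegree (χ : G → ℂ) with hndef
  have hn0 : 0 < n := charDegree_pos χ
  have hB : IsPBlock M (blockOf M (χ : G → ℂ)) := ⟨χ, rfl⟩
  obtain ⟨η, hl⟩ := exists_lies_of_not_dvd hS hM χ fun h => by have := Nat.le_of_dvd hn0 h; omega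
  obtain ⟨-, exc, ε, δ, -, -, hε, hexc, hcst, -⟩ := block_structure hS hM hB hl
  have hnl0 : ∀ φ : IrrCharacter (K x L), ¬ Lies M x L (blockOf M (χ : G → ℂ)) φ → ∀ j, multN hS χ φ j = 0 := by
    intro φ h j
    have h1 := sum_multN_le hS χ φ
    rw [Finset.sum_congr rfl fun j' _ => multN_of_not_lies hS hM χ h j', Finset.sum_const, Finset.card_univ,
      ZMod.card, smul_eq_mul] at h1
    rw [multN_of_not_lies hS hM χ h j]
    by_contra hne
    have := Nat.le_mul_of_pos_right p (Nat.pos_of_ne_zero hne)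
    omega
  have hscalar : ¬ ∀ u v : (ZMod p)ˣ, bInt hS χ η (u : ZMod p) = bInt hS χ η (v : ZMod p) := by
    intro hc
    refine hx ?_
    rw [eq_one_of_flat hS χ fun φ u => ?_, ← charDegree_cast χ, Complex.norm_natCast]
    by_cases h : Lies M x L (blockOf M (χ : G → ℂ)) φ
    · by_contra hne
      have hflat : ∀ v : (ZMod p)ˣ, multN hS χ φ (v : ZMod p) = multN hS χ φ (u : ZMod p) := by
        intro v
        obtain ⟨l, rfl⟩ := orbit hS hM hB hl h
        have h1 := multN_cjIrr hS χ l η (((CyclicDefect.alpha hS l)⁻¹ * u : (ZMod p)ˣ) : ZMod p)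
        have h2 := multN_cjIrr hS χ l η (((CyclicDefect.alpha hS l)⁻¹ * v : (ZMod p)ˣ) : ZMod p)
        rw [← Units.val_mul, mul_inv_cancel_left] at h1 h2
        have h3 := hc ((CyclicDefect.alpha hS l)⁻¹ * u) ((CyclicDefect.alpha hS l)⁻¹ * v)
        rw [bInt_eq_sub, bInt_eq_sub] at h3
        omega
      have h1 := sum_units_multN_le hS χ φ
      rw [Finset.sum_congr rfl fun v _ => hflat v, Finset.sum_const, Finset.card_univ, ZMod.card_units,
        smul_eq_mul] at h1
      have := Nat.le_mul_of_pos_right (p - 1) (Nat.pos_of_ne_zero hne)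
      omega
    · exact hnl0 φ h _
  obtain ⟨c, hcχ⟩ : χ ∈ Set.range exc := by
    by_contra hχe
    exact hscalar fun u v => by rw [(hcst χ (mem_blockOf_self hM χ) hχe).2, (hcst χ (mem_blockOf_self hM χ) hχe).2]
  have hrow : ∀ u : (ZMod p)ˣ, bInt hS χ η (u : ZMod p) =
      if (u : (ZMod p)ˣ ⧸ U hS (η : K x L → ℂ)) = c then ε else 0 := hcχ ▸ hexc c
  refine ⟨⟨η, hl, c, ε, hε, hrow, hnl0, ?_⟩⟩
  have h2 : 2 * Nat.card (U hS (η : K x L → ℂ)) ≤ p - 1 := by
    rw [← card_units_eq hS (η : K x L → ℂ), mul_comm 2]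
    refine Nat.mul_le_mul_left _ ?_
    by_contra hle
    haveI : Subsingleton ((ZMod p)ˣ ⧸ U hS (η : K x L → ℂ)) := Finite.card_le_one_iff_subsingleton.mp (by omega)
    exact hscalar fun u v => by rw [hrow, hrow, Subsingleton.elim (u : (ZMod p)ˣ ⧸ U hS (η : K x L → ℂ)) c,
      Subsingleton.elim (v : (ZMod p)ˣ ⧸ U hS (η : K x L → ℂ)) c]
  have := (Fact.out : p.Prime).two_le
  omega

variable {χ : IrrCharacter G} (R : Row hS M χ)

open scoped Classical in
theorem Row.card_mul [Fintype (IrrCharacter (K x L))] :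
    (Finset.univ.filter (Lies M x L (blockOf M (χ : G → ℂ)))).card * Nat.card (U hS (R.η : K x L → ℂ)) =
      (K x L).index := by
  haveI := hS.normal_K
  rw [card_lies hS hM ⟨χ, rfl⟩ R.lies, card_U hS, mul_comm]
  exact Subgroup.relIndex_mul_index (CharApp.le_inertia _ (irr_class R.η))

theorem Row.sum_eq : ((∑ j : ZMod p, multN hS χ R.η j : ℕ) : ℤ) =
    (p : ℤ) * multN hS χ R.η 0 + R.ε * Nat.card (U hS (R.η : K x L → ℂ)) := by
  have hsum := sum_bInt_eq hS χ R.η
  rw [sum_bInt_exc hS R.row] at hsum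
  omega

open scoped Classical in
theorem Row.sum_all [Fintype (IrrCharacter (K x L))] {φ : IrrCharacter (K x L)}
    (hφ : Lies M x L (blockOf M (χ : G → ℂ)) φ) :
    charDegree (φ : K x L → ℂ) = charDegree (R.η : K x L → ℂ) ∧
      ∑ j : ZMod p, multN hS χ φ j = ∑ j : ZMod p, multN hS χ R.η j := by
  obtain ⟨l, rfl⟩ := orbit hS hM ⟨χ, rfl⟩ R.lies hφ
  exact ⟨charDegree_cjIrr hS l R.η, sum_multN_cjIrr hS χ l R.η⟩

open scoped Classical in
theorem Row.degree [Fintype (IrrCharacter (K x L))] :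
    charDegree (χ : G → ℂ) = charDegree (R.η : K x L → ℂ) *
      (Finset.univ.filter (Lies M x L (blockOf M (χ : G → ℂ)))).card * ∑ j : ZMod p, multN hS χ R.η j := by
  rw [charDegree_eq_sum hS χ, ← Finset.sum_subset
    (Finset.subset_univ (Finset.univ.filter (Lies M x L (blockOf M (χ : G → ℂ))))) (fun φ _ hφ => by
      rw [Finset.sum_eq_zero fun j _ => R.nonlying φ (fun h => hφ (Finset.mem_filter.mpr ⟨Finset.mem_univ _, h⟩)) j,
        mul_zero]),
    Finset.sum_congr rfl fun φ hφ => by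
      obtain ⟨h1, h2⟩ := R.sum_all hS hM (Finset.mem_filter.mp hφ).2
      rw [h1, h2],
    Finset.sum_const, smul_eq_mul]
  ring

open scoped Classical in
/-- The two signs. -/
theorem Row.cases [Fintype (IrrCharacter (K x L))] (hn : charDegree (χ : G → ℂ) + 1 < p) :
    (R.ε = 1 ∧ multN hS χ R.η 0 = 0 ∧ charDegree (χ : G → ℂ) = charDegree (R.η : K x L → ℂ) * (K x L).index) ∨
    (R.ε = -1 ∧ multN hS χ R.η 0 = 1 ∧ charDegree (R.η : K x L → ℂ) = 1 ∧
      (Finset.univ.filter (Lies M x L (blockOf M (χ : G → ℂ)))).card = 1 ∧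
      Nat.card (U hS (R.η : K x L → ℂ)) = (K x L).index ∧ charDegree (χ : G → ℂ) + (K x L).index = p) := by
  have hs := R.sum_eq hS hM
  have hd := R.degree hS hM
  have hTe := R.card_mul hS hM
  have h2 := R.two
  have hη := charDegree_pos R.η
  set T := (Finset.univ.filter (Lies M x L (blockOf M (χ : G → ℂ)))).card
  set S := ∑ j : ZMod p, multN hS χ R.η j
  set m := multN hS χ R.η 0
  set u := Nat.card (U hS (R.η : K x L → ℂ))
  have hT : 1 ≤ T := Finset.card_pos.mpr ⟨R.η, Finset.mem_filter.mpr ⟨Finset.mem_univ _, R.lies⟩⟩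
  have hS_le : S ≤ charDegree (χ : G → ℂ) := by
    rw [hd]; exact Nat.le_mul_of_pos_left _ (Nat.mul_pos hη hT)
  rcases R.hε with e' | e' <;> rw [e'] at hs
  · left
    have hm : m = 0 := by
      by_contra hne
      have := Nat.le_mul_of_pos_right p (Nat.pos_of_ne_zero hne)
      have h3 : (S : ℤ) = ((p * m : ℕ) : ℤ) + u := by push_cast; linarith
      omega
    refine ⟨e', hm, ?_⟩
    rw [hd, ← hTe, show S = u by rw [hm] at hs; omega, mul_assoc]
  · right
    have hm1 : 1 ≤ m := by
      rcases Nat.eq_zero_or_pos m with h0 | h0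
      · rw [h0] at hs
        have hu : 0 < u := Nat.card_pos
        omega
      · exact h0
    have hm : m = 1 := by
      by_contra hne
      have := Nat.mul_le_mul_left p (show 2 ≤ m by omega)
      have h3 : (S : ℤ) + u = ((p * m : ℕ) : ℤ) := by push_cast; linarith
      omega
    rw [hm] at hs
    have hSu : S + u = p := by omega
    have h1 : charDegree (R.η : K x L → ℂ) * T = 1 := by
      refine le_antisymm (Nat.le_of_lt_succ (Nat.lt_of_not_le fun h3 => ?_)) (Nat.mul_pos hη hT)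
      have := Nat.mul_le_mul_right S h3
      rw [← hd] at this
      omega
    obtain ⟨h1a, h1b⟩ := mul_eq_one.mp h1
    rw [h1b, one_mul] at hTe
    rw [h1a, h1b, one_mul, one_mul] at hd
    exact ⟨e', hm, h1a, h1b, hTe, by omega⟩

open scoped Classical in
/-- With the negative sign `K` acts by scalars. -/
theorem Row.K_scalar [Fintype (IrrCharacter (K x L))] (hη : charDegree (R.η : K x L → ℂ) = 1)
    (hT : (Finset.univ.filter (Lies M x L (blockOf M (χ : G → ℂ)))).card = 1) (k : K x L) :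
    ‖(χ : G → ℂ) ((k : L) : G)‖ = (charDegree (χ : G → ℂ) : ℝ) := by
  have := Fintype.ofFinite (K x L)
  have happ := apply_eq_sum hS (irr_class χ) (0 : ZMod p) k
  rw [hS.pw_zero, one_mul, Finset.sum_eq_single R.η (fun φ _ hne => ?_) (fun h => absurd (Finset.mem_univ _) h),
    dec_zero_eq hS] at happ
  · obtain ⟨l₀, hl₀⟩ := Char.exists_hom_of_degree_one (Char.IsIrrCharacter.isCharacter R.η.2)
      (by rw [← charDegree_cast, hη, Nat.cast_one])
    rw [happ, ← hl₀, norm_mul, Complex.norm_natCast, R.degree hS hM, hη, hT, one_mul, one_mul,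
      Complex.norm_eq_one_of_pow_eq_one (by rw [← map_pow, pow_card_eq_one', map_one] : l₀ k ^ Nat.card (K x L) = 1)
        Nat.card_pos.ne', mul_one]
  · rw [dec_zero_eq hS, Finset.sum_eq_zero, Nat.cast_zero, zero_mul]
    intro j _
    refine R.nonlying φ (fun h => hne ?_) j
    exact Finset.card_le_one.mp hT.le φ (Finset.mem_filter.mpr ⟨Finset.mem_univ _, h⟩) R.η
      (Finset.mem_filter.mpr ⟨Finset.mem_univ _, R.lies⟩)

end Cfsg.Agent.FeitSmall
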