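/-
Cyclotomic numbers modulo a prime (namespace `Cfsg.Agent.FeitSmall`).

Main results: `cs` (a class of exponents), `nu` (the number of ways of writing an element of a class as a sum),
`tri_eq`, `nu_rotate`, `sum_nu`, `power_sum`.
-/
import Cfsg.Agent.EqLemmas

set_option autoImplicit false
set_option linter.unusedSectionVars false

namespace Cfsg.Agent.FeitSmall

variable {p : ℕ} [Fact p.Prime] (U : Subgroup (ZMod p)ˣ)

open scoped Classical in
/-- The elements of a class of exponents. -/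
noncomputable def cs (c : (ZMod p)ˣ ⧸ U) : Finset (ZMod p) :=
  (Finset.univ.filter fun u : (ZMod p)ˣ => (u : (ZMod p)ˣ ⧸ U) = c).image fun u => (u : ZMod p)

theorem mem_cs {c : (ZMod p)ˣ ⧸ U} {j : ZMod p} :
    j ∈ cs U c ↔ ∃ u : (ZMod p)ˣ, (u : (ZMod p)ˣ ⧸ U) = c ∧ (u : ZMod p) = j := by
  classical
  simp [cs]

theorem unit_mem_cs {c : (ZMod p)ˣ ⧸ U} {u : (ZMod p)ˣ} :
    (u : ZMod p) ∈ cs U c ↔ (u : (ZMod p)ˣ ⧸ U) = c := by
  rw [mem_cs]
  exact ⟨fun ⟨v, hv, h⟩ => Units.ext h ▸ hv, fun h => ⟨u, h, rfl⟩⟩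

theorem ne_zero_of_mem_cs {c : (ZMod p)ˣ ⧸ U} {j : ZMod p} (h : j ∈ cs U c) : j ≠ 0 := by
  obtain ⟨u, -, rfl⟩ := (mem_cs U).mp h
  exact u.ne_zero

theorem eq_of_mem_cs {c c' : (ZMod p)ˣ ⧸ U} {j : ZMod p} (h : j ∈ cs U c) (h' : j ∈ cs U c') : c = c' := by
  obtain ⟨u, hu, rfl⟩ := (mem_cs U).mp h
  rw [← hu]
  exact (unit_mem_cs U).mp h'

theorem out_mem_cs (c : (ZMod p)ˣ ⧸ U) : ((c.out : (ZMod p)ˣ) : ZMod p) ∈ cs U c :=
  (unit_mem_cs U).mpr (Quotient.out_eq c)

theorem exists_cs {j : ZMod p} (hj : j ≠ 0) : ∃ c, j ∈ cs U c :=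
  ⟨_, (unit_mem_cs U (u := Units.mk0 j hj)).mpr rfl⟩

theorem mul_mem_cs {c d : (ZMod p)ˣ ⧸ U} {i j : ZMod p} (hi : i ∈ cs U c) (hj : j ∈ cs U d) :
    i * j ∈ cs U (c * d) := by
  obtain ⟨u, hu, rfl⟩ := (mem_cs U).mp hi
  obtain ⟨v, hv, rfl⟩ := (mem_cs U).mp hj
  rw [← Units.val_mul, unit_mem_cs]
  rw [QuotientGroup.mk_mul, hu, hv]

/-- The class of `-1`. -/
abbrev negOne : (ZMod p)ˣ ⧸ U := ((-1 : (ZMod p)ˣ) : (ZMod p)ˣ ⧸ U)

theorem negOne_mul_self : negOne U * negOne U = 1 := by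
  rw [negOne, ← QuotientGroup.mk_mul, neg_mul_neg, one_mul]
  rfl

theorem negOne_mul_negOne_mul (c : (ZMod p)ˣ ⧸ U) : negOne U * (negOne U * c) = c := by
  rw [← mul_assoc, negOne_mul_self, one_mul]

theorem neg_mem_cs {c : (ZMod p)ˣ ⧸ U} {j : ZMod p} : -j ∈ cs U (negOne U * c) ↔ j ∈ cs U c := by
  have h : ∀ (c : (ZMod p)ˣ ⧸ U) (j : ZMod p), j ∈ cs U c → -j ∈ cs U (negOne U * c) := fun c j hj => by
    have := mul_mem_cs U ((unit_mem_cs U (u := (-1 : (ZMod p)ˣ))).mpr rfl) hj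
    rwa [Units.val_neg, Units.val_one, neg_one_mul] at this
  refine ⟨fun h' => ?_, h c j⟩
  have := h _ _ h'
  rwa [neg_neg, negOne_mul_negOne_mul] at this

theorem card_cs (c : (ZMod p)ˣ ⧸ U) : (cs U c).card = Nat.card U := by
  classical
  rw [← Nat.card_eq_finsetCard]
  refine (Nat.card_eq_of_bijective (fun a : U => (⟨((c.out * a : (ZMod p)ˣ) : ZMod p), (unit_mem_cs U).mpr (by
    rw [QuotientGroup.mk_mul_of_mem _ a.2]; exact Quotient.out_eq c)⟩ : (cs U c : Finset _))) ⟨fun a b h => ?_, ?_⟩).symm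
  · exact Subtype.ext (mul_left_cancel (Units.ext (congrArg Subtype.val h :) : c.out * (a : (ZMod p)ˣ) = c.out * b))
  · rintro ⟨j, hj⟩
    obtain ⟨u, hu, rfl⟩ := (mem_cs U).mp hj
    refine ⟨⟨c.out⁻¹ * u, QuotientGroup.eq.mp ((Quotient.out_eq c).trans hu.symm)⟩, Subtype.ext ?_⟩
    exact congrArg Units.val (mul_inv_cancel_left c.out u)

/-- Splitting a sum over `ZMod p` along the classes. -/
theorem sum_split_cs [Fintype ((ZMod p)ˣ ⧸ U)] {A : Type*} [AddCommMonoid A] (f : ZMod p → A) :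
    ∑ j, f j = f 0 + ∑ c : (ZMod p)ˣ ⧸ U, ∑ j ∈ cs U c, f j := by
  classical
  rw [← Finset.add_sum_erase Finset.univ f (Finset.mem_univ 0),
    ← Finset.sum_biUnion (fun c _ c' _ hne => Finset.disjoint_left.mpr fun j hj hj' => hne (eq_of_mem_cs U hj hj'))]
  congr 1
  refine Finset.sum_congr ?_ fun _ _ => rfl
  ext j
  simp only [Finset.mem_erase, Finset.mem_univ, and_true, Finset.mem_biUnion, true_and]
  exact ⟨exists_cs U, fun ⟨c, hc⟩ => ne_zero_of_mem_cs U hc⟩

open scoped Classical in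
/-- The number of ways of writing `j` as a sum of an element of `a` and one of `b`. -/
noncomputable def nuAt (a b : (ZMod p)ˣ ⧸ U) (j : ZMod p) : ℕ :=
  ((cs U a).filter fun u => j - u ∈ cs U b).card

/-- The number of ways of writing an element of `c` as a sum of an element of `a` and one of `b`. -/
noncomputable def nu (a b c : (ZMod p)ˣ ⧸ U) : ℕ := nuAt U a b ((c.out : (ZMod p)ˣ) : ZMod p)

theorem nuAt_eq {a b c : (ZMod p)ˣ ⧸ U} {j : ZMod p} (hj : j ∈ cs U c) : nuAt U a b j = nu U a b c := by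
  classical
  obtain ⟨v, hv, rfl⟩ := (mem_cs U).mp hj
  have hd : v * (c.out)⁻¹ ∈ U := by
    rw [mul_comm]
    exact QuotientGroup.eq.mp ((Quotient.out_eq c).trans hv.symm)
  set d : (ZMod p)ˣ := v * (c.out)⁻¹ with hd'
  have hd1 : (d : (ZMod p)ˣ ⧸ U) = 1 := (QuotientGroup.eq_one_iff d).mpr hd
  have hmul : ∀ (a : (ZMod p)ˣ ⧸ U) (z : ZMod p), (d : ZMod p) * z ∈ cs U a ↔ z ∈ cs U a := by
    intro a z
    refine ⟨fun h => ?_, fun h => ?_⟩
    · have := mul_mem_cs U ((unit_mem_cs U (u := d⁻¹)).mpr (by rw [QuotientGroup.mk_inv, hd1, inv_one] : _ = (1 : (ZMod p)ˣ ⧸ U))) h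
      rwa [one_mul, Units.inv_mul_cancel_left] at this
    · have := mul_mem_cs U ((unit_mem_cs U (u := d)).mpr hd1) h
      rwa [one_mul] at this
  have hcv : (v : ZMod p) = (d : ZMod p) * ((c.out : (ZMod p)ˣ) : ZMod p) := by
    rw [← Units.val_mul, hd', inv_mul_cancel_right]
  refine (Finset.card_bij (fun z _ => (d : ZMod p) * z) (fun z hz => ?_) (fun z _ z' _ h => ?_) (fun z hz => ?_)).symm
  · rw [Finset.mem_filter] at hz ⊢
    exact ⟨(hmul a z).mpr hz.1, by rw [hcv, ← mul_sub, hmul]; exact hz.2⟩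
  · exact mul_left_cancel₀ d.ne_zero h
  · rw [Finset.mem_filter] at hz
    refine ⟨((d⁻¹ : (ZMod p)ˣ) : ZMod p) * z, ?_, Units.mul_inv_cancel_left d z⟩
    rw [Finset.mem_filter]
    refine ⟨(hmul a _).mp (by rw [Units.mul_inv_cancel_left]; exact hz.1), (hmul b _).mp ?_⟩
    rw [mul_sub, Units.mul_inv_cancel_left, ← hcv]
    exact hz.2

open scoped Classical in
/-- The solutions of `u + v = w` in three given classes. -/
noncomputable def tri (a b c : (ZMod p)ˣ ⧸ U) : Finset (ZMod p × ZMod p) :=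
  (cs U a ×ˢ cs U b).filter fun uv => uv.1 + uv.2 ∈ cs U c

theorem tri_eq (a b c : (ZMod p)ˣ ⧸ U) : (tri U a b c).card = Nat.card U * nu U a b c := by
  classical
  rw [← card_cs U c, ← smul_eq_mul, ← Finset.sum_const,
    ← Finset.sum_congr rfl fun j hj => (nuAt_eq U (a := a) (b := b) hj),
    Finset.card_eq_sum_card_fiberwise (s := tri U a b c) (f := fun uv : ZMod p × ZMod p => uv.1 + uv.2) (t := cs U c)
      (fun uv huv => (Finset.mem_filter.mp huv).2), tri]
  refine Finset.sum_congr rfl fun j hj => ?_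
  refine Finset.card_bij (fun uv _ => uv.1) (fun uv huv => ?_) (fun uv huv uv' huv' h => ?_) (fun u hu => ?_)
  · simp only [Finset.mem_filter, Finset.mem_product] at huv ⊢
    refine ⟨huv.1.1.1, ?_⟩
    rw [← huv.2, add_sub_cancel_left]
    exact huv.1.1.2
  · simp only [Finset.mem_filter] at huv huv'
    refine Prod.ext h ?_
    have := huv.2.trans huv'.2.symm
    rw [h] at this
    exact add_left_cancel this
  · simp only [Finset.mem_filter] at hu
    refine ⟨(u, j - u), ?_, rfl⟩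
    simp only [Finset.mem_filter, Finset.mem_product]
    exact ⟨⟨⟨hu.1, hu.2⟩, by rw [add_sub_cancel]; exact hj⟩, add_sub_cancel u j⟩

/-- Symmetry in the two summands. -/
theorem nu_comm (a b c : (ZMod p)ˣ ⧸ U) : nu U a b c = nu U b a c := by
  classical
  refine Nat.eq_of_mul_eq_mul_left (Nat.card_pos (α := U)) ?_
  rw [← tri_eq, ← tri_eq]
  refine Finset.card_bij (fun uv _ => (uv.2, uv.1)) (fun uv huv => ?_) (fun uv _ uv' _ h => ?_) (fun uv huv => ?_)
  · simp only [tri, Finset.mem_filter, Finset.mem_product] at huv ⊢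
    exact ⟨⟨huv.1.2, huv.1.1⟩, by rw [add_comm]; exact huv.2⟩
  · exact Prod.ext (congrArg Prod.snd h :) (congrArg Prod.fst h :)
  · refine ⟨(uv.2, uv.1), ?_, rfl⟩
    simp only [tri, Finset.mem_filter, Finset.mem_product] at huv ⊢
    exact ⟨⟨huv.1.2, huv.1.1⟩, by rw [add_comm]; exact huv.2⟩

/-- Moving a summand to the other side. -/
theorem nu_rotate (a b c : (ZMod p)ˣ ⧸ U) : nu U a b c = nu U (negOne U * b) c a := by
  classical
  refine Nat.eq_of_mul_eq_mul_left (Nat.card_pos (α := U)) ?_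
  rw [← tri_eq, ← tri_eq]
  refine Finset.card_bij (fun uv _ => (-uv.2, uv.1 + uv.2)) (fun uv huv => ?_) (fun uv _ uv' _ h => ?_)
    (fun vw hvw => ?_)
  · simp only [tri, Finset.mem_filter, Finset.mem_product] at huv ⊢
    exact ⟨⟨(neg_mem_cs U).mpr huv.1.2, huv.2⟩, by rw [neg_add_cancel_comm_assoc]; exact huv.1.1⟩
  · have h1 : uv.2 = uv'.2 := neg_inj.mp (congrArg Prod.fst h :)
    have h2 : uv.1 + uv.2 = uv'.1 + uv'.2 := (congrArg Prod.snd h :)
    exact Prod.ext (by rw [h1] at h2; exact add_right_cancel h2) h1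
  · simp only [tri, Finset.mem_filter, Finset.mem_product] at hvw
    refine ⟨(vw.1 + vw.2, -vw.1), ?_, ?_⟩
    · simp only [tri, Finset.mem_filter, Finset.mem_product]
      refine ⟨⟨hvw.2, ?_⟩, by rw [add_neg_cancel_comm]; exact hvw.1.2⟩
      rw [← neg_mem_cs U, neg_neg]
      exact hvw.1.1
    · simp

open scoped Classical in
theorem card_neg_pairs (a b : (ZMod p)ˣ ⧸ U) :
    ((cs U a ×ˢ cs U b).filter fun uv => uv.1 + uv.2 = 0).card = if b = negOne U * a then Nat.card U else 0 := by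
  split_ifs with h
  · rw [← card_cs U a]
    refine Finset.card_bij (fun uv _ => uv.1) (fun uv huv => ?_) (fun uv huv uv' huv' e => ?_) (fun u hu => ?_)
    · exact (Finset.mem_product.mp (Finset.mem_filter.mp huv).1).1
    · refine Prod.ext e ?_
      have := (Finset.mem_filter.mp huv).2.trans (Finset.mem_filter.mp huv').2.symm
      rw [e] at this
      exact add_left_cancel this
    · exact ⟨(u, -u), Finset.mem_filter.mpr ⟨Finset.mem_product.mpr ⟨hu, h ▸ (neg_mem_cs U).mpr hu⟩, add_neg_cancel u⟩, rfl⟩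
  · rw [Finset.card_eq_zero, Finset.filter_eq_empty_iff]
    intro uv huv h0
    obtain ⟨h1, h2⟩ := Finset.mem_product.mp huv
    rw [eq_neg_of_add_eq_zero_left h0] at h1
    have h3 := (neg_mem_cs U).mpr h1
    rw [neg_neg] at h3
    exact h (eq_of_mem_cs U h2 h3)

open scoped Classical in
/-- The total over the classes of the sums. -/
theorem sum_nu [Fintype ((ZMod p)ˣ ⧸ U)] (a b : (ZMod p)ˣ ⧸ U) :
    (∑ c, nu U a b c) + (if b = negOne U * a then 1 else 0) = Nat.card U := by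
  refine Nat.eq_of_mul_eq_mul_left (Nat.card_pos (α := U)) ?_
  rw [mul_add, Finset.mul_sum, mul_ite, mul_one, mul_zero, ← card_neg_pairs U a b]
  simp only [← tri_eq, tri]
  conv_rhs => arg 1; rw [← card_cs U a]
  conv_rhs => arg 2; rw [← card_cs U b]
  rw [← Finset.card_product, Finset.card_eq_sum_card_fiberwise (s := cs U a ×ˢ cs U b) (f := fun uv : ZMod p × ZMod p => uv.1 + uv.2)
    (t := Finset.univ) (fun uv _ => Finset.mem_univ _), sum_split_cs U (A := ℕ), add_comm]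
  congr 1
  refine Finset.sum_congr rfl fun c _ => ?_
  rw [show ((cs U a ×ˢ cs U b).filter fun uv => uv.1 + uv.2 ∈ cs U c) = tri U a b c from rfl, Finset.card_eq_sum_card_fiberwise (s := tri U a b c) (f := fun uv : ZMod p × ZMod p => uv.1 + uv.2) (t := cs U c)
    (fun uv huv => (Finset.mem_filter.mp huv).2)]
  refine Finset.sum_congr rfl fun j hj => ?_
  rw [tri, Finset.filter_filter]
  refine congrArg Finset.card (Finset.filter_congr fun uv _ => ⟨fun h => h.2, fun h => ⟨h ▸ hj, h⟩⟩)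

/-- The `e`-th power of a class. -/
noncomputable def cpow (c : (ZMod p)ˣ ⧸ U) : ZMod p := ((c.out : (ZMod p)ˣ) : ZMod p) ^ Nat.card U

theorem pow_card_eq_one_of_mem {u : (ZMod p)ˣ} (hu : u ∈ U) : u ^ Nat.card U = 1 :=
  congrArg Subtype.val (pow_card_eq_one' (x := (⟨u, hu⟩ : U)))

theorem pow_eq_cpow {c : (ZMod p)ˣ ⧸ U} {j : ZMod p} (hj : j ∈ cs U c) : j ^ Nat.card U = cpow U c := by
  obtain ⟨v, hv, rfl⟩ := (mem_cs U).mp hj
  have hd : (c.out)⁻¹ * v ∈ U := QuotientGroup.eq.mp ((Quotient.out_eq c).trans hv.symm)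
  have h1 := congrArg Units.val (pow_card_eq_one_of_mem U hd)
  rw [Units.val_pow_eq_pow_val, Units.val_mul, mul_pow, Units.val_one] at h1
  rw [cpow]
  calc (v : ZMod p) ^ Nat.card U
      = ((c.out : (ZMod p)ˣ) : ZMod p) ^ Nat.card U * ((((c.out)⁻¹ : (ZMod p)ˣ) : ZMod p) ^ Nat.card U * (v : ZMod p) ^ Nat.card U) := by
        rw [← mul_assoc, ← mul_pow ((c.out : (ZMod p)ˣ) : ZMod p), Units.mul_inv, one_pow, one_mul]
    _ = _ := by rw [h1, mul_one]

theorem cpow_ne_zero (c : (ZMod p)ˣ ⧸ U) : cpow U c ≠ 0 := pow_ne_zero _ (Units.ne_zero _)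

theorem cpow_one : cpow U 1 = 1 := by
  have h : (1 : ZMod p) ∈ cs U 1 := by
    have := (unit_mem_cs U (c := 1) (u := (1 : (ZMod p)ˣ))).mpr rfl
    rwa [Units.val_one] at this
  rw [← pow_eq_cpow U h, one_pow]

theorem cpow_mul (c d : (ZMod p)ˣ ⧸ U) : cpow U (c * d) = cpow U c * cpow U d := by
  rw [← pow_eq_cpow U (mul_mem_cs U (out_mem_cs U c) (out_mem_cs U d)), mul_pow]
  rfl

theorem cpow_injective : Function.Injective (cpow U) := by
  classical
  intro c d h
  have := Fintype.ofFinite U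
  rw [← inv_mul_eq_one]
  set q := c⁻¹ * d
  have h1 : cpow U q = 1 := by
    refine mul_left_cancel₀ (cpow_ne_zero U c) ?_
    rw [← cpow_mul, mul_inv_cancel_left, mul_one, h]
  by_contra hq
  -- the roots of `X ^ e - 1` are the elements of `U`
  set e := Nat.card U with he
  have he0 : 0 < e := Nat.card_pos
  have hroot : ∀ z ∈ cs U 1 ∪ cs U q, z ∈ Polynomial.nthRootsFinset e (1 : ZMod p) := by
    intro z hz
    rw [Polynomial.mem_nthRootsFinset he0]
    rcases Finset.mem_union.mp hz with h2 | h2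
    · rw [he, pow_eq_cpow U h2, cpow_one]
    · rw [he, pow_eq_cpow U h2, h1]
  have hle := Finset.card_le_card (fun z hz => hroot z hz)
  rw [Finset.card_union_of_disjoint (Finset.disjoint_left.mpr fun z hz hz' => hq (eq_of_mem_cs U hz' hz)),
    card_cs, card_cs] at hle
  have h3 : (Polynomial.nthRootsFinset e (1 : ZMod p)).card ≤ e := by
    rw [Polynomial.nthRootsFinset_def]
    exact (Multiset.toFinset_card_le _).trans (Polynomial.card_nthRoots e 1)
  omega

/-- Sums of powers over a class. -/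
theorem sum_cs_pow (a : (ZMod p)ˣ ⧸ U) (i : ℕ) :
    ∑ u ∈ cs U a, u ^ i = if Nat.card U ∣ i then (Nat.card U : ZMod p) * cpow U a ^ (i / Nat.card U) else 0 := by
  classical
  have := Fintype.ofFinite U
  split_ifs with hi
  · obtain ⟨l, rfl⟩ := hi
    rw [Nat.mul_div_cancel_left l Nat.card_pos, Finset.sum_congr rfl (g := fun _ => cpow U a ^ l) fun u hu => by
      rw [pow_mul, pow_eq_cpow U hu], Finset.sum_const, card_cs, nsmul_eq_mul]
  · let f : U →* ZMod p := ((powMonoidHom i).comp (Units.coeHom (ZMod p))).comp U.subtype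
    have hf : f ≠ 1 := by
      intro h
      obtain ⟨g, hg⟩ := (inferInstance : IsCyclic U).exists_generator
      have hz : (⊤ : Subgroup U) = Subgroup.zpowers g := ((Subgroup.eq_top_iff' _).mpr hg).symm
      have ho : orderOf g = Nat.card U := by rw [← Nat.card_zpowers, ← hz, Subgroup.card_top]
      refine hi (ho ▸ orderOf_dvd_of_pow_eq_one (Subtype.ext (Units.ext ?_)))
      have := DFunLike.congr_fun h g
      simpa [f] using this
    have hbij : ∑ u ∈ cs U a, u ^ i = ∑ g : U, ((((a.out : (ZMod p)ˣ) * g : (ZMod p)ˣ) : ZMod p)) ^ i := by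
      refine (Finset.sum_bij (fun (g : U) _ => (((a.out : (ZMod p)ˣ) * g : (ZMod p)ˣ) : ZMod p)) (fun g _ => ?_)
        (fun g _ g' _ h => Subtype.ext (mul_left_cancel (Units.ext h))) (fun z hz => ?_) fun g _ => rfl).symm
      · rw [unit_mem_cs, QuotientGroup.mk_mul_of_mem _ g.2]
        exact Quotient.out_eq a
      · obtain ⟨u, hu, rfl⟩ := (mem_cs U).mp hz
        exact ⟨⟨a.out⁻¹ * u, QuotientGroup.eq.mp ((Quotient.out_eq a).trans hu.symm)⟩, Finset.mem_univ _,
          by rw [mul_inv_cancel_left]⟩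
    rw [hbij, Finset.sum_congr rfl (g := fun g : U => ((a.out : (ZMod p)ˣ) : ZMod p) ^ i * f g) fun g _ => by
      rw [Units.val_mul, mul_pow]; rfl, ← Finset.mul_sum, sum_hom_units_eq_zero f hf, mul_zero]

/-- The power sums of the classes of sums. -/
theorem power_sum [Fintype ((ZMod p)ˣ ⧸ U)] (a b : (ZMod p)ˣ ⧸ U) {k : ℕ} (hk : k ≠ 0) :
    ∑ c, (nu U a b c : ZMod p) * cpow U c ^ k = (Nat.card U : ZMod p) *
      ∑ l ∈ Finset.range (k + 1),
        ((Nat.card U * k).choose (Nat.card U * l) : ZMod p) * cpow U a ^ l * cpow U b ^ (k - l) := by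
  classical
  set e := Nat.card U with he
  have he0 : 0 < e := Nat.card_pos
  have hne : (e : ZMod p) ≠ 0 := by
    rw [Ne, ZMod.natCast_eq_zero_iff]
    intro h
    have h1 : e ≤ p - 1 := by
      rw [he, ← ZMod.card_units p, ← Nat.card_eq_fintype_card]
      exact Subgroup.card_le_card_group U
    have := Nat.le_of_dvd he0 h
    omega
  refine mul_left_cancel₀ hne ?_
  have hlhs : ∑ uv ∈ cs U a ×ˢ cs U b, (uv.1 + uv.2) ^ (e * k) =
      (e : ZMod p) * ∑ c, (nu U a b c : ZMod p) * cpow U c ^ k := by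
    rw [← Finset.sum_fiberwise' (cs U a ×ˢ cs U b) (fun uv => uv.1 + uv.2) fun z => z ^ (e * k), sum_split_cs U,
      zero_pow (Nat.mul_ne_zero he0.ne' hk), Finset.sum_const_zero, zero_add, Finset.mul_sum]
    refine Finset.sum_congr rfl fun c _ => ?_
    rw [Finset.sum_congr rfl (g := fun j => (nu U a b c : ZMod p) * cpow U c ^ k) fun j hj => ?_, Finset.sum_const,
      card_cs, nsmul_eq_mul]
    rw [Finset.sum_const, nsmul_eq_mul, pow_mul, pow_eq_cpow U hj]
    congr 2
    rw [← nuAt_eq U hj, nuAt]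
    refine Finset.card_bij (fun uv _ => uv.1) (fun uv huv => ?_) (fun uv huv uv' huv' h => ?_) (fun u hu => ?_)
    · simp only [Finset.mem_filter, Finset.mem_product] at huv ⊢
      exact ⟨huv.1.1, by rw [← huv.2, add_sub_cancel_left]; exact huv.1.2⟩
    · simp only [Finset.mem_filter] at huv huv'
      refine Prod.ext h ?_
      have := huv.2.trans huv'.2.symm
      rw [h] at this
      exact add_left_cancel this
    · simp only [Finset.mem_filter] at hu
      exact ⟨(u, j - u), by simp [hu.1, hu.2], rfl⟩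
  rw [← hlhs, Finset.sum_product]
  simp only [add_pow, Finset.mul_sum]
  rw [Finset.sum_congr rfl fun u _ => Finset.sum_comm, Finset.sum_comm]
  have hterm : ∀ i ∈ Finset.range (e * k + 1),
      ∑ u ∈ cs U a, ∑ v ∈ cs U b, u ^ i * v ^ (e * k - i) * ((e * k).choose i : ZMod p) =
      if e ∣ i then (e : ZMod p) * ((e : ZMod p) *
        (((e * k).choose (e * (i / e)) : ZMod p) * cpow U a ^ (i / e) * cpow U b ^ (k - i / e))) else 0 := by
    intro i hi
    simp only [← Finset.sum_mul, ← Finset.mul_sum, sum_cs_pow, ← he]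
    split_ifs with h1 h2
    · obtain ⟨l, rfl⟩ := h1
      rw [Nat.mul_div_cancel_left _ he0, ← Nat.mul_sub, Nat.mul_div_cancel_left _ he0]
      ring
    · exact absurd (Nat.dvd_sub (dvd_mul_right e k) h1) h2
    · ring
    · ring
  rw [Finset.sum_congr rfl hterm, ← Finset.sum_filter]
  refine Finset.sum_bij (fun i _ => i / e) (fun i hi => ?_) (fun i hi i' hi' h => ?_) (fun l hl => ?_) fun i hi => rfl
  · simp only [Finset.mem_filter, Finset.mem_range] at hi ⊢
    obtain ⟨l, rfl⟩ := hi.2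
    rw [Nat.mul_div_cancel_left _ he0]
    exact Nat.lt_succ_of_le (Nat.le_of_mul_le_mul_left (Nat.le_of_lt_succ hi.1) he0)
  · simp only [Finset.mem_filter] at hi hi'
    rw [← Nat.mul_div_cancel' hi.2, ← Nat.mul_div_cancel' hi'.2, h]
  · refine ⟨e * l, ?_, Nat.mul_div_cancel_left _ he0⟩
    simp only [Finset.mem_filter, Finset.mem_range] at hl ⊢
    exact ⟨Nat.lt_succ_of_le (Nat.mul_le_mul_left e (Nat.le_of_lt_succ hl)), dvd_mul_right e l⟩

end Cfsg.Agent.FeitSmall
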