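/-
Perfect groups with `C(x) = ⟨x⟩ × Z(G)`: central characters and multiplicities on `⟨x⟩` (namespace `Cfsg.Agent.FeitSmall`).

Main results: `CCore`, `mu` (multiplicities of the exponents), `mu_mul`, `exists_cent`, `N`, `deg_eq_sum`,
`Fam` and `exists_fam` (the exceptional family over a central character).
-/
import Cfsg.Agent.Lib.CyclicDefect.Mult
import Cfsg.Agent.Lib.DegPMinusTwo.Identity
import Cfsg.Agent.Lib.CentralChar.Fixed
import Cfsg.Agent.Lib.FeitSmall.Cyclo

set_option autoImplicit false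
set_option linter.unusedSectionVars false
set_option linter.style.haveILetI false

open scoped ComplexConjugate

namespace Cfsg.Agent.FeitSmall

open Cfsg Cfsg.Agent.Blocks Cfsg.Agent.CyclicDefect

scoped notation "ζp" => Cfsg.Agent.CyclicDefect.ζ

variable {G : Type*} [Group G] {p : ℕ} [Fact p.Prime] {x : G} {L : Subgroup G}

/-- The multiplicity of the exponent `j` in a function on `⟨x⟩`. -/
noncomputable def mu (x : G) (f : G → ℂ) (j : ZMod p) : ℂ :=
  (p : ℂ)⁻¹ * ∑ i : ZMod p, ζp (-(i * j)) * f (pw x i)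

theorem mu_of_expansion {f : G → ℂ} {c : ZMod p → ℂ} (h : ∀ i : ZMod p, f (pw x i) = ∑ j, c j * ζp (i * j))
    (j : ZMod p) : mu x f j = c j := by
  classical
  simp only [mu, h, Finset.mul_sum]
  rw [Finset.sum_comm, Finset.sum_eq_single j]
  · have : ∀ i : ZMod p, (p : ℂ)⁻¹ * (ζp (-(i * j)) * (c j * ζp (i * j))) = (p : ℂ)⁻¹ * c j := fun i => by
      rw [mul_left_comm (ζp (-(i * j))), ← ζ_add, neg_add_cancel, ζ_zero, mul_one]
    rw [Finset.sum_congr rfl fun i _ => this i, Finset.sum_const, Finset.card_univ, ZMod.card, nsmul_eq_mul,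
      mul_inv_cancel_left₀ (Nat.cast_ne_zero.mpr (Fact.out : p.Prime).ne_zero)]
  · intro j' _ hne
    have : ∀ i : ZMod p, (p : ℂ)⁻¹ * (ζp (-(i * j)) * (c j' * ζp (i * j'))) =
        ((p : ℂ)⁻¹ * c j') * ζp (i * (j' - j)) := fun i => by
      rw [show i * (j' - j) = -(i * j) + i * j' by ring, ζ_add]
      ring
    rw [Finset.sum_congr rfl fun i _ => this i, ← Finset.mul_sum, sum_ζ_mul, if_neg (sub_ne_zero.mpr hne), mul_zero]
  · exact fun h => absurd (Finset.mem_univ _) h

theorem apply_pw_eq_sum (f : G → ℂ) (i : ZMod p) : f (pw x i) = ∑ j : ZMod p, mu x f j * ζp (i * j) := by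
  classical
  simp only [mu, mul_assoc, Finset.sum_mul, ← Finset.mul_sum]
  rw [Finset.sum_comm]
  have hterm : ∀ i' : ZMod p, ∑ j : ZMod p, ζp (-(i' * j)) * (f (pw x i') * ζp (i * j)) =
      if i' = i then (p : ℂ) * f (pw x i') else 0 := by
    intro i'
    have : ∀ j : ZMod p, ζp (-(i' * j)) * (f (pw x i') * ζp (i * j)) = f (pw x i') * ζp (j * (i - i')) := by
      intro j
      rw [show j * (i - i') = -(i' * j) + i * j by ring, ζ_add]
      ring
    rw [Finset.sum_congr rfl fun j _ => this j, ← Finset.mul_sum, sum_ζ_mul]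
    by_cases h : i' = i
    · rw [if_pos h, if_pos (by rw [h, sub_self]), mul_comm]
    · rw [if_neg h, if_neg (sub_ne_zero.mpr (Ne.symm h)), mul_zero]
  rw [Finset.sum_congr rfl fun i' _ => hterm i', Finset.sum_ite_eq' Finset.univ i,
    if_pos (Finset.mem_univ _), inv_mul_cancel_left₀ (Nat.cast_ne_zero.mpr (Fact.out : p.Prime).ne_zero)]

/-- Multiplicities of a product. -/
theorem mu_mul (f g : G → ℂ) (j : ZMod p) :
    mu x (fun a => f a * g a) j = ∑ u : ZMod p, mu x f u * mu x g (j - u) := by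
  refine mu_of_expansion (x := x) (c := fun j => ∑ u : ZMod p, mu x f u * mu x g (j - u)) (fun i => ?_) j
  show f (pw x i) * g (pw x i) = _
  rw [apply_pw_eq_sum f, apply_pw_eq_sum g, Finset.sum_mul_sum]
  simp only [Finset.sum_mul]
  conv_rhs => rw [Finset.sum_comm]
  refine Finset.sum_congr rfl fun u _ => ?_
  refine Fintype.sum_equiv (Equiv.addLeft u) _ _ fun v => ?_
  rw [Equiv.coe_addLeft, add_sub_cancel_left, mul_add, ζ_add]
  ring

theorem mu_sum {ι : Type*} (s : Finset ι) (c : ι → ℂ) (f : ι → G → ℂ) (j : ZMod p) :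
    mu x (∑ a ∈ s, c a • f a) j = ∑ a ∈ s, c a * mu x (f a) j := by
  simp only [mu, Finset.sum_apply, Pi.smul_apply, smul_eq_mul, Finset.mul_sum]
  rw [Finset.sum_comm]
  exact Finset.sum_congr rfl fun _ _ => Finset.sum_congr rfl fun _ _ => by ring

/-- A function with a central character. -/
def Cent (μ : K x L →* ℂ) (f : G → ℂ) : Prop :=
  ∀ (g : G) (k : K x L), f (g * ((k : L) : G)) = f g * μ k

theorem Cent.mul {μ μ' : K x L →* ℂ} {f f' : G → ℂ} (h : Cent μ f) (h' : Cent μ' f') :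
    Cent (μ * μ') (fun a => f a * f' a) := fun g k => by
  simp only [h g k, h' g k, MonoidHom.mul_apply]
  ring

theorem Cent.conj {μ : K x L →* ℂ} {f : G → ℂ} (h : Cent μ f) :
    Cent ((starRingEnd ℂ).toMonoidHom.comp μ) (fun a => conj (f a)) := fun g k => by
  simp only [h g k, map_mul]
  rfl

/-- The group of exponents of the automorphisms induced by the complement. -/
noncomputable abbrev U0 [Finite G] (hS : Setting p x L) : Subgroup (ZMod p)ˣ := (CyclicDefect.alpha hS).range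

/-- The classes of exponents. -/
abbrev T [Finite G] (hS : Setting p x L) : Type := (ZMod p)ˣ ⧸ U0 hS

noncomputable instance instFintypeClasses [Finite G] (hS : Setting p x L) : Fintype (T hS) := Fintype.ofFinite _

/-- The hypotheses on the local structure. -/
structure CCore [Finite G] (p : ℕ) [Fact p.Prime] (x : G) (L : Subgroup G) (e t : ℕ) : Prop where
  hS : Setting p x L
  hK : ∀ k : K x L, ((k : L) : G) ∈ Subgroup.center G
  hperf : commutator G = ⊤
  he : (K x L).index = e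
  he2 : 2 ≤ e
  hte : t * e = p - 1
  ht2 : 2 ≤ t

variable [Finite G] {e t : ℕ} (h : CCore p x L e t)
include h

theorem card_U0 : Nat.card (U0 h.hS) = e := by
  rw [← Subgroup.index_ker, ker_alpha h.hS, h.he]

theorem card_classes : Nat.card (T h.hS) = t := by
  have h1 := Subgroup.card_eq_card_quotient_mul_card_subgroup (U0 h.hS)
  rw [Nat.card_eq_fintype_card (α := (ZMod p)ˣ), ZMod.card_units, card_U0 h, ← h.hte] at h1
  exact (Nat.eq_of_mul_eq_mul_right (by have := h.he2; omega) h1).symm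

theorem x_not_central : x ∉ Subgroup.center G := by
  intro hx
  have htop : K x L = ⊤ := by
    refine eq_top_iff.mpr fun l _ => mem_K.mpr ?_
    exact (Subgroup.mem_center_iff.mp hx (l : G)).symm
  have h1 := h.he
  rw [htop, Subgroup.index_top] at h1
  have := h.he2
  omega

theorem exists_K_of_center {z : G} (hz : z ∈ Subgroup.center G) : ∃ k : K x L, z = ((k : L) : G) := by
  have hc : Commute x z := Subgroup.mem_center_iff.mp hz x
  obtain ⟨i, k, hik⟩ := h.hS.decomp hc
  have hi : i = 0 := by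
    by_contra hi
    refine x_not_central h (Subgroup.mem_center_iff.mpr fun g => ?_)
    have hpi : pw x i ∈ Subgroup.center G := by
      rw [show pw x i = z * (((k : L) : G))⁻¹ by rw [hik, mul_inv_cancel_right]]
      exact mul_mem hz (inv_mem (h.hK k))
    exact ((h.hS.commute_pw_iff hi).mp (Subgroup.mem_center_iff.mp hpi g).symm).eq.symm
  exact ⟨k, by rw [hik, hi, h.hS.pw_zero, one_mul]⟩

theorem cjIrr_eq (l : L) (η : IrrCharacter (K x L)) : cjIrr h.hS l η = η := by
  rw [cjIrr_eq_iff h.hS]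
  intro k k' e'
  have : k' = k := by
    refine Subtype.ext (Subtype.ext ?_)
    have e1 : ((k' : L) : G) = (l : G) * ((k : L) : G) * (l : G)⁻¹ := by rw [e']; simp
    rw [e1, Subgroup.mem_center_iff.mp (h.hK k) (l : G), mul_inv_cancel_right]
  rw [this]

theorem U_eq (η : IrrCharacter (K x L)) : U h.hS (η : K x L → ℂ) = U0 h.hS := by
  ext a
  constructor
  · intro ha
    obtain ⟨l, -, rfl⟩ := (mem_U h.hS).mp ha
    exact ⟨l, rfl⟩
  · rintro ⟨l, rfl⟩
    exact (alpha_mem_U_iff h.hS l).mpr (cjIrr_eq h l η)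

theorem norm_hom (μ : K x L →* ℂ) (k : K x L) : μ k * conj (μ k) = 1 := by
  have h1 : μ k ^ Nat.card (K x L) = 1 := by rw [← map_pow, pow_card_eq_one', map_one]
  rw [Complex.mul_conj', Complex.norm_eq_one_of_pow_eq_one h1 Nat.card_pos.ne']
  norm_num

/-- Every irreducible character has a central character. -/
theorem exists_cent (χ : IrrCharacter G) : ∃ μ : K x L →* ℂ, Cent μ (χ : G → ℂ) := by
  have h1 : (χ : G → ℂ) 1 ≠ 0 := irr_one_ne_zero χ
  choose ω hω using fun k : K x L => DegPMinusTwo.exists_scalar χ (h.hK k)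
  have hval : ∀ (k : K x L) (g : G), (χ : G → ℂ) (g * ((k : L) : G)) = (χ : G → ℂ) g * ω k := fun k g => by
    rw [Subgroup.mem_center_iff.mp (h.hK k) g, (hω k).2.1, mul_comm]
  refine ⟨{ toFun := ω, map_one' := ?_, map_mul' := fun a b => ?_ }, fun g k => hval k g⟩
  · have := hval 1 1
    simpa [h1] using this
  · have e1 := hval (a * b) 1
    rw [Subgroup.coe_mul, Subgroup.coe_mul, one_mul] at e1
    have e2 := hval b ((a : L) : G)
    have e3 := hval a 1
    rw [one_mul] at e3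
    exact mul_left_cancel₀ h1 (e1.symm.trans (e2.trans (by rw [e3]; ring)))

/-- The central character of an irreducible character. -/
noncomputable def cch (χ : IrrCharacter G) : K x L →* ℂ := (exists_cent h χ).choose

theorem cch_spec (χ : IrrCharacter G) : Cent (cch h χ) (χ : G → ℂ) := (exists_cent h χ).choose_spec

theorem cch_unique {χ : IrrCharacter G} {μ : K x L →* ℂ} (hμ : Cent μ (χ : G → ℂ)) : cch h χ = μ :=
  MonoidHom.ext fun k => mul_left_cancel₀ (irr_one_ne_zero χ) ((cch_spec h χ 1 k).symm.trans (hμ 1 k))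

/-- A character of `K` with values the homomorphism. -/
noncomputable def irrK (μ : K x L →* ℂ) : IrrCharacter (K x L) := ⟨μ, Char.isIrrCharacter_of_hom μ⟩

theorem dec_eq_pw {μ : K x L →* ℂ} {f : G → ℂ} (hf : Cent μ f) (i : ZMod p) :
    dec f (irrK μ : K x L → ℂ) i = f (pw x i) := by
  have := Fintype.ofFinite (K x L)
  rw [dec_eq, classInner]
  have : ∀ k : K x L, f (pw x i * ((k : L) : G)) * conj ((irrK μ : K x L → ℂ) k) = f (pw x i) := fun k => by
    rw [hf, mul_assoc, show (irrK μ : K x L → ℂ) k = μ k from rfl, norm_hom h μ k, mul_one]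
  rw [Finset.sum_congr rfl fun k _ => this k, Finset.sum_const, Finset.card_univ, nsmul_eq_mul,
    ← Nat.card_eq_fintype_card, inv_mul_cancel_left₀ (Nat.cast_ne_zero.mpr Nat.card_pos.ne')]

theorem dec_eq_zero_of_ne {μ : K x L →* ℂ} {f : G → ℂ} (hf : Cent μ f) {φ : IrrCharacter (K x L)}
    (hφ : φ ≠ irrK μ) (i : ZMod p) : dec f (φ : K x L → ℂ) i = 0 := by
  have := Fintype.ofFinite (K x L)
  rw [dec_eq, show (fun k : K x L => f (pw x i * ((k : L) : G))) = f (pw x i) • (irrK μ : K x L → ℂ) from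
    funext fun k => hf _ k, Char.classInner_smul_left,
    Char.classInner_irr_of_ne (irrK μ).2 φ.2 (fun e' => hφ (Subtype.ext e'.symm)), mul_zero]

theorem exists_N (χ : IrrCharacter G) (j : ZMod p) : ∃ n : ℕ, mu x (χ : G → ℂ) j = n := by
  obtain ⟨n, hn⟩ := exists_mult_eq h.hS (Char.IsIrrCharacter.isCharacter χ.2) (irrK (cch h χ)) j
  refine ⟨n, ?_⟩
  rw [← hn, mu, mult]
  simp only [dec_eq_pw h (cch_spec h χ)]

/-- The multiplicity of the exponent `j` in an irreducible character. -/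
noncomputable def N (χ : IrrCharacter G) (j : ZMod p) : ℕ := (exists_N h χ j).choose

theorem N_spec (χ : IrrCharacter G) (j : ZMod p) : mu x (χ : G → ℂ) j = (N h χ j : ℂ) :=
  (exists_N h χ j).choose_spec

theorem multN_eq_N {χ : IrrCharacter G} {μ : K x L →* ℂ} (hμ : Cent μ (χ : G → ℂ)) (j : ZMod p) :
    multN h.hS χ (irrK μ) j = N h χ j := by
  apply Nat.cast_injective (R := ℂ)
  rw [← multN_spec h.hS, ← N_spec h, mult, mu]
  simp only [dec_eq_pw h hμ]

theorem deg_eq_sum (χ : IrrCharacter G) : charDegree (χ : G → ℂ) = ∑ j : ZMod p, N h χ j := by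
  apply Nat.cast_injective (R := ℂ)
  rw [charDegree_cast, Nat.cast_sum, ← h.hS.pw_zero, apply_pw_eq_sum (x := x) (p := p) (χ : G → ℂ)]
  exact Finset.sum_congr rfl fun j _ => by rw [zero_mul, ζ_zero, mul_one, N_spec h]

theorem bInt_eq {χ : IrrCharacter G} {μ : K x L →* ℂ} (hμ : Cent μ (χ : G → ℂ)) (j : ZMod p) :
    bInt h.hS χ (irrK μ) j = (N h χ j : ℤ) - N h χ 0 := by
  rw [bInt_eq_sub, multN_eq_N h hμ, multN_eq_N h hμ]

theorem cent_of_bInt_ne_zero {χ : IrrCharacter G} {μ : K x L →* ℂ} {j : ZMod p}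
    (hne : bInt h.hS χ (irrK μ) j ≠ 0) : Cent μ (χ : G → ℂ) := by
  by_contra hn
  refine hne (Int.cast_injective (α := ℂ) ?_)
  have hne' : irrK μ ≠ irrK (cch h χ) := fun e' => hn (by
    have : μ = cch h χ := MonoidHom.ext fun k => congrFun (congrArg Subtype.val e') k
    rw [this]; exact cch_spec h χ)
  rw [Int.cast_zero, ← bInt_spec h.hS, bval]
  simp [dec_eq_zero_of_ne h (cch_spec h χ) hne']

/-- The indicator of a class of exponents. -/
noncomputable def ind (c : T h.hS) (j : ZMod p) : ℤ :=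
  if j ∈ cs (U0 h.hS) c then 1 else 0

theorem ind_zero (c : T h.hS) : ind h c (0 : ZMod p) = 0 :=
  if_neg fun hm => ne_zero_of_mem_cs _ hm rfl

theorem ind_unit [DecidableEq (T h.hS)] (c : T h.hS) (u : (ZMod p)ˣ) :
    ind h c (u : ZMod p) = if (u : T h.hS) = c then 1 else 0 := by
  unfold ind
  exact if_congr (unit_mem_cs _) rfl rfl

/-- The exceptional family over a central character. -/
structure Fam (μ : K x L →* ℂ) where
  exc : T h.hS → IrrCharacter G
  inj : Function.Injective exc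
  cent : ∀ c, Cent μ (exc c : G → ℂ)
  ε : ℤ
  hε : ε = 1 ∨ ε = -1
  M : ℕ
  row : ∀ c (j : ZMod p), (N h (exc c) j : ℤ) = (M : ℤ) + ε * ind h c j
  cst : ∀ χ : IrrCharacter G, Cent μ (χ : G → ℂ) → χ ∉ Set.range exc →
    ∃ δ : ℤ, (δ = 0 ∨ δ = 1 ∨ δ = -1) ∧ ∀ u : (ZMod p)ˣ, (N h χ (u : ZMod p) : ℤ) = N h χ 0 + δ
  reg : ∀ (c c' : T h.hS) (g : G), ¬ p ∣ orderOf g → (exc c : G → ℂ) g = (exc c' : G → ℂ) g
  count : Nat.card {χ : IrrCharacter G // Cent μ (χ : G → ℂ) ∧ ∃ u : (ZMod p)ˣ, N h χ (u : ZMod p) ≠ N h χ 0} = e + t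

theorem sum_ind (c : T h.hS) : ∑ j : ZMod p, ind h c j = (e : ℤ) := by
  classical
  simp only [ind, Finset.sum_ite_mem, Finset.univ_inter, Finset.sum_const, nsmul_eq_mul, mul_one, card_cs,
    card_U0 h]

theorem Fam.deg {μ : K x L →* ℂ} (A : Fam h μ) (c : T h.hS) :
    (charDegree (A.exc c : G → ℂ) : ℤ) = (p : ℤ) * A.M + A.ε * e := by
  rw [deg_eq_sum h, Nat.cast_sum, Finset.sum_congr rfl fun j _ => A.row c j, Finset.sum_add_distrib,
    ← Finset.mul_sum, sum_ind h, Finset.sum_const, Finset.card_univ, ZMod.card, nsmul_eq_mul]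

open scoped Classical in
theorem exists_fam (μ : K x L →* ℂ) : Nonempty (Fam h μ) := by
  have := Fintype.ofFinite (IrrCharacter G)
  have := Fintype.ofFinite (K x L)
  obtain ⟨M, hM⟩ := CentralChar.exists_pModular p
  set η := irrK μ with hη
  obtain ⟨B, hB, hl, -⟩ := exists_lies h.hS hM η
  obtain ⟨hcard, exc, ε, δ, hinj, hexcB, hε, hexc, hcst, hrel⟩ := block_structure h.hS hM hB hl
  have hU := U_eq h η
  let cv : T h.hS → (ZMod p)ˣ ⧸ U h.hS (η : K x L → ℂ) := fun c => ((c.out : (ZMod p)ˣ) : _ ⧸ U h.hS (η : K x L → ℂ))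
  have hcv : ∀ (u : (ZMod p)ˣ) (c : T h.hS), (u : (ZMod p)ˣ ⧸ U h.hS (η : K x L → ℂ)) = cv c ↔ (u : T h.hS) = c := by
    intro u c
    show (u : (ZMod p)ˣ ⧸ U h.hS (η : K x L → ℂ)) = ((c.out : (ZMod p)ˣ) : _ ⧸ U h.hS (η : K x L → ℂ)) ↔ _
    conv_rhs => rw [← Quotient.out_eq c]
    show _ ↔ (u : T h.hS) = ((c.out : (ZMod p)ˣ) : T h.hS)
    rw [QuotientGroup.eq, QuotientGroup.eq, hU]
  have hinj' : Function.Injective (fun c => exc (cv c)) := fun c c' e' => by
    have := (hcv c.out c').mp (show cv c = cv c' from hinj e')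
    rwa [show ((c.out : (ZMod p)ˣ) : T h.hS) = c from Quotient.out_eq c] at this
  have hb : ∀ (c : T h.hS) (u : (ZMod p)ˣ), bInt h.hS (exc (cv c)) η (u : ZMod p) = ε * ind h c (u : ZMod p) := by
    intro c u
    rw [hexc, ind_unit h, mul_ite, mul_one, mul_zero]
    exact if_congr (hcv u c) rfl rfl
  have hcent : ∀ c, Cent μ (exc (cv c) : G → ℂ) := by
    intro c
    refine cent_of_bInt_ne_zero h (j := ((c.out : (ZMod p)ˣ) : ZMod p)) ?_
    rw [hb, ind_unit h, if_pos (Quotient.out_eq c), mul_one]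
    rcases hε with e' | e' <;> rw [e'] <;> decide
  have hrow : ∀ c (j : ZMod p), (N h (exc (cv c)) j : ℤ) = N h (exc (cv c)) 0 + ε * ind h c j := by
    intro c j
    by_cases hj : j = 0
    · rw [hj, ind_zero h, mul_zero, add_zero]
    · have h1 := hb c (Units.mk0 j hj)
      rw [bInt_eq h (hcent c), Units.val_mk0] at h1
      linarith
  have hreg : ∀ (c c' : T h.hS) (g : G), ¬ p ∣ orderOf g → (exc (cv c) : G → ℂ) g = (exc (cv c') : G → ℂ) g := by
    intro c c' g hg
    have h1 := (hrel g hg (cv c)).trans (hrel g hg (cv c')).symm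
    rw [add_left_cancel_iff] at h1
    exact mul_left_cancel₀ (by rcases hε with e' | e' <;> rw [e'] <;> norm_num) h1
  have hM0 : ∀ c c' : T h.hS, N h (exc (cv c)) 0 = N h (exc (cv c')) 0 := by
    intro c c'
    have hd : ∀ c : T h.hS, (charDegree (exc (cv c) : G → ℂ) : ℤ) = (p : ℤ) * N h (exc (cv c)) 0 + ε * e := fun c => by
      rw [deg_eq_sum h, Nat.cast_sum, Finset.sum_congr rfl fun j _ => hrow c j, Finset.sum_add_distrib,
        ← Finset.mul_sum, sum_ind h, Finset.sum_const, Finset.card_univ, ZMod.card, nsmul_eq_mul]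
    have h1 : charDegree (exc (cv c) : G → ℂ) = charDegree (exc (cv c') : G → ℂ) := Nat.cast_injective (R := ℂ) (by
      rw [charDegree_cast, charDegree_cast]
      exact hreg c c' 1 (by simpa using (Fact.out : p.Prime).ne_one))
    have h2 := hd c
    rw [h1, hd c'] at h2
    have h3 := mul_left_cancel₀ (Nat.cast_ne_zero.mpr (Fact.out : p.Prime).ne_zero) (add_right_cancel h2)
    exact (Nat.cast_injective (R := ℤ) h3).symm
  have hsurj : ∀ c', ∃ c : T h.hS, cv c = c' := fun c' =>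
    ⟨((c'.out : (ZMod p)ˣ) : T h.hS), ((hcv c'.out _).mpr rfl).symm.trans (Quotient.out_eq c')⟩
  refine ⟨⟨fun c => exc (cv c), hinj', hcent, ε, hε, N h (exc (cv 1)) 0, fun c j => ?_, fun χ hχ hn => ?_, hreg, ?_⟩⟩
  · rw [hrow c j, hM0 c 1]
  · by_cases hB' : χ ∈ B
    · obtain ⟨hd, hr⟩ := hcst χ hB' (fun ⟨c', hc'⟩ => hn (by
        obtain ⟨c, hc⟩ := hsurj c'
        exact ⟨c, by rw [← hc'] ; exact congrArg exc hc⟩))
      refine ⟨δ χ, Or.inr hd, fun u => ?_⟩
      have := hr u
      rw [bInt_eq h hχ] at this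
      linarith
    · refine ⟨0, Or.inl rfl, fun u => ?_⟩
      have h0 : bInt h.hS χ η (u : ZMod p) = 0 :=
        by_contra fun hne => hB' (mem_of_bInt_ne_zero h.hS hM hB hl hne)
      rw [bInt_eq h hχ] at h0
      linarith
  · have hU' : Nat.card (U h.hS (η : K x L → ℂ)) = e := by rw [hU, card_U0 h]
    have hT' : Nat.card ((ZMod p)ˣ ⧸ U h.hS (η : K x L → ℂ)) = t :=
      (Nat.card_eq_of_bijective cv ⟨fun c c' e' => hinj' (congrArg exc e'), hsurj⟩).symm.trans (card_classes h)
    refine Eq.trans ?_ (hcard.trans (congrArg₂ (· + ·) hU' hT'))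
    refine Nat.card_congr (Equiv.subtypeEquivRight fun χ => ⟨fun ⟨hχ, u, hu⟩ => ?_, fun hχ => ?_⟩)
    · refine mem_of_bInt_ne_zero h.hS hM hB hl (j := (u : ZMod p)) ?_
      rw [bInt_eq h hχ]
      omega
    · obtain ⟨u, hu⟩ : ∃ u : (ZMod p)ˣ, bInt h.hS χ η (u : ZMod p) ≠ 0 := by
        by_cases hr : χ ∈ Set.range exc
        · obtain ⟨c', rfl⟩ := hr
          refine ⟨c'.out, ?_⟩
          rw [hexc, if_pos (Quotient.out_eq c')]
          rcases hε with e' | e' <;> rw [e'] <;> decide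
        · obtain ⟨hd, hr'⟩ := hcst χ hχ hr
          refine ⟨1, ?_⟩
          rw [hr']
          rcases hd with e' | e' <;> rw [e'] <;> decide
      have hc := cent_of_bInt_ne_zero h hu
      refine ⟨hc, u, fun e' => hu ?_⟩
      rw [bInt_eq h hc, e', sub_self]

end Cfsg.Agent.FeitSmall
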