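/-
Products of exceptional characters (namespace `Cfsg.Agent.FeitSmall`).

Main results: `cm` (multiplicities), `row_formula`, `mu_prod`, `exists_shift` (the multiplicities of the exceptional
characters in a product are shifted cyclotomic numbers), `conjFam`, `mem_of_row`, `N_powIrr`.
-/
import Cfsg.Agent.Lib.FeitSmall.Core
import Cfsg.Agent.Lib.GaloisPow.Twist

set_option autoImplicit false
set_option linter.unusedSectionVars false
set_option linter.style.haveILetI false

open scoped ComplexConjugate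

namespace Cfsg.Agent.FeitSmall

open Cfsg Cfsg.Agent.Blocks Cfsg.Agent.CyclicDefect

variable {G : Type*} [Group G] {p : ℕ} [Fact p.Prime] {x : G} {L : Subgroup G}

open scoped Classical in
/-- The multiplicity of an irreducible character in a character. -/
noncomputable def cm [Fintype G] (f : G → ℂ) (χ : IrrCharacter G) : ℕ :=
  if hh : ∃ n : ℕ, classInner f (χ : G → ℂ) = n then hh.choose else 0

/-- The conjugate character. -/
noncomputable def conjIrr [Finite G] (χ : IrrCharacter G) : IrrCharacter G :=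
  haveI := Fintype.ofFinite G
  ⟨fun g => conj ((χ : G → ℂ) g), Char.IsIrrCharacter.conj χ.2⟩

theorem conjIrr_apply [Finite G] (χ : IrrCharacter G) (g : G) :
    (conjIrr χ : G → ℂ) g = conj ((χ : G → ℂ) g) := rfl

theorem conjIrr_conjIrr [Finite G] (χ : IrrCharacter G) : conjIrr (conjIrr χ) = χ :=
  Subtype.ext (funext fun g => Complex.conj_conj _)

theorem cm_spec [Fintype G] {f : G → ℂ} (hf : IsCharacter G f) (χ : IrrCharacter G) :
    classInner f (χ : G → ℂ) = (cm f χ : ℂ) := by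
  have hh := Char.IsCharacter.classInner_nat hf (Char.IsIrrCharacter.isCharacter χ.2)
  rw [cm, dif_pos hh]
  exact hh.choose_spec

theorem cm_decomp [Fintype G] [Fintype (IrrCharacter G)] {f : G → ℂ} (hf : IsCharacter G f) :
    f = ∑ χ : IrrCharacter G, (cm f χ : ℂ) • (χ : G → ℂ) := by
  obtain ⟨m, hm, hm'⟩ := Char.IsCharacter.decompose hf
  simp only [show ∀ χ : IrrCharacter G, cm f χ = m χ from fun χ =>
    Nat.cast_injective (R := ℂ) ((cm_spec hf χ).symm.trans (hm' χ))]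
  exact hm

theorem mu_eq_sum [Fintype G] [Fintype (IrrCharacter G)] {f : G → ℂ} (hf : IsCharacter G f) (j : ZMod p) :
    mu x f j = ∑ χ : IrrCharacter G, (cm f χ : ℂ) * mu x (χ : G → ℂ) j := by
  conv_lhs => rw [cm_decomp hf]
  exact mu_sum _ _ _ j

theorem cm_eq_of_conj_eq [Fintype G] {f f' : G → ℂ} (hf : IsCharacter G f) (hf' : IsCharacter G f')
    {χ χ' : IrrCharacter G} (heq : classInner f' (χ' : G → ℂ) = conj (classInner f (χ : G → ℂ))) :
    cm f' χ' = cm f χ := by
  rw [cm_spec hf, cm_spec hf', Complex.conj_natCast] at heq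
  exact_mod_cast heq

variable [Fintype G] {e t : ℕ} (h : CCore p x L e t)
include h

theorem cent_of_cm {μ : K x L →* ℂ} {f : G → ℂ} (hf : IsCharacter G f) (hc : Cent μ f) {χ : IrrCharacter G}
    (hne : cm f χ ≠ 0) : Cent μ (χ : G → ℂ) := by
  suffices cch h χ = μ from this ▸ cch_spec h χ
  refine MonoidHom.ext fun k => ?_
  have h1 : classInner f (χ : G → ℂ) = μ k * conj (cch h χ k) * classInner f (χ : G → ℂ) := by
    simp only [classInner]
    conv_lhs => rw [← Equiv.sum_comp (Equiv.mulRight ((k : L) : G))]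
    simp only [Finset.mul_sum]
    refine Finset.sum_congr rfl fun g _ => ?_
    rw [Equiv.coe_mulRight, hc g k, cch_spec h χ g k, map_mul]
    ring
  rw [cm_spec hf] at h1
  have h2 : μ k * conj (cch h χ k) = 1 :=
    mul_right_cancel₀ (Nat.cast_ne_zero.mpr hne) (h1.symm.trans (one_mul _).symm)
  calc cch h χ k = cch h χ k * (μ k * conj (cch h χ k)) := by rw [h2, mul_one]
    _ = μ k := by rw [mul_left_comm, norm_hom h (cch h χ) k, mul_one]

theorem mu_exc {μ : K x L →* ℂ} (A : Fam h μ) (c : T h.hS) (j : ZMod p) :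
    mu x (A.exc c : G → ℂ) j = (((A.M : ℤ) + A.ε * ind h c j : ℤ) : ℂ) := by
  rw [N_spec h, ← A.row c j, Int.cast_natCast]

/-- The rows of a character with a central character. -/
theorem row_formula {μ : K x L →* ℂ} (A : Fam h μ) {f : G → ℂ} (hf : IsCharacter G f) (hc : Cent μ f) :
    ∃ C : ℤ, ∀ u : (ZMod p)ˣ,
      mu x f (u : ZMod p) - mu x f (0 : ZMod p) = ((A.ε * cm f (A.exc (u : T h.hS)) + C : ℤ) : ℂ) := by
  classical
  have := Fintype.ofFinite (IrrCharacter G)
  refine ⟨∑ χ ∈ Finset.univ.filter (· ∉ Set.range A.exc),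
    (cm f χ : ℤ) * ((N h χ ((1 : (ZMod p)ˣ) : ZMod p) : ℤ) - N h χ 0), fun u => ?_⟩
  rw [mu_eq_sum hf, mu_eq_sum hf, ← Finset.sum_sub_distrib]
  simp only [← mul_sub, N_spec h]
  rw [← Finset.sum_filter_add_sum_filter_not Finset.univ (· ∉ Set.range A.exc), add_comm]
  push_cast
  congr 1
  · rw [show Finset.univ.filter (fun χ => ¬ χ ∉ Set.range A.exc) = Finset.univ.image A.exc by
      ext χ; simp [eq_comm], Finset.sum_image fun a _ b _ e' => A.inj e']
    have : ∀ c, (cm f (A.exc c) : ℂ) * ((N h (A.exc c) (u : ZMod p) : ℂ) - (N h (A.exc c) 0 : ℂ)) =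
        if (u : T h.hS) = c then (A.ε : ℂ) * (cm f (A.exc c) : ℂ) else 0 := by
      intro c
      have h1 : ((N h (A.exc c) (u : ZMod p) : ℤ) : ℂ) - ((N h (A.exc c) 0 : ℤ) : ℂ) =
          ((A.ε * ind h c (u : ZMod p) : ℤ) : ℂ) := by
        rw [← Int.cast_sub, A.row, A.row, ind_zero h, mul_zero, add_zero, add_sub_cancel_left]
      push_cast at h1
      rw [h1, ind_unit h]
      split_ifs <;> push_cast <;> ring
    rw [Finset.sum_congr rfl fun c _ => this c, Finset.sum_ite_eq, if_pos (Finset.mem_univ _)]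
  · refine Finset.sum_congr rfl fun χ hχ => ?_
    by_cases h0 : cm f χ = 0
    · simp [h0]
    · obtain ⟨δ, -, hδ⟩ := A.cst χ (cent_of_cm h hf hc h0) (Finset.mem_filter.mp hχ).2
      have e1 := hδ u
      have e2 := hδ 1
      have : ((N h χ (u : ZMod p) : ℤ) : ℂ) = ((N h χ ((1 : (ZMod p)ˣ) : ZMod p) : ℤ) : ℂ) := by rw [e1, e2]
      push_cast at this
      rw [this]

theorem sum_ind_mul (a b : T h.hS) (j : ZMod p) :
    ∑ u : ZMod p, ind h a u * ind h b (j - u) = (nuAt (U0 h.hS) a b j : ℤ) := by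
  classical
  simp only [ind, ite_mul, one_mul, zero_mul, Finset.sum_ite_mem, Finset.univ_inter, nuAt, Finset.card_filter,
    Nat.cast_sum]
  exact Finset.sum_congr rfl fun u _ => by split_ifs <;> simp

/-- The multiplicities on `⟨x⟩` of a product of two exceptional characters. -/
theorem mu_prod {μ μ' : K x L →* ℂ} (A : Fam h μ) (B : Fam h μ') (a b : T h.hS) (j : ZMod p) :
    mu x (fun g => (A.exc a : G → ℂ) g * (B.exc b : G → ℂ) g) j =
      (((p : ℤ) * (A.M * B.M) + ((A.M : ℤ) * B.ε + B.M * A.ε) * e +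
        A.ε * B.ε * nuAt (U0 h.hS) a b j : ℤ) : ℂ) := by
  rw [mu_mul]
  simp only [mu_exc h, ← Int.cast_mul, ← Int.cast_sum]
  congr 1
  rw [← sum_ind_mul h a b j]
  have hs : ∑ u : ZMod p, ind h b (j - u) = (e : ℤ) :=
    (Fintype.sum_equiv (Equiv.subLeft j) _ _ fun u => rfl).trans (sum_ind h b)
  have : ∀ u : ZMod p, ((A.M : ℤ) + A.ε * ind h a u) * ((B.M : ℤ) + B.ε * ind h b (j - u)) =
      (A.M : ℤ) * B.M + (A.M : ℤ) * B.ε * ind h b (j - u) + (B.M : ℤ) * A.ε * ind h a u +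
        A.ε * B.ε * (ind h a u * ind h b (j - u)) := fun u => by ring
  simp only [this, Finset.sum_add_distrib, ← Finset.mul_sum, sum_ind h, hs, Finset.sum_const, Finset.card_univ,
    ZMod.card, nsmul_eq_mul]
  ring

theorem cent_prod {μ μ' : K x L →* ℂ} (A : Fam h μ) (B : Fam h μ') (a b : T h.hS) :
    Cent (μ * μ') (fun g => (A.exc a : G → ℂ) g * (B.exc b : G → ℂ) g) :=
  (A.cent a).mul (B.cent b)

theorem isCharacter_prod {μ μ' : K x L →* ℂ} (A : Fam h μ) (B : Fam h μ') (a b : T h.hS) :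
    IsCharacter G (fun g => (A.exc a : G → ℂ) g * (B.exc b : G → ℂ) g) :=
  Char.IsCharacter.mul (Char.IsIrrCharacter.isCharacter (A.exc a).2) (Char.IsIrrCharacter.isCharacter (B.exc b).2)

theorem ind_neg (c : T h.hS) (j : ZMod p) : ind h c (-j) = ind h (negOne (U0 h.hS) * c) j := by
  unfold ind
  refine if_congr ?_ rfl rfl
  rw [← neg_mem_cs (U0 h.hS), neg_neg]

theorem N_conjIrr (χ : IrrCharacter G) (j : ZMod p) : N h (conjIrr χ) j = N h χ (-j) := by
  apply Nat.cast_injective (R := ℂ)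
  rw [← N_spec h, ← Complex.conj_natCast (N h χ (-j)), ← N_spec h, mu, mu, map_mul, map_inv₀, Complex.conj_natCast,
    map_sum]
  congr 1
  refine Finset.sum_congr rfl fun i _ => ?_
  rw [map_mul, conj_ζ, conjIrr_apply, mul_neg, neg_neg]

theorem cent_conjIrr {μ : K x L →* ℂ} {χ : IrrCharacter G} :
    Cent ((starRingEnd ℂ).toMonoidHom.comp μ) (conjIrr χ : G → ℂ) ↔ Cent μ (χ : G → ℂ) := by
  refine ⟨fun hc g k => ?_, fun hc => hc.conj⟩
  have := congrArg conj (hc g k)
  simpa [conjIrr_apply] using this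

/-- The conjugate family. -/
noncomputable def conjFam {μ : K x L →* ℂ} (A : Fam h μ) : Fam h ((starRingEnd ℂ).toMonoidHom.comp μ) where
  exc c := conjIrr (A.exc (negOne (U0 h.hS) * c))
  inj c c' e' := mul_left_cancel (A.inj (by
    have := congrArg conjIrr e'
    rwa [conjIrr_conjIrr, conjIrr_conjIrr] at this))
  cent c := (cent_conjIrr h).mpr (A.cent _)
  ε := A.ε
  hε := A.hε
  M := A.M
  row c j := by rw [N_conjIrr h, A.row, ind_neg h, negOne_mul_negOne_mul]
  cst χ hχ hn := by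
    have hc : Cent μ (conjIrr χ : G → ℂ) := (cent_conjIrr h).mp (by rwa [conjIrr_conjIrr])
    obtain ⟨δ, hδ, hr⟩ := A.cst (conjIrr χ) hc fun ⟨c, hc'⟩ => hn ⟨negOne (U0 h.hS) * c, by
      show conjIrr (A.exc (negOne (U0 h.hS) * (negOne (U0 h.hS) * c))) = χ
      rw [negOne_mul_negOne_mul, hc', conjIrr_conjIrr]⟩
    refine ⟨δ, hδ, fun u => ?_⟩
    have := hr (-u)
    rwa [N_conjIrr h, N_conjIrr h, neg_zero, Units.val_neg, neg_neg] at this
  reg c c' g hg := by simp only [conjIrr_apply, A.reg _ (negOne (U0 h.hS) * c') g hg]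
  count := by
    rw [← A.count]
    refine Nat.card_congr
      { toFun := fun χ => ⟨conjIrr χ.1, (cent_conjIrr h).mp (by rw [conjIrr_conjIrr]; exact χ.2.1), ?_⟩
        invFun := fun χ => ⟨conjIrr χ.1, (cent_conjIrr h).mpr χ.2.1, ?_⟩
        left_inv := fun χ => Subtype.ext (conjIrr_conjIrr _)
        right_inv := fun χ => Subtype.ext (conjIrr_conjIrr _) }
    · obtain ⟨u, hu⟩ := χ.2.2
      refine ⟨-u, ?_⟩
      rwa [N_conjIrr h, N_conjIrr h, neg_zero, Units.val_neg, neg_neg]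
    · obtain ⟨u, hu⟩ := χ.2.2
      refine ⟨-u, ?_⟩
      rwa [N_conjIrr h, N_conjIrr h, neg_zero, Units.val_neg, neg_neg]

/-- The shift of the multiplicities. -/
noncomputable def kap {μ μ' ν : K x L →* ℂ} (A : Fam h μ) (B : Fam h μ') (C : Fam h ν) (a b : T h.hS) : ℤ :=
  C.ε * cm (fun g => (A.exc a : G → ℂ) g * (B.exc b : G → ℂ) g) (C.exc 1) - A.ε * B.ε * nu (U0 h.hS) a b 1

theorem eps_mul {μ : K x L →* ℂ} (A : Fam h μ) : A.ε * A.ε = 1 := by
  rcases A.hε with e' | e' <;> rw [e'] <;> norm_num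

theorem cm_eq_kap {μ μ' ν : K x L →* ℂ} (A : Fam h μ) (B : Fam h μ') (C : Fam h ν) (hν : ν = μ * μ')
    (a b γ : T h.hS) : (cm (fun g => (A.exc a : G → ℂ) g * (B.exc b : G → ℂ) g) (C.exc γ) : ℤ) =
      C.ε * (A.ε * B.ε * nu (U0 h.hS) a b γ + kap h A B C a b) := by
  obtain ⟨C0, hC0⟩ := row_formula h C (isCharacter_prod h A B a b) (hν ▸ cent_prod h A B a b)
  have key : ∀ γ : T h.hS, A.ε * B.ε * (nu (U0 h.hS) a b γ : ℤ) - A.ε * B.ε * nuAt (U0 h.hS) a b 0 =
      C.ε * cm (fun g => (A.exc a : G → ℂ) g * (B.exc b : G → ℂ) g) (C.exc γ) + C0 := by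
    intro γ
    have h1 := hC0 γ.out
    rw [mu_prod h, mu_prod h, ← Int.cast_sub, Int.cast_inj, show ((γ.out : (ZMod p)ˣ) : T h.hS) = γ from
      Quotient.out_eq γ] at h1
    rw [show nu (U0 h.hS) a b γ = nuAt (U0 h.hS) a b ((γ.out : (ZMod p)ˣ) : ZMod p) from rfl]
    linarith
  have e1 := key γ
  have e2 := key 1
  rw [kap]
  linear_combination (-(C.ε)) * e1 + C.ε * e2 - ((cm (fun g => (A.exc a : G → ℂ) g * (B.exc b : G → ℂ) g) (C.exc γ) : ℤ)) * eps_mul h C

/-- The shift does not depend on the first argument. -/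
theorem kap_left {μ μ' ν : K x L →* ℂ} (A : Fam h μ) (B : Fam h μ') (C : Fam h ν) (hν : ν = μ * μ')
    (a a' b : T h.hS) : kap h A B C a b = kap h A B C a' b := by
  set B' := conjFam h B with hB'
  set b' := negOne (U0 h.hS) * b with hb'
  have hμ : μ = ν * (starRingEnd ℂ).toMonoidHom.comp μ' := MonoidHom.ext fun k => by
    rw [hν, MonoidHom.mul_apply, MonoidHom.mul_apply, mul_assoc]
    exact (show μ k = μ k * (μ' k * conj (μ' k)) by rw [norm_hom h μ' k, mul_one])
  have hkey : ∀ a : T h.hS, cm (fun g => (A.exc a : G → ℂ) g * (B.exc b : G → ℂ) g) (C.exc 1) =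
      cm (fun g => (C.exc 1 : G → ℂ) g * (B'.exc b' : G → ℂ) g) (A.exc a) := by
    intro a
    refine cm_eq_of_conj_eq (isCharacter_prod h C B' 1 b') (isCharacter_prod h A B a b) ?_
    rw [classInner, classInner, map_mul, map_inv₀, Complex.conj_natCast, map_sum]
    congr 1
    refine Finset.sum_congr rfl fun g _ => ?_
    rw [show (B'.exc b' : G → ℂ) g = conj ((B.exc b : G → ℂ) g) by
      show (conjIrr (B.exc (negOne (U0 h.hS) * (negOne (U0 h.hS) * b))) : G → ℂ) g = _
      rw [negOne_mul_negOne_mul]; rfl]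
    simp only [map_mul, Complex.conj_conj]
    ring
  have hval : ∀ a : T h.hS, kap h A B C a b = C.ε * A.ε * kap h C B' A 1 b' := by
    intro a
    have e1 := cm_eq_kap h A B C hν a b 1
    have e2 := cm_eq_kap h C B' A hμ 1 b' a
    rw [hkey a, show nu (U0 h.hS) a b 1 = nu (U0 h.hS) 1 b' a by rw [nu_rotate, nu_comm]] at e1
    have hBε : B'.ε = B.ε := rfl
    rw [hBε] at e2
    linear_combination C.ε * e2 - C.ε * e1 - kap h A B C a b * eps_mul h C
  rw [hval a, hval a']

theorem kap_swap {μ μ' ν : K x L →* ℂ} (A : Fam h μ) (B : Fam h μ') (C : Fam h ν) (a b : T h.hS) :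
    kap h B A C b a = kap h A B C a b := by
  rw [kap, kap, nu_comm, mul_comm B.ε,
    show (fun g => (B.exc b : G → ℂ) g * (A.exc a : G → ℂ) g) = fun g => (A.exc a : G → ℂ) g * (B.exc b : G → ℂ) g from
      funext fun g => mul_comm _ _]

/-- The multiplicities of the exceptional characters in a product are shifted cyclotomic numbers. -/
theorem exists_shift {μ μ' ν : K x L →* ℂ} (A : Fam h μ) (B : Fam h μ') (C : Fam h ν) (hν : ν = μ * μ') :
    ∃ k : ℤ, ∀ a b γ : T h.hS, (cm (fun g => (A.exc a : G → ℂ) g * (B.exc b : G → ℂ) g) (C.exc γ) : ℤ) =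
      C.ε * (A.ε * B.ε * nu (U0 h.hS) a b γ + k) := by
  refine ⟨kap h A B C 1 1, fun a b γ => ?_⟩
  rw [cm_eq_kap h A B C hν, kap_left h A B C hν a 1 b, ← kap_swap h A B C 1 b,
    kap_left h B A C (by rw [hν, mul_comm]) b 1 1, kap_swap h A B C 1 1]

/-- A character with an exceptional row is exceptional. -/
theorem mem_of_row {μ : K x L →* ℂ} (A : Fam h μ) {χ : IrrCharacter G} (hχ : Cent μ (χ : G → ℂ))
    {M' : ℕ} {ε' : ℤ} (hε' : ε' = 1 ∨ ε' = -1) {c : T h.hS}
    (hrow : ∀ j : ZMod p, (N h χ j : ℤ) = (M' : ℤ) + ε' * ind h c j) :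
    A.exc c = χ ∧ A.ε = ε' ∧ A.M = M' := by
  classical
  have hne' : ε' ≠ 0 := by rcases hε' with e' | e' <;> rw [e'] <;> norm_num
  have hu : ind h c ((c.out : (ZMod p)ˣ) : ZMod p) = 1 := by rw [ind_unit h, if_pos (Quotient.out_eq c)]
  by_cases hr : χ ∈ Set.range A.exc
  · obtain ⟨c', rfl⟩ := hr
    have h0 := hrow 0
    rw [A.row, ind_zero h, ind_zero h] at h0
    have hM : A.M = M' := by omega
    have h1 := hrow ((c.out : (ZMod p)ˣ) : ZMod p)
    rw [A.row, hu, hM, ind_unit h, show ((c.out : (ZMod p)ˣ) : T h.hS) = c from Quotient.out_eq c] at h1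
    split_ifs at h1 with hc
    · exact ⟨by rw [hc], by linarith, hM⟩
    · exact absurd (by linarith : ε' = 0) hne'
  · exfalso
    obtain ⟨δ, -, hδ⟩ := A.cst χ hχ hr
    haveI : Nontrivial (T h.hS) := Finite.one_lt_card_iff_nontrivial.mp (by rw [card_classes h]; exact h.ht2)
    obtain ⟨d, hd⟩ := exists_ne c
    have e1 := (hδ c.out).symm.trans (hrow _)
    have e2 := (hδ d.out).symm.trans (hrow _)
    rw [hu] at e1
    rw [ind_unit h, if_neg (by rw [show ((d.out : (ZMod p)ˣ) : T h.hS) = d from Quotient.out_eq d]; exact hd)] at e2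
    exact hne' (by linarith)

theorem N_powIrr {k : ℕ} (hk : k.Coprime (Nat.card G)) (χ : IrrCharacter G) (j : ZMod p) :
    N h (GaloisPow.powIrr hk χ) ((k : ZMod p) * j) = N h χ j := by
  apply Nat.cast_injective (R := ℂ)
  rw [← N_spec h, ← N_spec h]
  have hk0 : (k : ZMod p) ≠ 0 := by
    rw [Ne, ZMod.natCast_eq_zero_iff]
    intro hd
    have h1 : p ∣ Nat.card G := h.hS.hx ▸ orderOf_dvd_natCard x
    exact (Fact.out : p.Prime).ne_one (Nat.eq_one_of_dvd_coprimes hk hd h1)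
  refine (mu_of_expansion (c := fun j' => mu x (χ : G → ℂ) ((k : ZMod p)⁻¹ * j')) (fun i => ?_) _).trans
    (by rw [inv_mul_cancel_left₀ hk0])
  show (χ : G → ℂ) (pw x i ^ k) = _
  rw [h.hS.pw_pow, apply_pw_eq_sum (χ : G → ℂ)]
  refine Fintype.sum_equiv (Equiv.mulLeft₀ (k : ZMod p) hk0) _ _ fun j' => ?_
  rw [show Equiv.mulLeft₀ (k : ZMod p) hk0 j' = (k : ZMod p) * j' from rfl, inv_mul_cancel_left₀ hk0]
  congr 2
  ring

end Cfsg.Agent.FeitSmall
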