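/-
A character of degree less than `p - 1` with the positive sign (namespace `Cfsg.Agent.FeitSmall`).

Main results: `eq_one_of_apply`, `row_step`, `half_of_plus` (the degree is at most `(p - 1) / 2`).
-/
import Cfsg.Agent.Lib.FeitSmall.Local
import Cfsg.Agent.Lib.FeitSmall.Product
import Cfsg.Agent.Lib.HalfDegree.Reduction

set_option autoImplicit false
set_option linter.unusedSectionVars false
set_option linter.style.haveILetI false

open scoped ComplexConjugate

namespace Cfsg.Agent.FeitSmall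

open Cfsg Cfsg.Agent.Blocks Cfsg.Agent.CyclicDefect

variable {G : Type*} [Group G] [Finite G] {p : ℕ} [Fact p.Prime] {x : G} {L : Subgroup G}
variable (hS : Setting p x L) {M : Ideal AlgInt} (hM : IsPModular p M)
include hS

/-- Only the trivial character is trivial on `x`. -/
theorem eq_one_of_apply (hgen : Subgroup.closure {g : G | orderOf g = p} = ⊤) {χ : IrrCharacter G}
    (hx : (χ : G → ℂ) x = (χ : G → ℂ) 1) : χ = ⟨1, Char.isIrrCharacter_one⟩ := by
  have := Fintype.ofFinite G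
  have htop : Codegree.kerSub χ = ⊤ := by
    rw [eq_top_iff, ← hgen, Subgroup.closure_le]
    intro g hg
    obtain ⟨c, hc⟩ := HalfDegree.exists_conj_mem hS hg
    have hxk : x ∈ Codegree.kerSub χ := Codegree.mem_kerSub.mpr hx
    have h1 := (Codegree.kerSub_normal χ).conj_mem _ (Subgroup.zpowers_le.mpr hxk hc) c⁻¹
    simpa [mul_assoc] using h1
  by_contra hne
  have hall : ∀ g : G, (χ : G → ℂ) g = (χ : G → ℂ) 1 := fun g =>
    Codegree.mem_kerSub.mp (htop ▸ Subgroup.mem_top g)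
  have h1 : classInner (χ : G → ℂ) (1 : G → ℂ) = (χ : G → ℂ) 1 := by
    rw [classInner]
    simp only [hall, Pi.one_apply, map_one, mul_one, Finset.sum_const, Finset.card_univ, nsmul_eq_mul,
      ← Nat.card_eq_fintype_card]
    rw [inv_mul_cancel_left₀ (Nat.cast_ne_zero.mpr Nat.card_pos.ne')]
  rw [Char.classInner_irr_of_ne χ.2 Char.isIrrCharacter_one (fun e' => hne (Subtype.ext e'))] at h1
  exact irr_one_ne_zero χ h1.symm

/-- The weighted fixed multiplicities. -/
theorem sum_mult_zero [Fintype (IrrCharacter (K x L))] {f : G → ℂ} (hf : IsClassFunction G f) :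
    ∑ φ : IrrCharacter (K x L), (φ : K x L → ℂ) 1 * mult f (φ : K x L → ℂ) (0 : ZMod p) =
      (p : ℂ)⁻¹ * ∑ i : ZMod p, f (pw x i) := by
  have := Fintype.ofFinite (K x L)
  simp only [mult, mul_zero, neg_zero, ζ_zero, one_mul, Finset.mul_sum]
  rw [Finset.sum_comm]
  refine Finset.sum_congr rfl fun i _ => ?_
  have h := apply_eq_sum hS hf i 1
  rw [OneMemClass.coe_one, OneMemClass.coe_one, mul_one] at h
  rw [h, Finset.mul_sum]
  exact Finset.sum_congr rfl fun φ _ => by ring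

omit hS in
theorem excess_le {q n S : ℕ} {d : ℤ} (h : d = (S : ℤ) - q * n) (hd : 0 ≤ ((q : ℤ) - 1) * n + 2 * d) :
    (q + 1) * n ≤ 2 * S := by
  have : ((q : ℤ) + 1) * n ≤ 2 * S := by rw [h] at hd; linarith
  exact_mod_cast this

omit hS in
theorem excess_const {q n : ℕ} (hq : 1 ≤ q) (hn : 2 ≤ n) : (0 : ℤ) ≤ ((q : ℤ) - 1) * n + 2 * (-1 * ((q - 1 : ℕ) : ℤ)) := by
  have h2 : (2 : ℤ) ≤ n := by exact_mod_cast hn
  have h1 : (0 : ℤ) ≤ (q : ℤ) - 1 := by omega
  rw [Nat.cast_sub hq, Nat.cast_one]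
  linarith [mul_le_mul_of_nonneg_left h2 h1]

omit hS in
theorem excess_pos {q n : ℕ} {d : ℤ} (hq : 1 ≤ q) (hd : 0 ≤ d) : (0 : ℤ) ≤ ((q : ℤ) - 1) * n + 2 * d := by
  have h1 : (0 : ℤ) ≤ (q : ℤ) - 1 := by omega
  linarith [mul_nonneg h1 (Int.natCast_nonneg n)]

omit hS in
theorem excess_neg {q n e t : ℕ} (he : e * t = q - 1) (hq : 1 ≤ q) (ht : 2 ≤ t) (hn : 1 ≤ n) :
    (0 : ℤ) ≤ ((q : ℤ) - 1) * n + 2 * (-1 * (e : ℤ)) := by
  have h1 : (0 : ℤ) ≤ (q : ℤ) - 1 := by omega
  have h2 : (e : ℤ) * t = (q : ℤ) - 1 := by rw [← Nat.cast_mul, he]; omega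
  linarith [mul_le_mul_of_nonneg_left (show (1 : ℤ) ≤ n by exact_mod_cast hn) h1,
    mul_le_mul_of_nonneg_left (show (2 : ℤ) ≤ t by exact_mod_cast ht) (Int.natCast_nonneg e)]

include hM

/-- The excess of the degree over the fixed space in one row. -/
theorem row_step (ψ : IrrCharacter G) (φ : IrrCharacter (K x L)) :
    (p + 1) * multN hS ψ φ 0 ≤ 2 * ∑ j : ZMod p, multN hS ψ φ j ∨
      (Lies M x L (blockOf M (ψ : G → ℂ)) φ ∧ multN hS ψ φ 0 = 1 ∧
        ∀ u : (ZMod p)ˣ, multN hS ψ φ (u : ZMod p) = 0) := by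
  classical
  have := Fintype.ofFinite (IrrCharacter G)
  have hp2 := (Fact.out : p.Prime).two_le
  have hle : p + 1 ≤ 2 * p := by omega
  by_cases h : Lies M x L (blockOf M (ψ : G → ℂ)) φ
  swap
  · left
    rw [Finset.sum_congr rfl fun j _ => multN_of_not_lies hS hM ψ h j, Finset.sum_const, Finset.card_univ,
      ZMod.card, smul_eq_mul, ← mul_assoc]
    exact Nat.mul_le_mul_right _ hle
  set n₀ := multN hS ψ φ 0
  set S := ∑ j : ZMod p, multN hS ψ φ j
  have hS' := sum_bInt_eq hS ψ φ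
  obtain ⟨-, exc, ε, δ, -, -, hε, hexc, hcst, -⟩ := block_structure hS hM (B := blockOf M (ψ : G → ℂ)) ⟨ψ, rfl⟩ h
  have hp1 : 1 ≤ p := by omega
  have hbad : ∀ δ : ℤ, δ = -1 → (∀ u : (ZMod p)ˣ, bInt hS ψ φ (u : ZMod p) = δ) →
      (p + 1) * n₀ ≤ 2 * S ∨ (n₀ = 1 ∧ ∀ u : (ZMod p)ˣ, multN hS ψ φ (u : ZMod p) = 0) := by
    intro δ hδ hrow
    rw [sum_bInt_const hS hrow, hδ] at hS'
    have hu : ∀ u : (ZMod p)ˣ, (multN hS ψ φ (u : ZMod p) : ℤ) = (n₀ : ℤ) - 1 := fun u => by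
      have := hrow u
      rw [bInt_eq_sub, hδ] at this
      omega
    rcases Nat.lt_or_ge n₀ 2 with hs | hl
    · refine Or.inr ?_
      have := hu 1
      exact ⟨by omega, fun u => by have := hu u; omega⟩
    · exact Or.inl (excess_le hS' (excess_const hp1 hl))
  by_cases hr : ψ ∈ Set.range exc
  · obtain ⟨c, hc⟩ := hr
    have hrow := hexc c
    rw [hc] at hrow
    rcases hε with e' | e'
    · rw [sum_bInt_exc hS hrow, e'] at hS'
      exact Or.inl (excess_le hS' (excess_pos hp1 (by simp)))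
    · rcases Nat.lt_or_ge 1 (Nat.card ((ZMod p)ˣ ⧸ U hS (φ : K x L → ℂ))) with ht | ht
      · rcases Nat.eq_zero_or_pos n₀ with h0 | h0
        · left; rw [h0, mul_zero]; exact Nat.zero_le _
        rw [sum_bInt_exc hS hrow, e'] at hS'
        exact Or.inl (excess_le hS' (excess_neg (card_units_eq hS (φ : K x L → ℂ)) hp1 ht h0))
      · haveI : Subsingleton ((ZMod p)ˣ ⧸ U hS (φ : K x L → ℂ)) := Finite.card_le_one_iff_subsingleton.mp ht
        refine (hbad ε e' fun u => ?_).imp_right fun hh => ⟨h, hh⟩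
        rw [hrow, if_pos (Subsingleton.elim _ _)]
  · obtain ⟨hδ, hrow⟩ := hcst ψ (mem_blockOf_self hM ψ) hr
    rcases hδ with e' | e'
    · rw [sum_bInt_const hS hrow, e'] at hS'
      exact Or.inl (excess_le hS' (excess_pos hp1 (by simp)))
    · exact (hbad (δ ψ) e' hrow).imp_right fun hh => ⟨h, hh⟩

variable {χ : IrrCharacter G} (R : Row hS M χ)

theorem Row.mult_le_one (hm : multN hS χ R.η 0 = 0) (φ : IrrCharacter (K x L)) (j : ZMod p) :
    multN hS χ φ j ≤ 1 := by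
  classical
  have hη : ∀ j, multN hS χ R.η j ≤ 1 := by
    intro j
    by_cases hj : j = 0
    · rw [hj, hm]; exact Nat.zero_le _
    · have h1 := bInt_eq_sub hS χ R.η ((Units.mk0 j hj : (ZMod p)ˣ) : ZMod p)
      rw [R.row, hm, Units.val_mk0] at h1
      rcases R.hε with e' | e' <;> rw [e'] at h1 <;> split_ifs at h1 <;> omega
  by_cases h : Lies M x L (blockOf M (χ : G → ℂ)) φ
  · obtain ⟨l, rfl⟩ := orbit hS hM ⟨χ, rfl⟩ R.lies h
    have := multN_cjIrr hS χ l R.η (((CyclicDefect.alpha hS l)⁻¹ : (ZMod p)ˣ) * j)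
    rw [← mul_assoc, ← Units.val_mul, mul_inv_cancel, Units.val_one, one_mul] at this
    rw [this]; exact hη _
  · rw [R.nonlying φ h]; exact Nat.zero_le _

open scoped Classical in
theorem Row.sum_plus [Fintype (IrrCharacter (K x L))] (hε : R.ε = 1) (hm : multN hS χ R.η 0 = 0)
    (φ : IrrCharacter (K x L)) :
    ∑ j : ZMod p, multN hS χ φ j =
      if Lies M x L (blockOf M (χ : G → ℂ)) φ then Nat.card (U hS (R.η : K x L → ℂ)) else 0 := by
  have hs := R.sum_eq hS hM
  rw [hε, hm, one_mul, Nat.cast_zero, mul_zero, zero_add, Nat.cast_inj] at hs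
  split_ifs with h
  · rw [(R.sum_all hS hM h).2, hs]
  · exact Finset.sum_eq_zero fun j _ => R.nonlying φ h j

theorem Row.sum_sq (hm : multN hS χ R.η 0 = 0) (φ : IrrCharacter (K x L)) :
    ∑ i : ZMod p, dec (x := x) (χ : G → ℂ) (φ : K x L → ℂ) i * conj (dec (x := x) (χ : G → ℂ) (φ : K x L → ℂ) i) =
      (p : ℂ) * ((∑ j : ZMod p, multN hS χ φ j : ℕ) : ℂ) := by
  rw [← mul_inv_cancel_left₀ (Nat.cast_ne_zero.mpr hS.hp.ne_zero : (p : ℂ) ≠ 0)
    (∑ i : ZMod p, dec (x := x) (χ : G → ℂ) (φ : K x L → ℂ) i * conj (dec (x := x) (χ : G → ℂ) (φ : K x L → ℂ) i)),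
    ← sum_mult_sq, Nat.cast_sum]
  congr 1
  refine Finset.sum_congr rfl fun j _ => ?_
  have := R.mult_le_one hS hM hm φ j
  rw [multN_spec hS, Complex.conj_natCast]
  interval_cases multN hS χ φ j <;> simp

set_option maxHeartbeats 1000000 in
open scoped Classical in
/-- The count when `4 e ≤ p + 2`. -/
theorem Row.plus_small [Fintype G] [Fintype (IrrCharacter (K x L))]
    (hgen : Subgroup.closure {g : G | orderOf g = p} = ⊤) (hE : 2 ≤ (K x L).index) (hε : R.ε = 1)
    (hm : multN hS χ R.η 0 = 0) (h4 : 4 * Nat.card (U hS (R.η : K x L → ℂ)) ≤ p + 2)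
    (h3 : 3 * (K x L).index + 1 ≤ p) : False := by
  have := Fintype.ofFinite (K x L)
  have := Fintype.ofFinite (IrrCharacter G)
  set u := Nat.card (U hS (R.η : K x L → ℂ)) with hu
  set E := (K x L).index with hEdef
  have hTe : _ * u = E := R.card_mul hS hM
  set W : G → ℂ := fun g => (χ : G → ℂ) g * conj ((χ : G → ℂ) g) with hW
  have hWc : IsCharacter G W :=
    Char.IsCharacter.mul (Char.IsIrrCharacter.isCharacter χ.2) (Char.IsCharacter.conj (Char.IsIrrCharacter.isCharacter χ.2))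
  set ψ1 : IrrCharacter G := ⟨1, Char.isIrrCharacter_one⟩ with hψ1def
  have hdecW : ∀ i : ZMod p, dec (x := x) W (oneK x L : K x L → ℂ) i =
      ∑ φ : IrrCharacter (K x L), dec (χ : G → ℂ) (φ : K x L → ℂ) i * conj (dec (χ : G → ℂ) (φ : K x L → ℂ) i) := by
    intro i
    have hf : (fun k : K x L => (χ : G → ℂ) (pw x i * ((k : L) : G))) =
        ∑ φ : IrrCharacter (K x L), dec (χ : G → ℂ) (φ : K x L → ℂ) i • (φ : K x L → ℂ) := by
      funext k
      rw [Finset.sum_apply, apply_eq_sum hS (irr_class χ)]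
      rfl
    have h1 : dec (x := x) W (oneK x L : K x L → ℂ) i =
        classInner (fun k : K x L => (χ : G → ℂ) (pw x i * ((k : L) : G)))
          (fun k : K x L => (χ : G → ℂ) (pw x i * ((k : L) : G))) := by
      simp [dec_eq, classInner, oneK, hW]
    rw [h1, hf, Char.classInner_sum_left]
    refine Finset.sum_congr rfl fun φ _ => ?_
    rw [Char.classInner_smul_left, Char.classInner_sum_right, Finset.sum_eq_single φ (fun φ' _ hne => ?_)
      (fun h => absurd (Finset.mem_univ _) h), Char.classInner_smul_right, Char.classInner_irr_self φ.2, mul_one]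
    rw [Char.classInner_smul_right, Char.classInner_irr_of_ne φ.2 φ'.2 (fun h => hne (Subtype.ext h.symm)), mul_zero]
  let N : IrrCharacter G → ZMod p → ℕ := fun ψ j => multN hS ψ (oneK x L) j
  have hmult : ∀ j, mult W (oneK x L : K x L → ℂ) j = ((∑ ψ : IrrCharacter G, cm W ψ * N ψ j : ℕ) : ℂ) := by
    intro j
    rw [cm_decomp hWc, mult_sum hS, Nat.cast_sum]
    exact Finset.sum_congr rfl fun ψ _ => by rw [multN_spec hS, Nat.cast_mul, ← cm_decomp hWc]
  have hN0 : ∑ ψ : IrrCharacter G, cm W ψ * N ψ 0 = E := by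
    apply Nat.cast_injective (R := ℂ)
    rw [← hmult, mult]
    simp only [mul_zero, neg_zero, ζ_zero, one_mul, hdecW]
    rw [Finset.sum_comm, Finset.sum_congr rfl fun φ _ => R.sum_sq hS hM hm φ, ← Finset.mul_sum,
      inv_mul_cancel_left₀ (Nat.cast_ne_zero.mpr hS.hp.ne_zero : (p : ℂ) ≠ 0), ← Nat.cast_sum, ← hTe]
    simp only [R.sum_plus hS hM hε hm, Finset.sum_ite, Finset.sum_const, smul_eq_mul, mul_zero, add_zero, ← hu]
  have hNtot : ∑ ψ : IrrCharacter G, cm W ψ * ∑ j : ZMod p, N ψ j = E * u := by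
    apply Nat.cast_injective (R := ℂ)
    simp only [Finset.mul_sum]
    rw [Finset.sum_comm, Nat.cast_sum, Finset.sum_congr rfl fun j _ => (hmult j).symm]
    have h1 := dec_eq_sum_mult (x := x) (p := p) W (oneK x L : K x L → ℂ) 0
    simp only [zero_mul, ζ_zero, mul_one] at h1
    rw [← h1, hdecW, ← hTe]
    simp only [dec_zero_eq hS, Complex.conj_natCast, ← Nat.cast_mul, ← Nat.cast_sum, R.sum_plus hS hM hε hm, ite_mul,
      zero_mul, mul_ite, mul_zero]
    congr 1
    simp only [← hu, Finset.sum_ite, Finset.sum_const, smul_eq_mul, mul_zero, add_zero]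
    rw [mul_assoc]
    refine congrArg₂ (· * ·) ?_ rfl
    exact congrArg Finset.card (Finset.ext fun φ => by simp)
  have hcm1 : cm W ψ1 = 1 := by
    apply Nat.cast_injective (R := ℂ)
    rw [← cm_spec hWc, Nat.cast_one, ← Char.classInner_irr_self χ.2]
    simp [classInner, ψ1, hW]
  have hN1 : N ψ1 0 = 1 ∧ ∑ j : ZMod p, N ψ1 j = 1 := by
    have hd : ∀ i : ZMod p, dec (x := x) (ψ1 : G → ℂ) (oneK x L : K x L → ℂ) i = 1 := fun i => by
      rw [dec_eq, classInner]
      simp [ψ1, oneK, ← Nat.card_eq_fintype_card]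
    constructor <;> apply Nat.cast_injective (R := ℂ)
    · rw [← multN_spec hS, mult]
      simp [hd, hS.hp.ne_zero]
    · rw [← dec_zero_eq hS, hd, Nat.cast_one]
  have hstep : ∀ ψ : IrrCharacter G, ψ ≠ ψ1 → cm W ψ ≠ 0 → (p + 1) * N ψ 0 ≤ 2 * ∑ j : ZMod p, N ψ j := by
    intro ψ hne hψ
    refine (row_step hS hM ψ (oneK x L)).resolve_right fun ⟨hl, h0, hz⟩ => hne ?_
    have htot : ∑ j : ZMod p, N ψ j = 1 := by
      rw [Finset.sum_eq_single 0 (fun j _ hj => ?_) (fun h => absurd (Finset.mem_univ _) h)]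
      · exact h0
      · exact hz (Units.mk0 j hj)
    have hk := dec_one_eq_degree hS hM χ h4 (fun φ => ⟨Finset.univ.filter fun j => multN hS χ φ j ≠ 0, ?_,
      fun j hj => by simpa using hj⟩) (cm W) (cm_decomp hWc) hψ (by rw [dec_zero_eq hS, htot]; simp)
    · rw [dec_zero_eq hS, htot, ← charDegree_cast, Nat.cast_inj] at hk
      refine eq_one_of_apply hS hgen (eq_one_of_flat hS ψ fun φ v => ?_)
      by_cases hφ : φ = oneK x L
      · rw [hφ]; exact hz v
      · have h1 := charDegree_eq_sum hS ψ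
        rw [← Finset.add_sum_erase _ _ (Finset.mem_univ (oneK x L)), show ∑ j : ZMod p, multN hS ψ (oneK x L) j = 1 from htot,
          ← hk, show charDegree ((oneK x L : IrrCharacter (K x L)) : K x L → ℂ) = 1 from
            Nat.cast_injective (R := ℂ) (by rw [charDegree_cast, Nat.cast_one]; rfl)] at h1
        have h2 := Finset.sum_eq_zero_iff.mp (by omega : ∑ φ ∈ Finset.univ.erase (oneK x L),
          charDegree ((φ : IrrCharacter (K x L)) : K x L → ℂ) * ∑ j : ZMod p, multN hS ψ φ j = 0) φ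
            (Finset.mem_erase.mpr ⟨hφ, Finset.mem_univ _⟩)
        exact Finset.sum_eq_zero_iff.mp ((Nat.mul_eq_zero.mp h2).resolve_left (charDegree_pos φ).ne') _
          (Finset.mem_univ _)
    · have h1 := R.sum_plus hS hM hε hm φ
      have h2 : (Finset.univ.filter fun j => multN hS χ φ j ≠ 0).card ≤ ∑ j : ZMod p, multN hS χ φ j := by
        rw [Finset.card_filter]
        exact Finset.sum_le_sum fun j _ => by split_ifs <;> omega
      rw [h1] at h2
      split_ifs at h2 <;> omega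
  have hsum := Finset.sum_le_sum (s := Finset.univ.erase ψ1) (f := fun ψ => cm W ψ * ((p + 1) * N ψ 0))
    (g := fun ψ => cm W ψ * (2 * ∑ j : ZMod p, N ψ j)) fun ψ hψ => by
      rcases Nat.eq_zero_or_pos (cm W ψ) with h | h
      · simp [h]
      · exact Nat.mul_le_mul_left _ (hstep ψ (Finset.ne_of_mem_erase hψ) h.ne')
  simp only [mul_left_comm (cm W _), ← Finset.mul_sum] at hsum
  have a0 := Finset.add_sum_erase Finset.univ (fun ψ => cm W ψ * N ψ 0) (Finset.mem_univ ψ1)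
  have a1 := Finset.add_sum_erase Finset.univ (fun ψ => cm W ψ * ∑ j : ZMod p, N ψ j) (Finset.mem_univ ψ1)
  simp only [hN0, hNtot, hcm1, hN1.1, hN1.2, one_mul] at a0 a1
  have hT : 1 ≤ (Finset.univ.filter (Lies M x L (blockOf M (χ : G → ℂ)))).card :=
    Finset.card_pos.mpr ⟨R.η, Finset.mem_filter.mpr ⟨Finset.mem_univ _, R.lies⟩⟩
  have huE : u ≤ E := by rw [← hTe]; exact Nat.le_mul_of_pos_left _ hT
  obtain ⟨E', hE'⟩ : ∃ E', E = E' + 1 := ⟨E - 1, by omega⟩
  rw [hE'] at a0 a1 huE h3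
  rw [show ∑ ψ ∈ Finset.univ.erase ψ1, cm W ψ * N ψ 0 = E' by omega] at hsum
  nlinarith [Nat.mul_le_mul_left (E' + 1) huE, Nat.mul_le_mul_right E' (show 3 * (E' + 1) + 2 ≤ p + 1 by omega)]

set_option maxHeartbeats 1000000 in
open scoped Classical in
/-- The count when `3 |L : K| + 1 = p` and the degree is `2 |L : K|`. -/
theorem Row.plus_large [Fintype G] [Fintype (IrrCharacter (K x L))]
    (hgen : Subgroup.closure {g : G | orderOf g = p} = ⊤) (hε : R.ε = 1) (hm : multN hS χ R.η 0 = 0)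
    (hT : (Finset.univ.filter (Lies M x L (blockOf M (χ : G → ℂ)))).card = 1)
    (hη : charDegree (R.η : K x L → ℂ) = 2) {e : ℕ} (hu : Nat.card (U hS (R.η : K x L → ℂ)) = e)
    (hp : p = 3 * e + 1) (he : 1 ≤ e) : False := by
  have := Fintype.ofFinite (K x L)
  have := Fintype.ofFinite (IrrCharacter G)
  have hdeg : charDegree (χ : G → ℂ) = 2 * e := by
    have hs := R.sum_plus hS hM hε hm R.η
    rw [if_pos R.lies, hu] at hs
    rw [R.degree hS hM, hη, hT, mul_one, hs]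
  have hone : ∀ φ : IrrCharacter (K x L), Lies M x L (blockOf M (χ : G → ℂ)) φ → φ = R.η := fun φ h =>
    Finset.card_le_one.mp hT.le φ (Finset.mem_filter.mpr ⟨Finset.mem_univ _, h⟩) R.η
      (Finset.mem_filter.mpr ⟨Finset.mem_univ _, R.lies⟩)
  have hdec : ∀ φ : IrrCharacter (K x L), φ ≠ R.η → ∀ i : ZMod p, dec (χ : G → ℂ) (φ : K x L → ℂ) i = 0 :=
    fun φ hne i => by
      rw [dec_eq_sum_mult, Finset.sum_eq_zero]
      intro j _
      rw [multN_spec hS, R.nonlying φ (fun h => hne (hone φ h)), Nat.cast_zero, zero_mul]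
  have happly : ∀ (i : ZMod p) (k : K x L), (χ : G → ℂ) (pw x i * ((k : L) : G)) =
      dec (χ : G → ℂ) (R.η : K x L → ℂ) i * (R.η : K x L → ℂ) k := fun i k => by
    rw [apply_eq_sum hS (irr_class χ), Finset.sum_eq_single R.η (fun φ _ hne => by rw [hdec φ hne, zero_mul])
      (fun h => absurd (Finset.mem_univ _) h)]
  set W : G → ℂ := fun g => (χ : G → ℂ) g * conj ((χ : G → ℂ) g) with hW
  have hWc : IsCharacter G W :=
    Char.IsCharacter.mul (Char.IsIrrCharacter.isCharacter χ.2) (Char.IsCharacter.conj (Char.IsIrrCharacter.isCharacter χ.2))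
  set ρ : K x L → ℂ := fun k => (R.η : K x L → ℂ) k * conj ((R.η : K x L → ℂ) k) with hρ
  have hρc : IsCharacter (K x L) ρ :=
    Char.IsCharacter.mul (Char.IsIrrCharacter.isCharacter R.η.2) (Char.IsCharacter.conj (Char.IsIrrCharacter.isCharacter R.η.2))
  let F : IrrCharacter G → ℕ := fun ψ => ∑ φ : IrrCharacter (K x L), charDegree (φ : K x L → ℂ) * multN hS ψ φ 0
  set ψ1 : IrrCharacter G := ⟨1, Char.isIrrCharacter_one⟩ with hψ1def
  -- the fixed space of `W`
  have hF : ∀ ψ : IrrCharacter G, (F ψ : ℂ) = (p : ℂ)⁻¹ * ∑ i : ZMod p, (ψ : G → ℂ) (pw x i) := fun ψ => by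
    rw [← sum_mult_zero hS (irr_class ψ), Nat.cast_sum]
    exact Finset.sum_congr rfl fun φ _ => by rw [Nat.cast_mul, charDegree_cast, multN_spec hS]
  have hFW : ∑ ψ : IrrCharacter G, cm W ψ * F ψ = 4 * e := by
    apply Nat.cast_injective (R := ℂ)
    rw [Nat.cast_sum]
    have h1 : ∀ i : ZMod p, ∑ ψ : IrrCharacter G, (cm W ψ : ℂ) * (ψ : G → ℂ) (pw x i) = W (pw x i) := fun i => by
      conv_rhs => rw [cm_decomp hWc]
      simp [Finset.sum_apply]
    simp only [Nat.cast_mul, hF, Finset.mul_sum]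
    rw [Finset.sum_comm, Finset.sum_congr rfl (g := fun i => (p : ℂ)⁻¹ * W (pw x i)) fun i _ => by
      rw [← h1 i, Finset.mul_sum]
      exact Finset.sum_congr rfl fun ψ _ => by ring, ← Finset.mul_sum]
    have h2 : ∀ i : ZMod p, W (pw x i) = 4 * (dec (x := x) (χ : G → ℂ) (R.η : K x L → ℂ) i *
        conj (dec (x := x) (χ : G → ℂ) (R.η : K x L → ℂ) i)) := fun i => by
      have := happly i 1
      rw [OneMemClass.coe_one, OneMemClass.coe_one, mul_one, ← charDegree_cast R.η, hη] at this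
      simp only [hW, this, map_mul, Complex.conj_natCast]
      push_cast
      ring
    rw [Finset.sum_congr rfl fun i _ => h2 i, ← Finset.mul_sum, R.sum_sq hS hM hm, R.sum_plus hS hM hε hm,
      if_pos R.lies, hu]
    field_simp [hS.hp.ne_zero]
    push_cast
    ring
  -- the restriction of `W` to `K`
  have hrest : ∀ φ : IrrCharacter (K x L), ∑ ψ : IrrCharacter G, cm W ψ * ∑ j : ZMod p, multN hS ψ φ j =
      e * e * cm ρ φ := by
    intro φ
    apply Nat.cast_injective (R := ℂ)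
    have h1 : dec (x := x) W (φ : K x L → ℂ) (0 : ZMod p) = ((e * e * cm ρ φ : ℕ) : ℂ) := by
      rw [Nat.cast_mul, ← cm_spec hρc, ← Char.classInner_smul_left, dec_eq]
      congr 1
      funext k
      have hd0 : dec (x := x) (χ : G → ℂ) (R.η : K x L → ℂ) (0 : ZMod p) = (e : ℂ) := by
        rw [dec_zero_eq hS, R.sum_plus hS hM hε hm, if_pos R.lies, hu]
      show W (pw x 0 * ((k : L) : G)) = _
      simp only [hW, happly 0 k, hd0, map_mul, Complex.conj_natCast, Pi.smul_apply, smul_eq_mul, hρ]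
      push_cast
      ring
    rw [← h1, dec_eq_sum_mult, Nat.cast_sum]
    simp only [zero_mul, ζ_zero, mul_one]
    conv_rhs => rw [cm_decomp hWc]
    simp only [mult_sum hS, multN_spec hS, Nat.cast_mul, Nat.cast_sum, Finset.mul_sum]
    exact Finset.sum_comm
  have hdegW : ∑ ψ : IrrCharacter G, cm W ψ * charDegree (ψ : G → ℂ) = 4 * (e * e) := by
    apply Nat.cast_injective (R := ℂ)
    have h1 := congrFun (cm_decomp hWc) 1
    simp only [Finset.sum_apply, Pi.smul_apply, smul_eq_mul, ← charDegree_cast, hW, hdeg, Complex.conj_natCast] at h1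
    push_cast at h1 ⊢
    rw [← h1]
    ring
  have hρ4 : ∑ φ : IrrCharacter (K x L), cm ρ φ * charDegree (φ : K x L → ℂ) = 4 := by
    apply Nat.cast_injective (R := ℂ)
    have h1 := congrFun (cm_decomp hρc) 1
    simp only [Finset.sum_apply, Pi.smul_apply, smul_eq_mul, ← charDegree_cast, hρ, hη, Complex.conj_natCast] at h1
    push_cast at h1 ⊢
    rw [← h1]
    norm_num
  have hρ1 : cm ρ (oneK x L) = 1 := by
    apply Nat.cast_injective (R := ℂ)
    rw [← cm_spec hρc, Nat.cast_one, ← Char.classInner_irr_self R.η.2]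
    simp [classInner, oneK, hρ]
  have hcm1 : cm W ψ1 = 1 := by
    apply Nat.cast_injective (R := ℂ)
    rw [← cm_spec hWc, Nat.cast_one, ← Char.classInner_irr_self χ.2]
    simp [classInner, ψ1, hW]
  have hd1 : charDegree (ψ1 : G → ℂ) = 1 ∧ F ψ1 = 1 := by
    constructor <;> apply Nat.cast_injective (R := ℂ)
    · rw [charDegree_cast, Nat.cast_one]; rfl
    · rw [hF]; simp [ψ1, hS.hp.ne_zero]
  -- the characters with a short lying row
  let T : IrrCharacter G → Finset (IrrCharacter (K x L)) := fun ψ =>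
    Finset.univ.filter (Lies M x L (blockOf M (ψ : G → ℂ)))
  let bad : IrrCharacter G → Prop := fun ψ => ∃ φ ∈ T ψ, multN hS ψ φ 0 = 1 ∧
    ∀ u : (ZMod p)ˣ, multN hS ψ φ (u : ZMod p) = 0
  let A : IrrCharacter G → ℕ := fun ψ => ∑ φ ∈ T ψ, charDegree (φ : K x L → ℂ)
  let N : IrrCharacter G → ℕ := fun ψ => ∑ φ ∈ (T ψ)ᶜ, charDegree (φ : K x L → ℂ) * multN hS ψ φ 0
  let D : IrrCharacter G → ℕ := fun ψ => if bad ψ then A ψ - N ψ else 0
  have hnon : ∀ (ψ : IrrCharacter G), ∀ φ ∈ (T ψ)ᶜ, ∀ j, multN hS ψ φ j = multN hS ψ φ 0 := fun ψ φ hφ j =>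
    multN_of_not_lies hS hM ψ (fun h => (Finset.mem_compl.mp hφ) (Finset.mem_filter.mpr ⟨Finset.mem_univ _, h⟩)) j
  have hbadT : ∀ ψ, bad ψ → ∀ φ ∈ T ψ, multN hS ψ φ 0 = 1 ∧ ∀ u : (ZMod p)ˣ, multN hS ψ φ (u : ZMod p) = 0 := by
    rintro ψ ⟨φ₀, hφ₀, h0, hz⟩ φ hφ
    obtain ⟨l, rfl⟩ := orbit hS hM ⟨ψ, rfl⟩ (Finset.mem_filter.mp hφ₀).2 (Finset.mem_filter.mp hφ).2
    constructor
    · have := multN_cjIrr hS ψ l φ₀ (0 : ZMod p)
      rwa [mul_zero, h0] at this
    · intro v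
      have := multN_cjIrr hS ψ l φ₀ (((CyclicDefect.alpha hS l)⁻¹ * v : (ZMod p)ˣ) : ZMod p)
      rw [← Units.val_mul, mul_inv_cancel_left, hz] at this
      exact this
  have hFA : ∀ ψ, bad ψ → F ψ = A ψ + N ψ := fun ψ hb => by
    show ∑ φ : IrrCharacter (K x L), _ = _
    rw [← Finset.sum_add_sum_compl (T ψ)]
    exact congrArg₂ (· + ·) (Finset.sum_congr rfl fun φ hφ => by rw [(hbadT ψ hb φ hφ).1, mul_one]) rfl
  have hdA : ∀ ψ, bad ψ → charDegree (ψ : G → ℂ) = A ψ + p * N ψ := fun ψ hb => by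
    rw [charDegree_eq_sum hS ψ, ← Finset.sum_add_sum_compl (T ψ)]
    show _ = _ + p * ∑ φ ∈ (T ψ)ᶜ, _
    rw [Finset.mul_sum]
    refine congrArg₂ (· + ·) (Finset.sum_congr rfl fun φ hφ => ?_) (Finset.sum_congr rfl fun φ hφ => ?_)
    · obtain ⟨h0, hz⟩ := hbadT ψ hb φ hφ
      rw [Finset.sum_eq_single 0 (fun j _ hj => hz (Units.mk0 j hj)) (fun h => absurd (Finset.mem_univ _) h), h0,
        mul_one]
    · rw [Finset.sum_congr rfl fun j _ => hnon ψ φ hφ j, Finset.sum_const, Finset.card_univ, ZMod.card, smul_eq_mul]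
      ring
  have hstep : ∀ ψ : IrrCharacter G, (p + 1) * F ψ ≤ 2 * charDegree (ψ : G → ℂ) + (p - 1) * D ψ := by
    intro ψ
    by_cases hb : bad ψ
    · rw [hFA ψ hb, hdA ψ hb, show D ψ = A ψ - N ψ from if_pos hb]
      have h1 : (p - 1) * A ψ ≤ (p - 1) * N ψ + (p - 1) * (A ψ - N ψ) := by
        rw [← mul_add]; exact Nat.mul_le_mul_left _ (by omega)
      obtain ⟨q, hq⟩ : ∃ q, p = q + 1 := ⟨p - 1, by omega⟩
      rw [hq, Nat.add_sub_cancel] at h1 ⊢
      linarith
    · refine le_trans ?_ (Nat.le_add_right _ _)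
      rw [charDegree_eq_sum hS ψ, Finset.mul_sum, Finset.mul_sum]
      refine Finset.sum_le_sum fun φ _ => ?_
      rcases row_step hS hM ψ φ with h | ⟨hl, h0, hz⟩
      · rw [mul_left_comm (p + 1), mul_left_comm 2]
        exact Nat.mul_le_mul_left _ h
      · exact absurd ⟨φ, Finset.mem_filter.mpr ⟨Finset.mem_univ _, hl⟩, h0, hz⟩ hb
  set S := (Finset.univ.erase ψ1).filter (fun ψ => cm W ψ * D ψ ≠ 0) with hSdef
  -- their multiplicity
  have hD : p * ∑ ψ ∈ Finset.univ.erase ψ1, cm W ψ * D ψ ≤ 4 * (e * e) := by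
    have hfilter : ∑ ψ ∈ Finset.univ.erase ψ1, cm W ψ * D ψ = ∑ ψ ∈ S, cm W ψ * D ψ :=
      (Finset.sum_filter_ne_zero _).symm
    rw [hfilter]
    have hmem : ∀ ψ ∈ S, bad ψ ∧ cm W ψ ≠ 0 ∧ N ψ < A ψ ∧ 1 ≤ N ψ ∧ oneK x L ∉ T ψ ∧
        ∀ φ ∈ T ψ, 1 ≤ cm ρ φ := by
      intro ψ hψ
      obtain ⟨hψ1, hne⟩ := Finset.mem_filter.mp hψ
      have hb : bad ψ := by
        by_contra hb
        exact hne (by rw [show D ψ = 0 from if_neg hb, mul_zero])
      have hD' : D ψ = A ψ - N ψ := if_pos hb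
      have hlt : N ψ < A ψ := by
        by_contra hle
        exact hne (by rw [hD', Nat.sub_eq_zero_of_le (by omega), mul_zero])
      have hN : 1 ≤ N ψ := by
        by_contra h0
        refine Finset.ne_of_mem_erase hψ1 (eq_one_of_apply hS hgen (eq_one_of_flat hS ψ fun φ v => ?_))
        by_cases hφ : φ ∈ T ψ
        · exact (hbadT ψ hb φ hφ).2 v
        · have h1 := Finset.sum_eq_zero_iff.mp (show N ψ = 0 by omega) φ (Finset.mem_compl.mpr hφ)
          rw [hnon ψ φ (Finset.mem_compl.mpr hφ)]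
          exact (Nat.mul_eq_zero.mp h1).resolve_left (charDegree_pos φ).ne'
      have hcm : cm W ψ ≠ 0 := fun h0 => hne (by rw [h0, zero_mul])
      refine ⟨hb, hcm, hlt, hN, fun h1 => ?_, fun φ hφ => ?_⟩
      · have : T ψ = {oneK x L} := Finset.eq_singleton_iff_unique_mem.mpr ⟨h1, fun φ hφ => by
          obtain ⟨l, rfl⟩ := orbit hS hM ⟨ψ, rfl⟩ (Finset.mem_filter.mp h1).2 (Finset.mem_filter.mp hφ).2
          exact cjIrr_oneK hS l⟩
        have hA : A ψ = 1 := by
          show ∑ φ ∈ T ψ, _ = _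
          rw [this, Finset.sum_singleton]
          exact Nat.cast_injective (R := ℂ) (by rw [charDegree_cast, Nat.cast_one]; rfl)
        omega
      · by_contra h0
        have h1 := hrest φ
        rw [show cm ρ φ = 0 by omega, mul_zero] at h1
        have h2 := (Nat.mul_eq_zero.mp (Finset.sum_eq_zero_iff.mp h1 ψ (Finset.mem_univ _))).resolve_left hcm
        have h3 := Finset.sum_eq_zero_iff.mp h2 0 (Finset.mem_univ _)
        rw [(hbadT ψ hb φ hφ).1] at h3
        exact one_ne_zero h3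
    rcases S.eq_empty_or_nonempty with h0 | ⟨ψ₀, hψ₀⟩
    · rw [h0, Finset.sum_empty, mul_zero]; exact Nat.zero_le _
    obtain ⟨-, -, hlt0, hN0, h10, hc0⟩ := hmem ψ₀ hψ₀
    have hA3 : ∀ s : Finset (IrrCharacter (K x L)), oneK x L ∉ s → (∀ φ ∈ s, 1 ≤ cm ρ φ) →
        ∑ φ ∈ s, charDegree (φ : K x L → ℂ) ≤ 3 := by
      intro s h1 hc
      have h2 : ∑ φ ∈ insert (oneK x L) s, cm ρ φ * charDegree (φ : K x L → ℂ) ≤ 4 :=
        hρ4 ▸ Finset.sum_le_sum_of_subset (Finset.subset_univ _)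
      have h3 : charDegree ((oneK x L : IrrCharacter (K x L)) : K x L → ℂ) = 1 :=
        Nat.cast_injective (R := ℂ) (by rw [charDegree_cast, Nat.cast_one]; rfl)
      rw [Finset.sum_insert h1, hρ1, h3, one_mul] at h2
      have h4 := Finset.sum_le_sum (s := s) (f := fun φ : IrrCharacter (K x L) => charDegree (φ : K x L → ℂ))
        (g := fun φ : IrrCharacter (K x L) => cm ρ φ * charDegree (φ : K x L → ℂ)) fun φ hφ => Nat.le_mul_of_pos_left _ (hc φ hφ)
      omega
    have hsame : ∀ ψ ∈ S, T ψ = T ψ₀ := by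
      intro ψ hψ
      obtain ⟨-, -, hlt, hN, h1, hc⟩ := hmem ψ hψ
      by_cases hdis : Disjoint (T ψ) (T ψ₀)
      · exfalso
        have := hA3 (T ψ ∪ T ψ₀) (by simp [h1, h10]) fun φ hφ =>
          (Finset.mem_union.mp hφ).elim (hc φ) (hc0 φ)
        rw [Finset.sum_union hdis] at this
        change A ψ + A ψ₀ ≤ 3 at this
        omega
      obtain ⟨φ, hφ, hφ0⟩ := Finset.not_disjoint_iff.mp hdis
      have hmove : ∀ (ξ ξ' : IrrCharacter G), φ ∈ T ξ → φ ∈ T ξ' → T ξ ⊆ T ξ' := fun ξ ξ' h h' φ' hφ' => by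
        obtain ⟨l, rfl⟩ := orbit hS hM ⟨ξ, rfl⟩ (Finset.mem_filter.mp h).2 (Finset.mem_filter.mp hφ').2
        exact Finset.mem_filter.mpr ⟨Finset.mem_univ _, (lies_cjIrr hS l).mpr (Finset.mem_filter.mp h').2⟩
      exact Finset.Subset.antisymm (hmove _ _ hφ hφ0) (hmove _ _ hφ0 hφ)
    have hA₀ : 2 ≤ A ψ₀ := by omega
    have hcompl : ∑ φ ∈ (T ψ₀)ᶜ, cm ρ φ * charDegree (φ : K x L → ℂ) ≤ 2 := by
      have h1 := Finset.sum_add_sum_compl (T ψ₀) (fun φ : IrrCharacter (K x L) => cm ρ φ * charDegree (φ : K x L → ℂ))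
      have h2 : A ψ₀ ≤ ∑ φ ∈ T ψ₀, cm ρ φ * charDegree (φ : K x L → ℂ) :=
        Finset.sum_le_sum fun φ hφ => Nat.le_mul_of_pos_left _ (hc0 φ hφ)
      omega
    have hN2 : ∀ ψ ∈ S, D ψ ≤ 2 * N ψ := by
      intro ψ hψ
      obtain ⟨hb, -, hlt, hN, h1, hc⟩ := hmem ψ hψ
      have : A ψ ≤ 3 := hA3 (T ψ) h1 hc
      rw [show D ψ = A ψ - N ψ from if_pos hb]
      omega
    calc p * ∑ ψ ∈ S, cm W ψ * D ψ ≤ p * ∑ ψ ∈ S, cm W ψ * (2 * N ψ) :=
          Nat.mul_le_mul_left _ (Finset.sum_le_sum fun ψ hψ => Nat.mul_le_mul_left _ (hN2 ψ hψ))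
      _ = 2 * ∑ ψ ∈ S, ∑ φ ∈ (T ψ₀)ᶜ, charDegree (φ : K x L → ℂ) * (cm W ψ * ∑ j : ZMod p, multN hS ψ φ j) := by
          rw [Finset.mul_sum, Finset.mul_sum]
          refine Finset.sum_congr rfl fun ψ hψ => ?_
          show p * (cm W ψ * (2 * ∑ φ ∈ (T ψ)ᶜ, _)) = _
          rw [hsame ψ hψ]
          simp only [Finset.mul_sum]
          refine Finset.sum_congr rfl fun φ hφ => ?_
          rw [Finset.sum_congr rfl fun j _ => congrArg (fun z => 2 * (charDegree (φ : K x L → ℂ) * (cm W ψ * z)))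
            (hnon ψ φ (hsame ψ hψ ▸ hφ) j), Finset.sum_const, Finset.card_univ, ZMod.card, smul_eq_mul]
          ring
      _ ≤ 2 * ∑ φ ∈ (T ψ₀)ᶜ, charDegree (φ : K x L → ℂ) * (e * e * cm ρ φ) := by
          rw [Finset.sum_comm]
          refine Nat.mul_le_mul_left _ (Finset.sum_le_sum fun φ _ => ?_)
          rw [← Finset.mul_sum, ← hrest φ]
          exact Nat.mul_le_mul_left _ (Finset.sum_le_sum_of_subset (Finset.subset_univ S))
      _ ≤ 4 * (e * e) := by
          rw [Finset.sum_congr rfl fun (φ : IrrCharacter (K x L)) _ => show charDegree (φ : K x L → ℂ) * (e * e * cm ρ φ) =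
            e * e * (cm ρ φ * charDegree (φ : K x L → ℂ)) by ring, ← Finset.mul_sum]
          nlinarith [Nat.mul_le_mul_left (e * e) hcompl]
  have hsum := Finset.sum_le_sum (s := Finset.univ.erase ψ1) fun ψ _ => Nat.mul_le_mul_left (cm W ψ) (hstep ψ)
  simp only [mul_add, mul_left_comm (cm W _), Finset.sum_add_distrib, ← Finset.mul_sum] at hsum
  have a0 := Finset.add_sum_erase Finset.univ (fun ψ => cm W ψ * F ψ) (Finset.mem_univ ψ1)
  have a1 := Finset.add_sum_erase Finset.univ (fun ψ => cm W ψ * charDegree (ψ : G → ℂ)) (Finset.mem_univ ψ1)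
  simp only [hFW, hdegW, hcm1, hd1.1, hd1.2, one_mul] at a0 a1
  obtain ⟨e', rfl⟩ : ∃ e', e = e' + 1 := ⟨e - 1, by omega⟩
  rw [show ∑ ψ ∈ Finset.univ.erase ψ1, cm W ψ * F ψ = 4 * e' + 3 by omega] at hsum
  nlinarith [Nat.mul_le_mul_right (∑ ψ ∈ Finset.univ.erase ψ1, cm W ψ * D ψ) (Nat.sub_le p 1)]

open scoped Classical in
/-- With the positive sign the degree is at most `(p - 1) / 2`. -/
theorem half_of_plus (hgen : Subgroup.closure {g : G | orderOf g = p} = ⊤) (hE : 2 ≤ (K x L).index)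
    (hn : charDegree (χ : G → ℂ) + 1 < p) (hε : R.ε = 1) : 2 * charDegree (χ : G → ℂ) + 1 ≤ p := by
  have := Fintype.ofFinite G
  have := Fintype.ofFinite (IrrCharacter (K x L))
  obtain ⟨-, hm, hd⟩ := (R.cases hS hM hn).resolve_right fun h => by
    rw [hε] at h
    exact absurd h.1 (by norm_num)
  by_contra hbig
  obtain ⟨q, hq⟩ : (K x L).index ∣ p - 1 := by
    rw [← card_U_one hS, ← card_units_eq hS (oneK x L : K x L → ℂ)]
    exact dvd_mul_right _ _
  set E := (K x L).index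
  set d := charDegree (R.η : K x L → ℂ)
  have hd1 : 1 ≤ d := charDegree_pos R.η
  rw [hd] at hn hbig
  have hdq : d < q := by
    by_contra hle
    have := Nat.mul_le_mul_right E (show q ≤ d by omega)
    rw [mul_comm E q] at hq
    omega
  have hd2 : 2 ≤ d := by
    by_contra hlt
    rw [show d = 1 by omega, one_mul] at hn hbig
    have := Nat.mul_le_mul_left E (show 2 ≤ q by omega)
    omega
  have hq3 : E * 3 ≤ E * q := Nat.mul_le_mul_left E (show 3 ≤ q by omega)
  by_cases h4 : 4 * Nat.card (U hS (R.η : K x L → ℂ)) ≤ p + 2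
  · exact R.plus_small hS hM hgen hE hε hm h4 (by omega)
  have hTe := R.card_mul hS hM
  set T := (Finset.univ.filter (Lies M x L (blockOf M (χ : G → ℂ)))).card
  set u := Nat.card (U hS (R.η : K x L → ℂ))
  have hT0 : 1 ≤ T := Finset.card_pos.mpr ⟨R.η, Finset.mem_filter.mpr ⟨Finset.mem_univ _, R.lies⟩⟩
  have hT : T = 1 := by
    by_contra hne
    have h1 := Nat.mul_le_mul_right u (show 2 ≤ T by omega)
    change T * u = E at hTe
    omega
  change T * u = E at hTe
  rw [hT, one_mul] at hTe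
  have hq' : q = 3 := by
    by_contra hne
    have := Nat.mul_le_mul_left E (show 4 ≤ q by omega)
    omega
  rw [hq'] at hq hdq
  exact R.plus_large hS hM hgen hε hm hT (by omega) hTe (by omega) (by omega)

end Cfsg.Agent.FeitSmall
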