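/-
The second moment of the cyclotomic numbers (namespace `Cfsg.Agent.FeitSmall`).

Main result: `energy` (the sum of the squares of the numbers with a fixed first class).
-/
import Cfsg.Agent.Lib.FeitSmall.Cyclo

set_option autoImplicit false
set_option linter.unusedSectionVars false

namespace Cfsg.Agent.FeitSmall

variable {p : ℕ} [Fact p.Prime] (U : Subgroup (ZMod p)ˣ)

theorem mul_mem_cs_one {c : (ZMod p)ˣ ⧸ U} {w j : ZMod p} (hw : w ∈ cs U 1) : w * j ∈ cs U c ↔ j ∈ cs U c := by
  refine ⟨fun hm => ?_, fun hj => by simpa using mul_mem_cs U hw hj⟩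
  have hw0 := ne_zero_of_mem_cs U hw
  have hj0 : j ≠ 0 := fun h0 => ne_zero_of_mem_cs U hm (by rw [h0, mul_zero])
  obtain ⟨d, hd⟩ := exists_cs U hj0
  have := eq_of_mem_cs U hm (mul_mem_cs U hw hd)
  rwa [this, one_mul]

theorem div_mem_cs_one {c : (ZMod p)ˣ ⧸ U} {i j : ZMod p} (hi : i ∈ cs U c) (hj : j ∈ cs U c) :
    i / j ∈ cs U 1 := by
  have hj0 := ne_zero_of_mem_cs U hj
  obtain ⟨d, hd⟩ := exists_cs U (div_ne_zero (ne_zero_of_mem_cs U hi) hj0)
  have := mul_mem_cs U hd hj
  rw [div_mul_cancel₀ i hj0] at this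
  have h1 : d * c = c := (eq_of_mem_cs U hi this).symm
  rwa [mul_eq_right.mp h1] at hd

open scoped Classical in
/-- The second moment. -/
theorem energy [Fintype ((ZMod p)ˣ ⧸ U)] :
    (Nat.card U : ℤ) * ∑ b : (ZMod p)ˣ ⧸ U, ∑ c : (ZMod p)ˣ ⧸ U, (nu U 1 b c : ℤ) ^ 2 =
      (Nat.card U : ℤ) * ((p : ℤ) - 2) + (Nat.card U : ℤ) * ((Nat.card U : ℤ) - 1) * ((Nat.card U : ℤ) - 2) := by
  set e := Nat.card U with he
  set cl := cs U (1 : (ZMod p)ˣ ⧸ U) with hcl
  have hone : (1 : ZMod p) ∈ cl := by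
    have := (unit_mem_cs U (c := 1) (u := (1 : (ZMod p)ˣ))).mpr rfl
    rwa [Units.val_one] at this
  let R : ZMod p → ZMod p → ZMod p → Prop := fun j u v => j ≠ 0 ∧ ∃ b, j - u ∈ cs U b ∧ j - v ∈ cs U b
  have hleft : (e : ℤ) * ∑ b : (ZMod p)ˣ ⧸ U, ∑ c : (ZMod p)ˣ ⧸ U, (nu U 1 b c : ℤ) ^ 2 =
      ∑ u ∈ cl, ∑ v ∈ cl, ((Finset.univ.filter fun j => R j u v).card : ℤ) := by
    have hj : ∀ j : ZMod p, ∑ u ∈ cl, ∑ v ∈ cl, (if R j u v then (1 : ℤ) else 0) =
        if j = 0 then 0 else ∑ b : (ZMod p)ˣ ⧸ U, (nuAt U 1 b j : ℤ) ^ 2 := by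
      intro j
      split_ifs with h0
      · exact Finset.sum_eq_zero fun u _ => Finset.sum_eq_zero fun v _ => if_neg fun hr => hr.1 h0
      have hsq : ∀ b, (nuAt U 1 b j : ℤ) ^ 2 =
          ∑ u ∈ cl, ∑ v ∈ cl, (if j - u ∈ cs U b ∧ j - v ∈ cs U b then (1 : ℤ) else 0) := by
        intro b
        rw [nuAt, pow_two, Finset.card_filter, Nat.cast_sum, Finset.sum_mul_sum]
        refine Finset.sum_congr rfl fun u _ => Finset.sum_congr rfl fun v _ => ?_
        split_ifs <;> simp_all
      rw [Finset.sum_congr rfl fun b _ => hsq b]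
      conv_rhs => rw [Finset.sum_comm]
      refine Finset.sum_congr rfl fun u _ => ?_
      conv_rhs => rw [Finset.sum_comm]
      refine Finset.sum_congr rfl fun v _ => ?_
      by_cases hr : R j u v
      · rw [if_pos hr]
        obtain ⟨-, b, hb1, hb2⟩ := hr
        rw [Finset.sum_eq_single b (fun b' _ hne => if_neg fun hh => hne (eq_of_mem_cs U hh.1 hb1))
          (fun hh => absurd (Finset.mem_univ _) hh), if_pos ⟨hb1, hb2⟩]
      · rw [if_neg hr]
        exact (Finset.sum_eq_zero fun b _ => if_neg fun hh => hr ⟨h0, b, hh.1, hh.2⟩).symm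
    have h1 : ∀ u v : ZMod p, ((Finset.univ.filter fun j => R j u v).card : ℤ) =
        ∑ j : ZMod p, if R j u v then (1 : ℤ) else 0 := fun u v => by
      rw [Finset.card_filter, Nat.cast_sum]
      exact Finset.sum_congr rfl fun j _ => by split_ifs <;> simp
    rw [Finset.sum_congr rfl fun u _ => (Finset.sum_congr rfl fun v _ => h1 u v).trans Finset.sum_comm,
      Finset.sum_comm (s := cl), Finset.sum_congr rfl fun j _ => hj j, sum_split_cs U, if_pos rfl, zero_add]
    conv_lhs => rw [Finset.sum_comm, Finset.mul_sum]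
    refine Finset.sum_congr rfl fun c _ => ?_
    rw [Finset.sum_congr (s₁ := cs U c) rfl (g := fun _ => ∑ b : (ZMod p)ˣ ⧸ U, (nu U 1 b c : ℤ) ^ 2) fun j hjc => ?_,
      Finset.sum_const, card_cs, nsmul_eq_mul]
    rw [if_neg (ne_zero_of_mem_cs U hjc)]
    exact Finset.sum_congr rfl fun b _ => by rw [nuAt_eq U hjc]
  have hdiag : ∀ u ∈ cl, ((Finset.univ.filter fun j => R j u u).card : ℤ) = (p : ℤ) - 2 := by
    intro u hu
    have hu0 := ne_zero_of_mem_cs U hu
    have hset : (Finset.univ.filter fun j => R j u u) = (Finset.univ.erase (0 : ZMod p)).erase u := by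
      ext j
      simp only [R, Finset.mem_filter, Finset.mem_univ, true_and, Finset.mem_erase, and_true, and_self]
      refine ⟨fun ⟨h0, b, hb⟩ => ⟨fun hju => ne_zero_of_mem_cs U hb (by rw [hju, sub_self]), h0⟩, fun ⟨h1, h0⟩ => ?_⟩
      exact ⟨h0, exists_cs U (sub_ne_zero.mpr h1)⟩
    rw [hset, Finset.card_erase_of_mem (by simp [hu0]), Finset.card_erase_of_mem (Finset.mem_univ _), Finset.card_univ,
      ZMod.card]
    have := (Fact.out : p.Prime).two_le
    omega
  have hoff : ∀ u ∈ cl, ∀ v ∈ cl, u ≠ v → ((Finset.univ.filter fun j => R j u v).card : ℤ) = (e : ℤ) - 2 := by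
    intro u hu v hv huv
    have hu0 := ne_zero_of_mem_cs U hu
    have hv0 := ne_zero_of_mem_cs U hv
    have hr0 : u / v ∈ cl := div_mem_cs_one U hu hv
    have hr1 : u / v ≠ 1 := fun h1 => huv ((div_eq_one_iff_eq hv0).mp h1)
    have hcard : (Finset.univ.filter fun j => R j u v).card = ((cl.erase 1).erase (u / v)).card := by
      refine Finset.card_bij' (fun j _ => (j - u) / (j - v)) (fun w _ => (u - w * v) / (1 - w))
        (fun j hj => ?_) (fun w hw => ?_) (fun j hj => ?_) (fun w hw => ?_)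
      · obtain ⟨h0, b, hb1, hb2⟩ := (Finset.mem_filter.mp hj).2
        have hd := ne_zero_of_mem_cs U hb2
        refine Finset.mem_erase.mpr ⟨fun he' => ?_, Finset.mem_erase.mpr ⟨fun he' => ?_, div_mem_cs_one U hb1 hb2⟩⟩
        · rw [div_eq_div_iff hd hv0] at he'
          have : j * (v - u) = 0 := by linear_combination he'
          exact huv (sub_eq_zero.mp ((mul_eq_zero.mp this).resolve_left h0)).symm
        · rw [div_eq_one_iff_eq hd, sub_right_inj] at he'
          exact huv he'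
      · obtain ⟨hw2, hw1, hwm⟩ := (by
          simpa only [Finset.mem_erase] using hw : w ≠ u / v ∧ w ≠ 1 ∧ w ∈ cl)
        have h1w : (1 : ZMod p) - w ≠ 0 := sub_ne_zero.mpr hw1.symm
        set j := (u - w * v) / (1 - w) with hj
        have hju : j - u = w * (j - v) := by
          rw [hj]; field_simp; ring
        have hjv : j - v ≠ 0 := by
          rw [hj, div_sub' h1w, div_ne_zero_iff]
          refine ⟨fun h0 => huv ?_, h1w⟩
          linear_combination h0
        have hj0 : j ≠ 0 := by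
          rw [hj, div_ne_zero_iff]
          exact ⟨fun h0 => hw2 (by rw [eq_div_iff hv0]; linear_combination -h0), h1w⟩
        refine Finset.mem_filter.mpr ⟨Finset.mem_univ _, hj0, ?_⟩
        obtain ⟨b, hb⟩ := exists_cs U hjv
        exact ⟨b, by rw [hju]; exact (mul_mem_cs_one U hwm).mpr hb, hb⟩
      · obtain ⟨h0, b, hb1, hb2⟩ := (Finset.mem_filter.mp hj).2
        have hd := ne_zero_of_mem_cs U hb2
        show (u - (j - u) / (j - v) * v) / (1 - (j - u) / (j - v)) = j
        have h1 : (1 : ZMod p) - (j - u) / (j - v) = (u - v) / (j - v) := by field_simp; ring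
        rw [h1]
        have huv' : u - v ≠ 0 := sub_ne_zero.mpr huv
        field_simp
        ring
      · obtain ⟨hw2, hw1, hwm⟩ := (by
          simpa only [Finset.mem_erase] using hw : w ≠ u / v ∧ w ≠ 1 ∧ w ∈ cl)
        have h1w : (1 : ZMod p) - w ≠ 0 := sub_ne_zero.mpr hw1.symm
        show ((u - w * v) / (1 - w) - u) / ((u - w * v) / (1 - w) - v) = w
        rw [div_sub' h1w, div_sub' h1w, div_div_div_cancel_right₀ h1w,
          show u - w * v - (1 - w) * v = u - v by ring, show u - w * v - (1 - w) * u = w * (u - v) by ring,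
          mul_div_cancel_right₀ _ (sub_ne_zero.mpr huv)]
    rw [hcard, Finset.card_erase_of_mem (Finset.mem_erase.mpr ⟨hr1, hr0⟩), Finset.card_erase_of_mem hone,
      hcl, card_cs, ← he]
    have h2 : 2 ≤ e := by
      rw [he, ← card_cs U 1]
      exact Finset.one_lt_card.mpr ⟨u, hu, v, hv, huv⟩
    omega
  rw [hleft]
  have hrow : ∀ u ∈ cl, ∑ v ∈ cl, ((Finset.univ.filter fun j => R j u v).card : ℤ) =
      ((p : ℤ) - 2) + ((e : ℤ) - 1) * ((e : ℤ) - 2) := by
    intro u hu
    rw [← Finset.add_sum_erase _ _ hu, hdiag u hu,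
      Finset.sum_congr rfl fun v hv => hoff u hu v (Finset.mem_of_mem_erase hv) (Finset.ne_of_mem_erase hv).symm,
      Finset.sum_const, Finset.card_erase_of_mem hu, hcl, card_cs, ← he, nsmul_eq_mul]
    have : 1 ≤ e := Nat.card_pos
    push_cast [Nat.cast_sub this]
    ring
  rw [Finset.sum_congr rfl hrow, Finset.sum_const, hcl, card_cs, ← he, nsmul_eq_mul]
  ring

end Cfsg.Agent.FeitSmall
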