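/-
A criterion from Newton's identities (namespace `Cfsg.Agent.FeitSmall`).

Main results: `exists_esymm_poly`, `criterion` (too many short multisets whose power sums are polynomials
of small degree).
-/
import Cfsg.Agent.EqLemmas

set_option autoImplicit false
set_option linter.unusedSectionVars false

namespace Cfsg.Agent.FeitSmall

open Polynomial

variable {p : ℕ} [Fact p.Prime]

/-- Elementary symmetric functions are polynomials in the parameter when the power sums are. -/
theorem exists_esymm_poly (H : ℕ → (ZMod p)[X]) (hdeg : ∀ k, (H k).natDegree ≤ k) (j : ℕ) (hj : j < p) :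
    ∃ P : (ZMod p)[X], P.natDegree ≤ j ∧ ∀ (σ : Type) [Fintype σ] (f : σ → ZMod p) (A : ZMod p),
      (∀ k, 1 ≤ k → k ≤ j → ∑ i, f i ^ k = (H k).eval A) →
      (Finset.univ.val.map f).esymm j = P.eval A := by
  induction j using Nat.strong_induction_on with
  | _ j ih =>
    rcases Nat.eq_zero_or_pos j with rfl | hj0
    · exact ⟨1, by simp, fun σ _ f A _ => by simp [Multiset.esymm]⟩
    have hex : ∀ i, i < j → ∃ P : (ZMod p)[X], P.natDegree ≤ i ∧ ∀ (σ : Type) [Fintype σ] (f : σ → ZMod p) (A : ZMod p),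
        (∀ k, 1 ≤ k → k ≤ i → ∑ a, f a ^ k = (H k).eval A) → (Finset.univ.val.map f).esymm i = P.eval A :=
      fun i hi => ih i hi (hi.trans hj)
    choose! P hPd hP using hex
    refine ⟨Polynomial.C ((j : ZMod p)⁻¹ * (-1) ^ (j + 1)) *
      ∑ a ∈ (Finset.HasAntidiagonal.antidiagonal j).filter (fun a => a.1 < j), Polynomial.C ((-1) ^ a.1) * P a.1 * H a.2, ?_, ?_⟩
    · refine (Polynomial.natDegree_C_mul_le _ _).trans (Polynomial.natDegree_sum_le_of_forall_le _ _ fun a ha => ?_)
      obtain ⟨ha1, ha2⟩ := Finset.mem_filter.mp ha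
      rw [Finset.HasAntidiagonal.mem_antidiagonal] at ha1
      refine (Polynomial.natDegree_mul_le).trans ?_
      have h1 := (Polynomial.natDegree_C_mul_le ((-1 : ZMod p) ^ a.1) (P a.1)).trans (hPd a.1 ha2)
      have h2 := hdeg a.2
      omega
    · intro σ _ f A hf
      classical
      have h := congrArg (MvPolynomial.aeval f) (MvPolynomial.mul_esymm_eq_sum σ (ZMod p) j)
      simp only [map_mul, map_natCast, map_pow, map_neg, map_one, map_sum,
        MvPolynomial.aeval_esymm_eq_multiset_esymm] at h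
      have hj' : (j : ZMod p) ≠ 0 := by
        rw [Ne, ZMod.natCast_eq_zero_iff]
        exact fun hd => absurd (Nat.le_of_dvd hj0 hd) (by omega)
      rw [Polynomial.eval_mul, Polynomial.eval_C, Polynomial.eval_finsetSum, mul_assoc,
        ← inv_mul_cancel_left₀ hj' ((Finset.univ.val.map f).esymm j), h]
      congr 2
      refine Finset.sum_congr rfl fun a ha => ?_
      obtain ⟨ha1, ha2⟩ := Finset.mem_filter.mp ha
      rw [Finset.HasAntidiagonal.mem_antidiagonal] at ha1
      rw [Polynomial.eval_mul, Polynomial.eval_mul, Polynomial.eval_C,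
        ← hP a.1 ha2 σ f A (fun k h1 h2 => hf k h1 (by omega)), ← hf a.2 (by omega) (by omega)]
      simp [MvPolynomial.psum]

/-- More than `J` parameters cannot have fewer than `J` terms each. -/
theorem criterion (H : ℕ → (ZMod p)[X]) (hdeg : ∀ k, (H k).natDegree ≤ k) {n J : ℕ} (hn : n < p)
    (hJ : J ≤ n) (h0 : ∀ k, 1 ≤ k → k ≤ J → (H k).eval 0 = (n : ZMod p)) {ι : Type*} (S : Finset ι)
    (A : ι → ZMod p) (hA : Set.InjOn A S) (hS : J < S.card)
    (hpts : ∀ a ∈ S, ∃ (σ : Type) (_ : Fintype σ) (f : σ → ZMod p), Fintype.card σ < J ∧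
      ∀ k, 1 ≤ k → k ≤ J → ∑ i, f i ^ k = (H k).eval (A a)) : False := by
  classical
  obtain ⟨P, hPd, hP⟩ := exists_esymm_poly H hdeg J (lt_of_le_of_lt hJ hn)
  have hz : P = 0 := by
    refine Polynomial.eq_zero_of_natDegree_lt_card_of_eval_eq_zero' P (S.image A) (fun z hz => ?_) ?_
    · obtain ⟨a, ha, rfl⟩ := Finset.mem_image.mp hz
      obtain ⟨σ, hσ, f, hcard, hf⟩ := hpts a ha
      rw [← hP σ f (A a) hf, Multiset.esymm, Multiset.powersetCard_eq_empty _ (by simpa using hcard)]
      simp
    · rw [Finset.card_image_of_injOn hA]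
      omega
  have h1 := hP (Fin n) (fun _ => (1 : ZMod p)) 0 (fun k h1 h2 => by simp [h0 k h1 h2])
  rw [hz, Polynomial.eval_zero, Finset.esymm_map_val] at h1
  simp only [Finset.prod_const_one, Finset.sum_const, Finset.card_powersetCard, Finset.card_univ,
    Fintype.card_fin, nsmul_eq_mul, mul_one] at h1
  rw [ZMod.natCast_eq_zero_iff] at h1
  exact (Nat.Prime.dvd_iff_not_coprime Fact.out).mp h1 ((Fact.out : p.Prime).coprime_choose_of_lt hn hJ)

end Cfsg.Agent.FeitSmall
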