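/-
The action of the complement on the fixed space of `x` (namespace `Cfsg.Agent.FeitSmall`).

Main results: `L_comm`, `phiP` (the character on the fixed space), `lines` (its multiplicities), `lines_eq_sum`,
`exists_line`, `exists_unique_line`, `sum_cm_le`, `lines_formula` and `lines_formula_inv`.
-/
import Cfsg.Agent.Lib.FeitSmall.Product
import Cfsg.Agent.Lib.Char.Linear
import Mathlib.GroupTheory.SemidirectProduct

set_option autoImplicit false
set_option linter.unusedSectionVars false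
set_option linter.style.haveILetI false

open scoped ComplexConjugate

namespace Cfsg.Agent.FeitSmall

open Cfsg Cfsg.Agent.Blocks Cfsg.Agent.CyclicDefect

variable {G : Type*} [Group G] {p : ℕ} [Fact p.Prime] {x : G} {L : Subgroup G}

/-- The average over the cosets of `⟨x⟩`. -/
noncomputable def phiP (p : ℕ) [Fact p.Prime] (x : G) {L : Subgroup G} (f : G → ℂ) (l : L) : ℂ :=
  (p : ℂ)⁻¹ * ∑ i : ZMod p, f (pw x i * (l : G))

open scoped Classical in
/-- The multiplicity of a linear character of the complement on the fixed space. -/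
noncomputable def lines [Fintype G] (p : ℕ) [Fact p.Prime] (x : G) {L : Subgroup G} (f : G → ℂ) (ψ : L →* ℂ) : ℕ :=
  haveI := Fintype.ofFinite L
  if hh : ∃ n : ℕ, classInner (phiP p x f) (ψ : L → ℂ) = n then hh.choose else 0

theorem phiP_sum {ι : Type*} (s : Finset ι) (c : ι → ℂ) (f : ι → G → ℂ) (l : L) :
    phiP p x (∑ j ∈ s, c j • f j) l = ∑ j ∈ s, c j * phiP p x (f j) l := by
  simp only [phiP, Finset.sum_apply, Pi.smul_apply, smul_eq_mul]
  rw [Finset.sum_comm, Finset.mul_sum]
  exact Finset.sum_congr rfl fun j _ => by rw [← Finset.mul_sum]; ring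

variable [Fintype G] {e t : ℕ} (h : CCore p x L e t)
include h

theorem L_comm (a b : L) : a * b = b * a := by
  refine ((CyclicDefect.alpha h.hS).isMulCommutative_of_isCyclic_of_ker_le_center (fun k hk => ?_)).is_comm.comm a b
  rw [ker_alpha h.hS] at hk
  exact Subgroup.mem_center_iff.mpr fun g => Subtype.ext (Subgroup.mem_center_iff.mp (h.hK ⟨k, hk⟩) (g : G))

theorem exists_hom_irr (φ : IrrCharacter L) : ∃ ψ : L →* ℂ, ⇑ψ = (φ : L → ℂ) :=
  Char.exists_hom_of_degree_one (Char.IsIrrCharacter.isCharacter φ.2) (Char.apply_one_eq_one_of_comm (L_comm h) φ)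

theorem phiP_of_notMem {f : G → ℂ} (hf : IsClassFunction G f) {l : L} (hl : l ∉ K x L) :
    phiP p x f l = f (l : G) := by
  have ha : (CyclicDefect.alpha h.hS l : ZMod p) ≠ 1 := fun e' => hl (by
    rw [← ker_alpha h.hS, MonoidHom.mem_ker]; exact Units.ext e')
  have hne : (1 : ZMod p) - (CyclicDefect.alpha h.hS l : ZMod p) ≠ 0 := sub_ne_zero.mpr ha.symm
  rw [phiP, Finset.sum_congr rfl (g := fun _ => f (l : G)) (fun i _ => ?_), Finset.sum_const, Finset.card_univ,
    ZMod.card, nsmul_eq_mul, inv_mul_cancel_left₀ (Nat.cast_ne_zero.mpr h.hS.hp.ne_zero)]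
  set j := i * ((1 : ZMod p) - (CyclicDefect.alpha h.hS l : ZMod p))⁻¹ with hj
  have key : pw x i * (l : G) = pw x j * (l : G) * (pw x j)⁻¹ := by
    rw [eq_mul_inv_iff_mul_eq, mul_assoc, show (l : G) * pw x j = (l : G) * pw x j * (l : G)⁻¹ * (l : G) by group,
      alpha_spec h.hS, ← mul_assoc, ← h.hS.pw_add]
    congr 2
    have e0 : j * ((1 : ZMod p) - (CyclicDefect.alpha h.hS l : ZMod p)) = i := by
      rw [hj, mul_assoc, inv_mul_cancel₀ hne, mul_one]
    linear_combination (-1 : ZMod p) * e0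
  rw [key, hf]

theorem phiP_K {μ : K x L →* ℂ} {f : G → ℂ} (hc : Cent μ f) (k : K x L) :
    phiP p x f (k : L) = μ k * mu x f (0 : ZMod p) := by
  rw [phiP, mu]
  simp only [mul_zero, neg_zero, ζ_zero, one_mul, hc _ k, ← Finset.sum_mul]
  ring

theorem phiP_mul_K {μ : K x L →* ℂ} {f : G → ℂ} (hc : Cent μ f) (l : L) (k : K x L) :
    phiP p x f (l * (k : L)) = phiP p x f l * μ k := by
  simp only [phiP, Subgroup.coe_mul, ← mul_assoc, hc _ k, Finset.sum_mul]
  rw [Finset.mul_sum, Finset.mul_sum, Finset.sum_mul]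
  exact Finset.sum_congr rfl fun i _ => by ring

theorem exists_lines_nat {f : G → ℂ} (hf : IsCharacter G f) (ψ : L →* ℂ) [Fintype L] :
    ∃ n : ℕ, classInner (phiP p x f) (ψ : L → ℂ) = n := by
  classical
  let act : L →* MulAut (Multiplicative (ZMod p)) :=
    { toFun := fun l => AddEquiv.toMultiplicative
        (DistribMulAction.toAddEquiv (ZMod p) (CyclicDefect.alpha h.hS l))
      map_one' := MulEquiv.ext fun a => by
        apply Multiplicative.toAdd.injective
        simp
      map_mul' := fun a b => MulEquiv.ext fun c => by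
        apply Multiplicative.toAdd.injective
        simp [mul_smul] }
  let f1 : Multiplicative (ZMod p) →* G :=
    { toFun := fun a => pw x a.toAdd
      map_one' := h.hS.pw_zero
      map_mul' := fun a b => h.hS.pw_add _ _ }
  let π : Multiplicative (ZMod p) ⋊[act] L →* G := SemidirectProduct.lift f1 L.subtype fun l => MonoidHom.ext fun a =>
    (alpha_spec h.hS l a.toAdd).symm
  let ev := (SemidirectProduct.equivProd : (Multiplicative (ZMod p) ⋊[act] L) ≃ _)
  haveI : Fintype (Multiplicative (ZMod p) ⋊[act] L) := Fintype.ofEquiv _ ev.symm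
  obtain ⟨n, hn⟩ := Char.IsCharacter.classInner_nat (Char.IsCharacter.comp_hom hf π)
    (Char.isCharacter_of_hom (ψ.comp SemidirectProduct.rightHom))
  refine ⟨n, ?_⟩
  rw [← hn, classInner, classInner, Nat.card_congr ev, Nat.card_prod,
    show Nat.card (Multiplicative (ZMod p)) = p from Nat.card_zmod p, Nat.cast_mul, mul_inv,
    ← Equiv.sum_comp ev.symm, Fintype.sum_prod_type, Finset.sum_comm, Finset.mul_sum, Finset.mul_sum]
  refine Finset.sum_congr rfl fun l _ => ?_
  rw [phiP, ← mul_assoc, ← mul_assoc, mul_comm (Nat.card L : ℂ)⁻¹, mul_assoc, mul_assoc, mul_assoc]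
  congr 1
  simp only [Finset.mul_sum, Finset.sum_mul]
  exact Fintype.sum_equiv Multiplicative.ofAdd _ _ fun i => rfl

theorem lines_spec {f : G → ℂ} (hf : IsCharacter G f) (ψ : L →* ℂ) [iL : Fintype L] :
    classInner (phiP p x f) (ψ : L → ℂ) = (lines p x f ψ : ℂ) := by
  obtain rfl : iL = Fintype.ofFinite L := Subsingleton.elim _ _
  letI := Fintype.ofFinite L
  have hh := exists_lines_nat h hf ψ
  unfold lines
  split_ifs with h2
  · exact h2.choose_spec
  · exact absurd hh h2

/-- The multiplicities on the fixed space of a character through its constituents. -/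
theorem lines_eq_sum [Fintype (IrrCharacter G)] {f : G → ℂ} (hf : IsCharacter G f) (ψ : L →* ℂ) :
    lines p x f ψ = ∑ χ : IrrCharacter G, cm f χ * lines p x (χ : G → ℂ) ψ := by
  have := Fintype.ofFinite L
  apply Nat.cast_injective (R := ℂ)
  rw [← lines_spec h hf, Nat.cast_sum]
  have hfun : (phiP p x f : L → ℂ) = ∑ χ : IrrCharacter G, (cm f χ : ℂ) • (phiP p x (χ : G → ℂ) : L → ℂ) := by
    funext l
    rw [Finset.sum_apply]
    conv_lhs => rw [cm_decomp hf, phiP_sum]
    rfl
  rw [hfun, Char.classInner_sum_left]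
  exact Finset.sum_congr rfl fun χ _ => by
    rw [Char.classInner_smul_left, lines_spec h (Char.IsIrrCharacter.isCharacter χ.2), Nat.cast_mul]

theorem sum_cm_le {f : G → ℂ} (hf : IsCharacter G f) {ψ : L →* ℂ} {S : Finset (IrrCharacter G)}
    (hS : ∀ χ ∈ S, 1 ≤ lines p x (χ : G → ℂ) ψ) : ∑ χ ∈ S, cm f χ ≤ lines p x f ψ := by
  classical
  have := Fintype.ofFinite (IrrCharacter G)
  rw [lines_eq_sum h hf]
  exact (Finset.sum_le_sum fun χ hχ => Nat.le_mul_of_pos_right _ (hS χ hχ)).trans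
    (Finset.sum_le_sum_of_subset (Finset.subset_univ S))

theorem lines_congr {f f' : G → ℂ} (hf : IsCharacter G f) (hf' : IsCharacter G f')
    (he : ∀ l : L, phiP p x f l = phiP p x f' l) (ψ : L →* ℂ) : lines p x f ψ = lines p x f' ψ := by
  have := Fintype.ofFinite L
  apply Nat.cast_injective (R := ℂ)
  rw [← lines_spec h hf, ← lines_spec h hf', funext he]

theorem phiP_exc {μ : K x L →* ℂ} (A : Fam h μ) (c c' : T h.hS) (l : L) :
    phiP p x (A.exc c : G → ℂ) l = phiP p x (A.exc c' : G → ℂ) l := by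
  by_cases hl : l ∈ K x L
  · rw [show l = ((⟨l, hl⟩ : K x L) : L) from rfl, phiP_K h (A.cent c), phiP_K h (A.cent c'), mu_exc h, mu_exc h,
      ind_zero h, ind_zero h]
  · rw [phiP_of_notMem h (irr_class _) hl, phiP_of_notMem h (irr_class _) hl]
    exact A.reg c c' _ (h.hS.regular_L l)

theorem lines_exc {μ : K x L →* ℂ} (A : Fam h μ) (c c' : T h.hS) (ψ : L →* ℂ) :
    lines p x (A.exc c : G → ℂ) ψ = lines p x (A.exc c' : G → ℂ) ψ :=
  lines_congr h (Char.IsIrrCharacter.isCharacter (A.exc c).2) (Char.IsIrrCharacter.isCharacter (A.exc c').2)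
    (phiP_exc h A c c') ψ

theorem line_central {μ : K x L →* ℂ} {f : G → ℂ} (hf : IsCharacter G f) (hc : Cent μ f) {ψ : L →* ℂ}
    (hψ : lines p x f ψ ≠ 0) (k : K x L) : ψ (k : L) = μ k := by
  have := Fintype.ofFinite L
  have h1 : classInner (phiP p x f) (ψ : L → ℂ) =
      μ k * conj (ψ (k : L)) * classInner (phiP p x f) (ψ : L → ℂ) := by
    simp only [classInner]
    conv_lhs => rw [← Equiv.sum_comp (Equiv.mulRight (k : L))]
    simp only [Finset.mul_sum]
    refine Finset.sum_congr rfl fun l _ => ?_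
    rw [Equiv.coe_mulRight, phiP_mul_K h hc, map_mul, map_mul]
    ring
  rw [lines_spec h hf] at h1
  have h2 : μ k * conj (ψ (k : L)) = 1 :=
    mul_right_cancel₀ (Nat.cast_ne_zero.mpr hψ) (h1.symm.trans (one_mul _).symm)
  calc ψ (k : L) = ψ (k : L) * (μ k * conj (ψ (k : L))) := by rw [h2, mul_one]
    _ = μ k := by
      rw [mul_left_comm, show ψ (k : L) * conj (ψ (k : L)) = 1 from norm_hom h (ψ.comp (K x L).subtype) k, mul_one]

/-- The fixed space is the sum of its lines. -/
theorem phiP_eq_sum {μ : K x L →* ℂ} (A : Fam h μ) (c : T h.hS) [Fintype (IrrCharacter L)] :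
    ∃ ψ : IrrCharacter L → (L →* ℂ), Function.Injective ψ ∧ (∀ ν : L →* ℂ, ∃ φ, ψ φ = ν) ∧
      (∀ l : L, phiP p x (A.exc c : G → ℂ) l = ∑ φ, (lines p x (A.exc c : G → ℂ) (ψ φ) : ℂ) * ψ φ l) ∧
      ∑ φ, lines p x (A.exc c : G → ℂ) (ψ φ) = A.M := by
  have := Fintype.ofFinite L
  choose ψ hψ using exists_hom_irr h
  have hcl : IsClassFunction L (phiP p x (A.exc c : G → ℂ)) := fun a b => by
    rw [L_comm h b a, mul_inv_cancel_right]
  have hexp : ∀ l : L, phiP p x (A.exc c : G → ℂ) l = ∑ φ, (lines p x (A.exc c : G → ℂ) (ψ φ) : ℂ) * ψ φ l := by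
    intro l
    conv_lhs => rw [Char.classFunction_eq_sum hcl]
    rw [Finset.sum_apply]
    refine Finset.sum_congr rfl fun φ _ => ?_
    rw [Pi.smul_apply, smul_eq_mul, ← lines_spec h (Char.IsIrrCharacter.isCharacter (A.exc c).2), hψ]
  refine ⟨ψ, fun a b e' => Subtype.ext (by rw [← hψ a, ← hψ b, e']), fun ν => ⟨⟨ν, Char.isIrrCharacter_of_hom ν⟩,
    DFunLike.coe_injective (hψ _)⟩, hexp, ?_⟩
  apply Nat.cast_injective (R := ℂ)
  have h1 := hexp ((1 : K x L) : L)
  rw [phiP_K h (A.cent c), map_one, one_mul, mu_exc h, ind_zero h, OneMemClass.coe_one] at h1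
  rw [Nat.cast_sum]
  simpa using h1.symm

theorem exists_line {μ : K x L →* ℂ} (A : Fam h μ) (hM : 1 ≤ A.M) :
    ∃ ψ : L →* ℂ, ∀ c, 1 ≤ lines p x (A.exc c : G → ℂ) ψ := by
  have := Fintype.ofFinite (IrrCharacter L)
  obtain ⟨ψ, -, -, -, hs⟩ := phiP_eq_sum h A 1
  by_contra hno
  push Not at hno
  rw [Finset.sum_eq_zero fun φ _ => ?_] at hs
  · omega
  · obtain ⟨c, hc⟩ := hno (ψ φ)
    rw [lines_exc h A 1 c]
    omega

theorem exists_unique_line {μ : K x L →* ℂ} (A : Fam h μ) (hM : A.M = 1) :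
    ∃ ω : L →* ℂ, (∀ k : K x L, ω (k : L) = μ k) ∧ (∀ c, lines p x (A.exc c : G → ℂ) ω = 1) ∧
      ∀ c (l : L), l ∉ K x L → (A.exc c : G → ℂ) (l : G) = ω l := by
  classical
  have := Fintype.ofFinite (IrrCharacter L)
  obtain ⟨ψ, -, -, hexp, hs⟩ := phiP_eq_sum h A 1
  rw [hM] at hs
  obtain ⟨φ0, -, hφ0⟩ := Finset.exists_ne_zero_of_sum_ne_zero (hs.trans_ne one_ne_zero)
  rw [← Finset.add_sum_erase _ _ (Finset.mem_univ φ0)] at hs
  have h1 : lines p x (A.exc 1 : G → ℂ) (ψ φ0) = 1 := by omega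
  refine ⟨ψ φ0, line_central h (Char.IsIrrCharacter.isCharacter (A.exc 1).2) (A.cent 1) (by omega), fun c => ?_,
    fun c l hl => ?_⟩
  · rw [lines_exc h A c 1, h1]
  · rw [← phiP_of_notMem h (irr_class _) hl, phiP_exc h A c 1, hexp, Finset.sum_eq_single φ0, h1, Nat.cast_one, one_mul]
    · intro φ _ hne
      have h2 := Finset.sum_eq_zero_iff.mp (show ∑ φ ∈ Finset.univ.erase φ0, lines p x (A.exc 1 : G → ℂ) (ψ φ) = 0 by omega)
        φ (Finset.mem_erase.mpr ⟨hne, Finset.mem_univ _⟩)
      rw [h2, Nat.cast_zero, zero_mul]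
    · exact fun hh => absurd (Finset.mem_univ _) hh

theorem card_L : Nat.card L = e * Nat.card (K x L) := by
  rw [← h.he, mul_comm, Subgroup.card_mul_index]

open scoped Classical in
theorem sum_hom_mul_conj (c ψ : L →* ℂ) [Fintype L] :
    ∑ l : L, c l * conj (ψ l) = if c = ψ then (Nat.card L : ℂ) else 0 := by
  classical
  have h1 := Char.classInner_irr (G := L) (Char.isIrrCharacter_of_hom c) (Char.isIrrCharacter_of_hom ψ)
  rw [classInner, inv_mul_eq_iff_eq_mul₀ (Nat.cast_ne_zero.mpr Nat.card_pos.ne')] at h1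
  rw [h1]
  by_cases hc : c = ψ
  · subst hc; simp
  · rw [if_neg hc, if_neg (fun e' => hc (DFunLike.coe_injective e')), mul_zero]

open scoped Classical in
/-- The multiplicities when the values off `K` are those of a linear character, up to a coset of `K`. -/
theorem lines_formula_inv {μ : K x L →* ℂ} {f : G → ℂ} (hf : IsCharacter G f) (hc : Cent μ f) (i : L)
    (hi : i ∉ K x L) (a : ℂ) (c ψ : L →* ℂ) (hcμ : ∀ k : K x L, c (k : L) = μ k)
    (hψ : ∀ k : K x L, ψ (k : L) = μ k) (G' : ℂ) (hG' : f (i : G) = G')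
    (hoff : ∀ l : L, l ∉ K x L → i⁻¹ * l ∉ K x L → f (l : G) = a * c l) :
    (lines p x f ψ : ℂ) = a * (if c = ψ then 1 else 0) +
      ((mu x f (0 : ZMod p) - a) + (G' - a * c i) * conj (ψ i)) / (e : ℂ) := by
  classical
  have := Fintype.ofFinite L
  have := Fintype.ofFinite (K x L)
  rw [← lines_spec h hf, classInner]
  let D : L → ℂ := fun l => phiP p x f l * conj (ψ l) - a * (c l * conj (ψ l))
  have hD : ∑ l : L, D l = ∑ k : K x L, D (k : L) + ∑ k : K x L, D (i * (k : L)) := by
    rw [← Finset.sum_image (f := D) (g := fun k : K x L => (k : L)) (fun u _ v _ e' => Subtype.ext e'),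
      ← Finset.sum_image (f := D) (g := fun k : K x L => i * (k : L))
        (fun u _ v _ e' => Subtype.ext (mul_left_cancel e')), ← Finset.sum_union]
    · refine (Finset.sum_subset (Finset.subset_univ _) fun l _ hl => ?_).symm
      simp only [Finset.mem_union, Finset.mem_image, Finset.mem_univ, true_and, not_or, not_exists] at hl
      have hl1 : l ∉ K x L := fun hm => hl.1 ⟨l, hm⟩ rfl
      have hl2 : i⁻¹ * l ∉ K x L := fun hm => hl.2 ⟨_, hm⟩ (mul_inv_cancel_left i l)
      simp only [D, phiP_of_notMem h (Char.IsCharacter.isClassFunction hf) hl1, hoff l hl1 hl2]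
      ring
    · rw [Finset.disjoint_left]
      intro l hl hl'
      obtain ⟨u, -, rfl⟩ := Finset.mem_image.mp hl
      obtain ⟨v, -, hv⟩ := Finset.mem_image.mp hl'
      refine hi ?_
      rw [show i = (u : L) * (v : L)⁻¹ by rw [← hv, mul_inv_cancel_right]]
      exact mul_mem u.2 (inv_mem v.2)
  have h1 : ∀ k : K x L, D (k : L) = mu x f (0 : ZMod p) - a := fun k => by
    simp only [D, phiP_K h hc, hcμ, hψ]
    linear_combination (mu x f (0 : ZMod p) - a) * norm_hom h μ k
  have h2 : ∀ k : K x L, D (i * (k : L)) = (G' - a * c i) * conj (ψ i) := fun k => by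
    simp only [D, phiP_mul_K h hc, phiP_of_notMem h (Char.IsCharacter.isClassFunction hf) hi, hG', map_mul, hcμ, hψ]
    linear_combination ((G' - a * c i) * conj (ψ i)) * norm_hom h μ k
  have hsum : ∑ l : L, phiP p x f l * conj (ψ l) = ∑ l : L, D l + a * ∑ l : L, c l * conj (ψ l) := by
    rw [Finset.mul_sum, ← Finset.sum_add_distrib]
    exact Finset.sum_congr rfl fun l _ => (sub_add_cancel _ _).symm
  rw [hsum, hD, Finset.sum_congr rfl fun k _ => h1 k, Finset.sum_congr rfl fun k _ => h2 k, sum_hom_mul_conj h,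
    Finset.sum_const, Finset.sum_const, Finset.card_univ, nsmul_eq_mul, nsmul_eq_mul, ← Nat.card_eq_fintype_card,
    card_L h, Nat.cast_mul]
  have he0 : (e : ℂ) ≠ 0 := Nat.cast_ne_zero.mpr (by have := h.he2; omega)
  have hK0 : (Nat.card (K x L) : ℂ) ≠ 0 := Nat.cast_ne_zero.mpr Nat.card_pos.ne'
  split_ifs
  · field_simp; ring
  · field_simp; ring

open scoped Classical in
/-- The multiplicities when the values off `K` are those of a linear character. -/
theorem lines_formula {μ : K x L →* ℂ} {f : G → ℂ} (hf : IsCharacter G f) (hc : Cent μ f) (a : ℂ)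
    (c ψ : L →* ℂ) (hcμ : ∀ k : K x L, c (k : L) = μ k) (hψ : ∀ k : K x L, ψ (k : L) = μ k)
    (hoff : ∀ l : L, l ∉ K x L → f (l : G) = a * c l) :
    (lines p x f ψ : ℂ) = a * (if c = ψ then 1 else 0) + (mu x f (0 : ZMod p) - a) / (e : ℂ) := by
  have hne : K x L ≠ ⊤ := fun htop => by
    have h1 := h.he
    rw [htop, Subgroup.index_top] at h1
    have := h.he2
    omega
  obtain ⟨i, hi⟩ : ∃ i : L, i ∉ K x L := by
    by_contra hno
    push Not at hno
    exact hne ((Subgroup.eq_top_iff' _).mpr hno)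
  rw [lines_formula_inv h hf hc i hi a c ψ hcμ hψ (a * c i) (hoff i hi) (fun l hl _ => hoff l hl), sub_self, zero_mul,
    add_zero]

end Cfsg.Agent.FeitSmall
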