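/-
Totals and bounds for the exceptional constituents of products (namespace `Cfsg.Agent.FeitSmall`).

Main results: `Minus`, `sum_cpow_eq_zero`, `crit_false`, `sum_shift`, `bound_line`, `oneG_notMem`,
`bound_principal`.
-/
import Cfsg.Agent.Lib.FeitSmall.Fixed
import Cfsg.Agent.Lib.FeitSmall.Criterion

set_option autoImplicit false
set_option linter.unusedSectionVars false
set_option linter.style.haveILetI false

open scoped ComplexConjugate

namespace Cfsg.Agent.FeitSmall

open Cfsg Cfsg.Agent.Blocks Cfsg.Agent.CyclicDefect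

variable {G : Type*} [Group G] [Fintype G] {p : ℕ} [Fact p.Prime] {x : G} {L : Subgroup G} {e t : ℕ}
variable (h : CCore p x L e t)
include h

/-- A family of degree `p - e`. -/
structure Fam.Minus {μ : K x L →* ℂ} (A : Fam h μ) : Prop where
  eps : A.ε = -1
  m : A.M = 1

theorem e_lt : e + t ≤ p := by
  have h1 := h.hte
  have h2 := h.he2
  have h3 := h.ht2
  have h4 := (Fact.out : p.Prime).two_le
  have h5 := Nat.mul_le_mul_left (t - 1) (show 1 ≤ e by omega)
  have h6 : t * e = (t - 1) * e + e := by rw [← Nat.succ_mul]; congr 1; omega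
  omega

theorem sum_cpow_eq_zero {k : ℕ} (hk : 1 ≤ k) (hkt : k < t) :
    ∑ c : T h.hS, cpow (U0 h.hS) c ^ k = 0 := by
  classical
  have he := h.he2
  have hlt : e * k < Fintype.card (ZMod p) - 1 := by
    rw [ZMod.card, ← h.hte, mul_comm t e]
    exact Nat.mul_lt_mul_of_pos_left hkt (by omega)
  have h1 := FiniteField.sum_pow_lt_card_sub_one (ZMod p) (e * k) hlt
  rw [sum_split_cs (U0 h.hS) (fun j : ZMod p => j ^ (e * k)), zero_pow (Nat.mul_ne_zero (by omega) (by omega)),
    zero_add] at h1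
  have h2 : ∀ c : T h.hS, ∑ j ∈ cs (U0 h.hS) c, j ^ (e * k) = (e : ZMod p) * cpow (U0 h.hS) c ^ k := fun c => by
    rw [sum_cs_pow, card_U0 h, if_pos (dvd_mul_right e k), Nat.mul_div_cancel_left k (by omega)]
  rw [Finset.sum_congr rfl fun c _ => h2 c, ← Finset.mul_sum] at h1
  refine (mul_eq_zero.mp h1).resolve_left ?_
  rw [ZMod.natCast_eq_zero_iff]
  intro hd
  have := Nat.le_of_dvd (by omega) hd
  have := e_lt h
  have := h.ht2
  omega

/-- Too many short rows of shifted cyclotomic numbers. -/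
theorem crit_false {δ k : ℤ} (hδ : δ = 1 ∨ δ = -1) (A : T h.hS → T h.hS → ℕ)
    (hA : ∀ a γ, (A a γ : ℤ) = δ * (nu (U0 h.hS) a 1 γ + k)) {J : ℕ} (hJt : J < t)
    (hJe : δ = 1 → J ≤ e) (S : Finset (T h.hS)) (hS : J < S.card) (hR : ∀ a ∈ S, ∑ γ, A a γ < J) : False := by
  classical
  have he := h.he2
  have hep := e_lt h
  have ht := h.ht2
  let n : ℕ := if δ = 1 then e else p - e
  have hn : n < p := by simp only [n]; split_ifs <;> omega
  have hne : (n : ZMod p) = (δ : ZMod p) * (e : ZMod p) := by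
    simp only [n]
    rcases hδ with e' | e'
    · rw [if_pos e', e', Int.cast_one, one_mul]
    · rw [if_neg (by omega), e', Nat.cast_sub (by omega), CharP.cast_eq_zero, Int.cast_neg, Int.cast_one,
        zero_sub, neg_one_mul]
  let H : ℕ → Polynomial (ZMod p) := fun m => Polynomial.C ((δ : ZMod p) * (e : ZMod p)) *
    ∑ l ∈ Finset.range (m + 1), Polynomial.C (((e * m).choose (e * l) : ℕ) : ZMod p) * Polynomial.X ^ l
  refine criterion H (fun m => ?_) hn (n := n) (J := J) ?_ (fun m h1 _ => ?_) S (fun a => cpow (U0 h.hS) a)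
    ((cpow_injective (U0 h.hS)).injOn) hS fun a ha => ?_
  · refine (Polynomial.natDegree_C_mul_le _ _).trans (Polynomial.natDegree_sum_le_of_forall_le _ _ fun l hl => ?_)
    refine (Polynomial.natDegree_C_mul_X_pow_le _ _).trans ?_
    have := Finset.mem_range.mp hl
    omega
  · simp only [n]
    split_ifs with e'
    · exact hJe e'
    · omega
  · simp only [H, Polynomial.eval_mul, Polynomial.eval_C, Polynomial.eval_finsetSum, Polynomial.eval_pow,
      Polynomial.eval_X]
    rw [Finset.sum_eq_single 0 (fun l _ hl => by rw [zero_pow hl, mul_zero]) (fun h0 => by simp at h0), mul_zero,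
      Nat.choose_zero_right, Nat.cast_one, pow_zero, mul_one, mul_one, hne]
  · refine ⟨(γ : T h.hS) × Fin (A a γ), inferInstance, fun q => cpow (U0 h.hS) q.1, ?_, fun m h1 h2 => ?_⟩
    · rw [Fintype.card_sigma]
      simpa using hR a ha
    · rw [Fintype.sum_sigma]
      simp only [Finset.sum_const, Finset.card_univ, Fintype.card_fin, nsmul_eq_mul]
      have hval : ∀ γ, (A a γ : ZMod p) * cpow (U0 h.hS) γ ^ m =
          (δ : ZMod p) * ((nu (U0 h.hS) a 1 γ : ZMod p) * cpow (U0 h.hS) γ ^ m + (k : ZMod p) * cpow (U0 h.hS) γ ^ m) := by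
        intro γ
        have h3 : ((A a γ : ℤ) : ZMod p) = ((δ * (nu (U0 h.hS) a 1 γ + k) : ℤ) : ZMod p) := by rw [hA]
        push_cast at h3
        rw [h3]; ring
      rw [Finset.sum_congr rfl fun γ _ => hval γ, ← Finset.mul_sum, Finset.sum_add_distrib, ← Finset.mul_sum,
        sum_cpow_eq_zero h h1 (by omega), mul_zero, add_zero, power_sum (U0 h.hS) a 1 (by omega), card_U0 h,
        cpow_one]
      simp only [H, Polynomial.eval_mul, Polynomial.eval_C, Polynomial.eval_finsetSum, Polynomial.eval_pow,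
        Polynomial.eval_X, one_pow, mul_one, mul_assoc]

open scoped Classical in
theorem sum_shift (k : ℤ) (a b : T h.hS) :
    ∑ γ : T h.hS, ((nu (U0 h.hS) a b γ : ℤ) + k) =
      (e : ℤ) - (if b = negOne (U0 h.hS) * a then 1 else 0) + k * t := by
  rw [Finset.sum_add_distrib, Finset.sum_const, Finset.card_univ, ← Nat.card_eq_fintype_card, card_classes h,
    nsmul_eq_mul, ← Nat.cast_sum]
  have h1 := sum_nu (U0 h.hS) a b
  rw [card_U0 h] at h1
  split_ifs at h1 ⊢ <;> (zify at h1; push_cast; linarith)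

open scoped Classical in
/-- The exceptional characters share each of their lines. -/
theorem bound_line {μ : K x L →* ℂ} (C : Fam h μ) {f : G → ℂ} (hf : IsCharacter G f) {ψ : L →* ℂ}
    (hψ : ∀ c, 1 ≤ lines p x (C.exc c : G → ℂ) ψ) : ∑ γ : T h.hS, cm f (C.exc γ) ≤ lines p x f ψ := by
  rw [← Finset.sum_image (f := fun χ => cm f χ) (g := C.exc) fun a _ b _ e' => C.inj e']
  refine sum_cm_le h hf fun χ hχ => ?_
  obtain ⟨c, -, rfl⟩ := Finset.mem_image.mp hχ
  exact hψ c

/-- The principal character. -/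
noncomputable abbrev oneIrr (G : Type*) [Group G] : IrrCharacter G := ⟨1, Char.isIrrCharacter_one⟩

omit h in
theorem cm_one {f : G → ℂ} (hf : IsCharacter G f) :
    (cm f (oneIrr G) : ℂ) = (Nat.card G : ℂ)⁻¹ * ∑ g, f g := by
  rw [← cm_spec hf, classInner]
  simp

theorem N_one (j : ZMod p) : N h (oneIrr G) j = if j = 0 then 1 else 0 := by
  apply Nat.cast_injective (R := ℂ)
  rw [← N_spec h, mu_of_expansion (c := fun j => if j = 0 then 1 else 0) (fun i => ?_)]
  · split_ifs <;> simp
  · simp only [ite_mul, one_mul, zero_mul, Finset.sum_ite_eq', Finset.mem_univ, if_true, mul_zero, ζ_zero]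
    rfl

theorem oneG_notMem {μ : K x L →* ℂ} (C : Fam h μ) : oneIrr G ∉ Set.range C.exc := by
  classical
  rintro ⟨c, hc⟩
  haveI : Nontrivial (T h.hS) := Finite.one_lt_card_iff_nontrivial.mp (by rw [card_classes h]; exact h.ht2)
  obtain ⟨d, hd⟩ := exists_ne c
  have h1 := C.row c 0
  have h2 := C.row c ((d.out : (ZMod p)ˣ) : ZMod p)
  rw [hc, N_one h, if_pos rfl, ind_zero h] at h1
  rw [hc, N_one h, if_neg (Units.ne_zero _), ind_unit h,
    if_neg (by rw [show ((d.out : (ZMod p)ˣ) : T h.hS) = d from Quotient.out_eq d]; exact hd)] at h2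
  omega

theorem lines_one : lines p x ((oneIrr G : IrrCharacter G) : G → ℂ) (1 : L →* ℂ) = 1 := by
  have := Fintype.ofFinite L
  apply Nat.cast_injective (R := ℂ)
  rw [← lines_spec h (Char.IsIrrCharacter.isCharacter (oneIrr G).2), classInner]
  have hval : ∀ l : L, phiP p x ((oneIrr G : IrrCharacter G) : G → ℂ) l * conj ((1 : L →* ℂ) l) = 1 := fun l => by
    simp only [phiP, Pi.one_apply, Finset.sum_const, Finset.card_univ, ZMod.card, nsmul_eq_mul, mul_one,
      inv_mul_cancel₀ (Nat.cast_ne_zero.mpr (Fact.out : p.Prime).ne_zero : (p : ℂ) ≠ 0), MonoidHom.one_apply, map_one]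
  rw [Finset.sum_congr rfl fun l _ => hval l, Finset.sum_const, Finset.card_univ, nsmul_eq_mul, mul_one,
    ← Nat.card_eq_fintype_card, inv_mul_cancel₀ (Nat.cast_ne_zero.mpr Nat.card_pos.ne'), Nat.cast_one]

open scoped Classical in
/-- When the exceptional characters have the trivial line, so does the trivial character. -/
theorem bound_principal {μ : K x L →* ℂ} (C : Fam h μ) {f : G → ℂ} (hf : IsCharacter G f)
    (hψ : ∀ c, 1 ≤ lines p x (C.exc c : G → ℂ) (1 : L →* ℂ)) :
    ∑ γ : T h.hS, cm f (C.exc γ) + cm f (oneIrr G) ≤ lines p x f (1 : L →* ℂ) := by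
  have hn : oneIrr G ∉ Finset.univ.image C.exc := by simpa using oneG_notMem h C
  rw [← Finset.sum_image (f := fun χ => cm f χ) (g := C.exc) fun a _ b _ e' => C.inj e', add_comm,
    ← Finset.sum_insert hn]
  refine sum_cm_le h hf fun χ hχ => ?_
  rcases Finset.mem_insert.mp hχ with rfl | hχ
  · rw [lines_one h]
  · obtain ⟨c, -, rfl⟩ := Finset.mem_image.mp hχ
    exact hψ c

end Cfsg.Agent.FeitSmall
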