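/-
The two squares of a character (namespace `Cfsg.Agent.FeitSmall`).

Main results: `symSq`, `isCharacter_symSq`, `mu_sqPow`, `cm_squares`.
-/
import Cfsg.Agent.Lib.FeitSmall.Product
import Cfsg.Agent.Lib.DegPMinusTwo.ExtSquare

set_option autoImplicit false
set_option linter.unusedSectionVars false
set_option linter.style.haveILetI false

open scoped Kronecker ComplexConjugate

namespace Cfsg.Agent.FeitSmall

open Cfsg Cfsg.Agent.Blocks Cfsg.Agent.CyclicDefect
open DegPMinusTwo (swapMat swapMat_mul mul_swapMat swapMat_comm swapMat_sq extSq)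

variable {G : Type*} [Group G] {n : ℕ}

/-- The value of the symmetric square. -/
noncomputable def symSq (χ : G → ℂ) (g : G) : ℂ := (χ g ^ 2 + χ (g ^ 2)) / 2

/-- The projection on the symmetric tensors. -/
noncomputable def symProj (n : ℕ) : Matrix (Fin n × Fin n) (Fin n × Fin n) ℂ := (2 : ℂ)⁻¹ • (1 + swapMat n)

theorem symProj_idem : symProj n * symProj n = symProj n := by
  have h : (1 + swapMat n) * (1 + swapMat n) = (2 : ℂ) • (1 + swapMat n) := by
    rw [add_mul, one_mul, mul_add, mul_one, swapMat_sq, two_smul]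
    abel
  rw [symProj, smul_mul_smul_comm, h, smul_smul]
  norm_num

theorem symProj_comm (g : Matrix (Fin n) (Fin n) ℂ) : symProj n * (g ⊗ₖ g) = (g ⊗ₖ g) * symProj n := by
  simp only [symProj, Matrix.smul_mul, Matrix.mul_smul, add_mul, mul_add, one_mul, mul_one, swapMat_comm]

/-- The symmetric square of a character is a character. -/
theorem isCharacter_symSq {χ : G → ℂ} (hχ : IsCharacter G χ) : IsCharacter G (symSq χ) := by
  obtain ⟨n, ρ, rfl⟩ := hχ
  let m : G → Matrix (Fin n) (Fin n) ℂ := fun g => LinearMap.toMatrixAlgEquiv' (ρ g)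
  have hm : ∀ g h, m (g * h) = m g * m h := fun g h => by simp only [m, map_mul]
  let R : G →* Matrix (Fin n × Fin n) (Fin n × Fin n) ℂ :=
    { toFun := fun g => m g ⊗ₖ m g
      map_one' := by simp only [m, map_one, Matrix.one_kronecker_one]
      map_mul' := fun g h => by rw [hm, Matrix.mul_kronecker_mul] }
  set W := LinearMap.range (Matrix.toLin' (symProj n))
  have hinv : ∀ g, ∀ v ∈ W, Matrix.toLin' (R g) v ∈ W := by
    rintro g v ⟨f, rfl⟩
    refine ⟨Matrix.toLin' (R g) f, ?_⟩
    show Matrix.toLin' (symProj n) (Matrix.toLin' (m g ⊗ₖ m g) f) = Matrix.toLin' (m g ⊗ₖ m g) (Matrix.toLin' (symProj n) f)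
    rw [← Matrix.toLin'_mul_apply, ← Matrix.toLin'_mul_apply, symProj_comm]
  let σ : Representation ℂ G W :=
    { toFun := fun g => LinearMap.restrict (Matrix.toLin' (R g)) (hinv g)
      map_one' := by
        refine LinearMap.ext fun v => Subtype.ext ?_
        show Matrix.toLin' (R 1) v.1 = v.1
        rw [map_one, Matrix.toLin'_one]
        rfl
      map_mul' := fun g h => by
        refine LinearMap.ext fun v => Subtype.ext ?_
        show Matrix.toLin' (R (g * h)) v.1 = Matrix.toLin' (R g) (Matrix.toLin' (R h) v.1)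
        rw [map_mul, Matrix.toLin'_mul]
        rfl }
  suffices h : σ.character = symSq ρ.character from h ▸ Char.isCharacter_character σ
  funext g
  let π : ((Fin n × Fin n) → ℂ) →ₗ[ℂ] W := (Matrix.toLin' (symProj n)).rangeRestrict
  have hr : σ g = π ∘ₗ (Matrix.toLin' (R g) ∘ₗ W.subtype) := by
    refine LinearMap.ext fun v => Subtype.ext ?_
    obtain ⟨v, f, rfl⟩ := v
    show Matrix.toLin' (R g) (Matrix.toLin' (symProj n) f) =
      Matrix.toLin' (symProj n) (Matrix.toLin' (R g) (Matrix.toLin' (symProj n) f))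
    rw [← Matrix.toLin'_mul_apply, ← Matrix.toLin'_mul_apply, show R g = m g ⊗ₖ m g from rfl, ← symProj_comm,
      ← mul_assoc, symProj_idem]
  have htr : ∀ h, ρ.character h = (m h).trace := fun h => by
    rw [Representation.character, LinearMap.trace_eq_matrix_trace ℂ (Pi.basisFun ℂ (Fin n))]
    rfl
  rw [Representation.character, hr, LinearMap.trace_comp_comm', LinearMap.comp_assoc,
    show W.subtype ∘ₗ π = Matrix.toLin' (symProj n) from rfl, ← Matrix.toLin'_mul, Matrix.trace_toLin'_eq,
    symSq, htr, htr, pow_two g, hm, show R g = m g ⊗ₖ m g from rfl, symProj, Matrix.mul_smul, mul_add, mul_one,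
    Matrix.trace_smul, Matrix.trace_add, Matrix.trace_kronecker, smul_eq_mul, pow_two]
  have hsw : ((m g ⊗ₖ m g) * swapMat n).trace = (m g * m g).trace := by
    show ∑ a, ((m g ⊗ₖ m g) * swapMat n) a a = ∑ i, (m g * m g) i i
    rw [Finset.sum_congr rfl fun a _ => mul_swapMat _ a a]
    simp [Fintype.sum_prod_type, Matrix.mul_apply]
  rw [hsw]
  ring

variable {p : ℕ} [Fact p.Prime] {x : G} {L : Subgroup G}

theorem mu_extSq (f : G → ℂ) (j : ZMod p) :
    mu x (extSq f) j = (mu x (fun g => f g * f g) j - mu x (fun g => f (g ^ 2)) j) / 2 := by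
  simp only [mu, extSq, ← Finset.sum_sub_distrib, ← mul_sub, Finset.mul_sum, Finset.sum_div, pow_two (f _)]
  exact Finset.sum_congr rfl fun i _ => by ring

theorem mu_symSq (f : G → ℂ) (j : ZMod p) :
    mu x (symSq f) j = (mu x (fun g => f g * f g) j + mu x (fun g => f (g ^ 2)) j) / 2 := by
  simp only [mu, symSq, ← Finset.sum_add_distrib, ← mul_add, Finset.mul_sum, Finset.sum_div, pow_two (f _)]
  exact Finset.sum_congr rfl fun i _ => by ring

theorem cent_sqPow [Finite G] {e t : ℕ} (h : CCore p x L e t) {μ : K x L →* ℂ} {f : G → ℂ} (hc : Cent μ f) :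
    Cent (μ * μ) (fun g => f (g ^ 2)) := fun g k => by
  have hcomm : Commute g (((k : L) : G)) := Subgroup.mem_center_iff.mp (h.hK k) g
  simp only [hcomm.mul_pow, MonoidHom.mul_apply]
  have := hc (g ^ 2) (k * k)
  rw [Subgroup.coe_mul, Subgroup.coe_mul, map_mul] at this
  rw [pow_two (((k : L) : G)), this]

theorem cent_extSq [Finite G] {e t : ℕ} (h : CCore p x L e t) {μ : K x L →* ℂ} {f : G → ℂ} (hc : Cent μ f) :
    Cent (μ * μ) (extSq f) := fun g k => by
  have h1 := (hc.mul hc) g k
  have h2 := cent_sqPow h hc g k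
  simp only [extSq, MonoidHom.mul_apply, pow_two (f _)] at h1 h2 ⊢
  rw [h1, h2]
  ring

theorem cent_symSq [Finite G] {e t : ℕ} (h : CCore p x L e t) {μ : K x L →* ℂ} {f : G → ℂ} (hc : Cent μ f) :
    Cent (μ * μ) (symSq f) := fun g k => by
  have h1 := (hc.mul hc) g k
  have h2 := cent_sqPow h hc g k
  simp only [symSq, MonoidHom.mul_apply, pow_two (f _)] at h1 h2 ⊢
  rw [h1, h2]
  ring

theorem mu_sqPow [Finite G] {e t : ℕ} (h : CCore p x L e t) (h2 : (2 : ZMod p) ≠ 0) (f : G → ℂ) (j : ZMod p) :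
    mu x (fun g => f (g ^ 2)) j = mu x f ((2 : ZMod p)⁻¹ * j) := by
  refine mu_of_expansion (c := fun j' => mu x f ((2 : ZMod p)⁻¹ * j')) (fun i => ?_) j
  rw [h.hS.pw_pow, apply_pw_eq_sum f, Nat.cast_ofNat]
  refine Fintype.sum_equiv (Equiv.mulLeft₀ (2 : ZMod p) h2) _ _ fun j' => ?_
  rw [show Equiv.mulLeft₀ (2 : ZMod p) h2 j' = (2 : ZMod p) * j' from rfl, inv_mul_cancel_left₀ h2]
  congr 2
  ring

theorem cm_squares [Fintype G] {f : G → ℂ} (hf : IsCharacter G f) (χ : IrrCharacter G) :
    cm (fun g => f g * f g) χ = cm (extSq f) χ + cm (symSq f) χ := by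
  apply Nat.cast_injective (R := ℂ)
  rw [Nat.cast_add, ← cm_spec (DegPMinusTwo.isCharacter_extSq hf), ← cm_spec (isCharacter_symSq hf),
    ← cm_spec (f := fun g => f g * f g) (Char.IsCharacter.mul hf hf), ← Char.classInner_add_left]
  congr 1
  funext g
  simp only [Pi.add_apply, extSq, symSq]
  ring

end Cfsg.Agent.FeitSmall
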