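/-
Products of two families of degree `p - e` (namespace `Cfsg.Agent.FeitSmall`).

Main results: `exists_pow_fam`, `Fam.M_pos_of_gen`, `excess_mod`, `lines_prod`, `crit_neg`, `crit_pos`,
`principal_shift`.
-/
import Cfsg.Agent.Lib.FeitSmall.Rows
import Cfsg.Agent.Lib.FeitSmall.Squares
import Cfsg.Agent.Lib.CyclicDefect.SmallDegree
import Cfsg.Agent.Lib.DegPMinusTwo.Local
import Cfsg.Agent.Lib.HalfDegree.Reduction

set_option autoImplicit false
set_option linter.unusedSectionVars false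
set_option linter.style.haveILetI false

open scoped ComplexConjugate
open scoped commutatorElement

namespace Cfsg.Agent.FeitSmall

open Cfsg Cfsg.Agent.Blocks Cfsg.Agent.CyclicDefect

variable {G : Type*} [Group G] [Fintype G] {p : ℕ} [Fact p.Prime] {x : G} {L : Subgroup G} {e t : ℕ}
variable (h : CCore p x L e t)
include h

theorem exists_coprime_modEq {n r : ℕ} (hn : n ∣ Nat.card G) (hr : r.Coprime n) :
    ∃ k : ℕ, k.Coprime (Nat.card G) ∧ k % n = r % n := by
  have hG : Nat.card G ≠ 0 := Nat.card_pos.ne'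
  haveI : NeZero (Nat.card G) := ⟨hG⟩
  obtain ⟨u, hu⟩ := ZMod.unitsMap_surjective hn (ZMod.unitOfCoprime r hr)
  refine ⟨(u : ZMod (Nat.card G)).val, ZMod.val_coe_unit_coprime u, ?_⟩
  haveI : NeZero n := ⟨fun h0 => hG (Nat.eq_zero_of_zero_dvd (h0 ▸ hn))⟩
  have h1 := congrArg Units.val hu
  rw [ZMod.unitsMap_val, ZMod.cast_eq_val] at h1
  exact (ZMod.natCast_eq_natCast_iff' _ _ _).mp h1

theorem card_K_dvd : Nat.card (K x L) ∣ Nat.card G :=
  (Subgroup.card_subgroup_dvd_card _).trans (Subgroup.card_subgroup_dvd_card L)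

theorem ind_unit_mul (s : (ZMod p)ˣ) (c : T h.hS) (j : ZMod p) :
    ind h ((s : T h.hS) * c) ((s : ZMod p) * j) = ind h c j := by
  unfold ind
  refine if_congr ⟨fun hm => ?_, fun hm => mul_mem_cs _ ((unit_mem_cs _).mpr rfl) hm⟩ rfl rfl
  have := mul_mem_cs (U0 h.hS) ((unit_mem_cs (U0 h.hS) (u := s⁻¹)).mpr rfl) hm
  rwa [Units.inv_mul_cancel_left, QuotientGroup.mk_inv, inv_mul_cancel_left] at this

/-- The family of the conjugates by a power map. -/
theorem exists_pow_fam {μ ν : K x L →* ℂ} (A : Fam h μ) (C : Fam h ν) {k : ℕ} (hk : k.Coprime (Nat.card G))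
    (hν : ∀ z : K x L, ν z = μ z ^ k) : C.ε = A.ε ∧ C.M = A.M ∧
      ∀ (c : T h.hS) (g : G), ¬ p ∣ orderOf g → (C.exc c : G → ℂ) g = (A.exc 1 : G → ℂ) (g ^ k) := by
  have hk0 : (k : ZMod p) ≠ 0 := by
    rw [Ne, ZMod.natCast_eq_zero_iff]
    intro hd
    exact (Fact.out : p.Prime).ne_one (Nat.eq_one_of_dvd_coprimes hk hd (h.hS.hx ▸ orderOf_dvd_natCard x))
  set s : (ZMod p)ˣ := Units.mk0 (k : ZMod p) hk0
  have hcent : Cent ν (GaloisPow.powIrr hk (A.exc 1) : G → ℂ) := fun g z => by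
    show (A.exc 1 : G → ℂ) ((g * ((z : L) : G)) ^ k) = (A.exc 1 : G → ℂ) (g ^ k) * ν z
    have hcomm : Commute g (((z : L) : G)) := Subgroup.mem_center_iff.mp (h.hK z) g
    rw [hcomm.mul_pow, show ((z : L) : G) ^ k = (((z ^ k : K x L) : L) : G) from by simp, A.cent 1, map_pow, hν]
  have hrow : ∀ j : ZMod p, (N h (GaloisPow.powIrr hk (A.exc 1)) j : ℤ) =
      (A.M : ℤ) + A.ε * ind h ((s : T h.hS) * 1) j := by
    intro j
    have h1 : j = (k : ZMod p) * ((k : ZMod p)⁻¹ * j) := by rw [mul_inv_cancel_left₀ hk0]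
    rw [h1, N_powIrr h hk, A.row]
    congr 2
    exact (ind_unit_mul h s 1 _).symm
  obtain ⟨he, hε, hM⟩ := mem_of_row h C hcent A.hε hrow
  refine ⟨hε, hM, fun c g hg => ?_⟩
  rw [C.reg c ((s : T h.hS) * 1) g hg, he]
  rfl

theorem Fam.M_pos_of_neg {μ : K x L →* ℂ} (A : Fam h μ) (hε : A.ε = -1) : 1 ≤ A.M := by
  by_contra hlt
  have h1 := A.deg h 1
  rw [hε, show A.M = 0 by omega] at h1
  have := charDegree_pos (A.exc 1)
  simp only [Nat.cast_zero, mul_zero, zero_add] at h1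
  omega

theorem norm_ne_of_gen (hgen : Subgroup.closure {g : G | orderOf g = p} = ⊤) {χ : IrrCharacter G}
    (hχ : χ ≠ oneIrr G) : ‖(χ : G → ℂ) x‖ ≠ (charDegree (χ : G → ℂ) : ℝ) := by
  intro hn
  set N' := Codegree.kerSub χ
  let q := QuotientGroup.mk' N'
  have hxC : x ∈ (Subgroup.center (G ⧸ N')).comap q := by
    rw [Subgroup.mem_comap, Subgroup.mem_center_iff]
    intro a
    obtain ⟨a, rfl⟩ := QuotientGroup.mk'_surjective N' a
    rw [← map_mul, ← map_mul]
    refine QuotientGroup.eq.mpr (Codegree.mem_kerSub.mpr ?_)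
    have h1 := DegPMinusTwo.apply_commutator_of_norm hn a
    have hc := irr_class χ ((a * x)⁻¹ * (x * a)) a
    rw [show (a * x)⁻¹ * (x * a) = x⁻¹ * a⁻¹ * x * a by group]
    exact h1
  have htop : (Subgroup.center (G ⧸ N')).comap q = ⊤ := by
    rw [eq_top_iff, ← hgen, Subgroup.closure_le]
    intro g hg
    obtain ⟨c, hc⟩ := HalfDegree.exists_conj_mem h.hS hg
    have h1 := (inferInstance : ((Subgroup.center (G ⧸ N')).comap q).Normal).conj_mem _
      (Subgroup.zpowers_le.mpr hxC hc) c⁻¹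
    simpa [mul_assoc] using h1
  have hle : commutator G ≤ N' := by
    rw [commutator_def, Subgroup.commutator_le]
    intro a _ b _
    rw [← QuotientGroup.eq_one_iff]
    have hb : q b ∈ Subgroup.center (G ⧸ N') := by
      rw [← Subgroup.mem_comap, htop]; exact Subgroup.mem_top b
    show q ⁅a, b⁆ = 1
    rw [map_commutatorElement, commutatorElement_eq_one_iff_mul_comm]
    exact Subgroup.mem_center_iff.mp hb (q a)
  rw [h.hperf] at hle
  have hall : ∀ g : G, (χ : G → ℂ) g = (χ : G → ℂ) 1 := fun g => Codegree.mem_kerSub.mp (hle (Subgroup.mem_top g))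
  have h1 : classInner (χ : G → ℂ) ((oneIrr G : IrrCharacter G) : G → ℂ) = (χ : G → ℂ) 1 := by
    rw [classInner]
    simp only [hall, Pi.one_apply, map_one, mul_one, Finset.sum_const, Finset.card_univ, nsmul_eq_mul,
      ← Nat.card_eq_fintype_card]
    rw [inv_mul_cancel_left₀ (Nat.cast_ne_zero.mpr Nat.card_pos.ne')]
  rw [Char.classInner_irr_of_ne χ.2 (oneIrr G).2 (fun e' => hχ (Subtype.ext e'))] at h1
  exact irr_one_ne_zero χ h1.symm

theorem Fam.M_pos_of_gen {μ : K x L →* ℂ} (A : Fam h μ) (hgen : Subgroup.closure {g : G | orderOf g = p} = ⊤)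
    (ht3 : 3 ≤ t) : 1 ≤ A.M := by
  rcases A.hε with hε | hε
  swap
  · exact A.M_pos_of_neg h hε
  by_contra hlt
  have h1 := A.deg h 1
  rw [hε, show A.M = 0 by omega] at h1
  simp only [Nat.cast_zero, mul_zero, zero_add, one_mul, Nat.cast_inj] at h1
  have hte := h.hte
  have h3 := Nat.mul_le_mul_right e ht3
  obtain ⟨M, hM⟩ := CentralChar.exists_pModular p
  have hp1 := (Fact.out : p.Prime).two_le
  have hpe : p = t * e + 1 := by omega
  rcases norm_eq_or_half h.hS hM hgen (A.exc 1) (le_trans (by rw [h1]; linarith : _ ≤ t * e + 1) hpe.ge) with h2 | ⟨h2, -⟩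
  · exact norm_ne_of_gen h hgen (fun e' => oneG_notMem h A ⟨1, e'⟩) h2
  · have := h.he2
    rw [h1] at h2
    generalize t * e = q at hpe h3
    omega

/-- The congruence of the degree and the fixed space. -/
theorem excess_mod {ν : K x L →* ℂ} (C : Fam h ν) {f : G → ℂ} (hf : IsCharacter G f) (hc : Cent ν f) :
    ∃ C0 : ℤ, f 1 - (p : ℂ) * mu x f (0 : ZMod p) =
      (((e : ℤ) * (t * C0 + C.ε * ∑ γ : T h.hS, (cm f (C.exc γ) : ℤ)) : ℤ) : ℂ) := by
  classical
  obtain ⟨C0, hC0⟩ := row_formula h C hf hc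
  refine ⟨C0, ?_⟩
  have h1 : f 1 = ∑ j : ZMod p, mu x f j := by
    rw [← h.hS.pw_zero, apply_pw_eq_sum f]
    exact Finset.sum_congr rfl fun j _ => by rw [zero_mul, ζ_zero, mul_one]
  have h2 : f 1 - (p : ℂ) * mu x f (0 : ZMod p) = ∑ j : ZMod p, (mu x f j - mu x f (0 : ZMod p)) := by
    rw [h1, Finset.sum_sub_distrib, Finset.sum_const, Finset.card_univ, ZMod.card, nsmul_eq_mul]
  rw [h2, sum_split_cs (U0 h.hS), sub_self, zero_add]
  have hval : ∀ γ : T h.hS, ∀ j ∈ cs (U0 h.hS) γ,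
      mu x f j - mu x f (0 : ZMod p) = ((C.ε * cm f (C.exc γ) + C0 : ℤ) : ℂ) := by
    intro γ j hj
    obtain ⟨u, hu, rfl⟩ := (mem_cs _).mp hj
    rw [hC0 u, hu]
  rw [Finset.sum_congr rfl fun γ _ => Finset.sum_congr rfl (hval γ)]
  simp only [Finset.sum_const, card_cs, card_U0 h, nsmul_eq_mul]
  push_cast
  simp only [mul_add, Finset.sum_add_distrib, Finset.sum_const, Finset.card_univ, nsmul_eq_mul, Finset.mul_sum]
  rw [← Nat.card_eq_fintype_card, card_classes h]
  ring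

theorem mu_prod_zero {μ μ' : K x L →* ℂ} (A : Fam h μ) (B : Fam h μ') (hA : A.Minus h) (hB : B.Minus h)
    (a b : T h.hS) [Decidable (b = negOne (U0 h.hS) * a)] :
    mu x (fun g => (A.exc a : G → ℂ) g * (B.exc b : G → ℂ) g) (0 : ZMod p) =
      (((p : ℤ) - 2 * e + (if b = negOne (U0 h.hS) * a then (e : ℤ) else 0) : ℤ) : ℂ) := by
  classical
  rw [mu_prod h, hA.eps, hA.m, hB.eps, hB.m]
  have h0 : nuAt (U0 h.hS) a b 0 = if b = negOne (U0 h.hS) * a then e else 0 := by
    have h1 : nuAt (U0 h.hS) a b 0 =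
        ((cs (U0 h.hS) a ×ˢ cs (U0 h.hS) b).filter fun uv => uv.1 + uv.2 = 0).card := by
      rw [nuAt]
      refine (Finset.card_bij (fun uv _ => uv.1) (fun uv huv => ?_) (fun uv huv uv' huv' e' => ?_) (fun u hu => ?_)).symm
      · obtain ⟨hm, h0⟩ := Finset.mem_filter.mp huv
        obtain ⟨h1, h2⟩ := Finset.mem_product.mp hm
        exact Finset.mem_filter.mpr ⟨h1, by rwa [zero_sub, ← eq_neg_of_add_eq_zero_right h0]⟩
      · refine Prod.ext e' ?_
        have := (Finset.mem_filter.mp huv).2.trans (Finset.mem_filter.mp huv').2.symm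
        rw [e'] at this
        exact add_left_cancel this
      · obtain ⟨h1, h2⟩ := Finset.mem_filter.mp hu
        exact ⟨(u, 0 - u), Finset.mem_filter.mpr ⟨Finset.mem_product.mpr ⟨h1, h2⟩, add_sub_cancel u 0⟩, rfl⟩
    rw [h1, card_neg_pairs, card_U0 h]
    congr 1
  rw [h0, Int.cast_inj]
  push_cast
  split_ifs <;> ring

open scoped Classical in
/-- The lines on the fixed space of a product. -/
theorem lines_prod {μ μ' : K x L →* ℂ} (A : Fam h μ) (B : Fam h μ') (hA : A.Minus h) (hB : B.Minus h)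
    {ω ω' : L →* ℂ} (hω : ∀ k : K x L, ω (k : L) = μ k) (hω' : ∀ k : K x L, ω' (k : L) = μ' k)
    (hA' : ∀ c (l : L), l ∉ K x L → (A.exc c : G → ℂ) (l : G) = ω l)
    (hB' : ∀ c (l : L), l ∉ K x L → (B.exc c : G → ℂ) (l : G) = ω' l) (a b : T h.hS) {ψ : L →* ℂ}
    (hψ : ∀ k : K x L, ψ (k : L) = (μ * μ') k) :
    (lines p x (fun g => (A.exc a : G → ℂ) g * (B.exc b : G → ℂ) g) ψ : ℤ) =
      (t : ℤ) - 2 + (if b = negOne (U0 h.hS) * a then 1 else 0) + (if ω * ω' = ψ then 1 else 0) := by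
  have h1 := lines_formula h (isCharacter_prod h A B a b) (cent_prod h A B a b) 1 (ω * ω') ψ
    (fun k => by rw [MonoidHom.mul_apply, MonoidHom.mul_apply, hω, hω']) hψ
    (fun l hl => by rw [hA' a l hl, hB' b l hl, one_mul, MonoidHom.mul_apply])
  rw [mu_prod_zero h A B hA hB] at h1
  have hte : (p : ℂ) = (t : ℂ) * e + 1 := by
    have := (Fact.out : p.Prime).one_lt
    exact_mod_cast (show p = t * e + 1 by rw [h.hte]; omega)
  have he0 : (e : ℂ) ≠ 0 := Nat.cast_ne_zero.mpr (by have := h.he2; omega)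
  apply Int.cast_injective (α := ℂ)
  rw [Int.cast_natCast, h1]
  push_cast
  rw [hte]
  split_ifs <;> field_simp <;> ring

theorem negOne_eq_one (he : Even e) : negOne (U0 h.hS) = 1 := by
  obtain ⟨u, hu⟩ := exists_prime_orderOf_dvd_card' (G := U0 h.hS) 2 (by rw [card_U0 h]; exact he.two_dvd)
  have h1 : (((u : (ZMod p)ˣ)) : ZMod p) * ((u : (ZMod p)ˣ) : ZMod p) = 1 := by
    have := congrArg (fun v : U0 h.hS => (((v : (ZMod p)ˣ)) : ZMod p)) (pow_orderOf_eq_one u)
    rw [hu] at this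
    simpa [pow_two] using this
  rcases mul_self_eq_one_iff.mp h1 with h2 | h2
  · have hu1 : u = 1 := Subtype.ext (Units.ext h2)
    rw [hu1, orderOf_one] at hu
    omega
  · exact (QuotientGroup.eq_one_iff _).mpr ((show (u : (ZMod p)ˣ) = -1 from Units.ext (by simpa using h2)) ▸ u.2)

theorem negOne_ne_one (he : ¬ Even e) (hp2 : p ≠ 2) : negOne (U0 h.hS) ≠ 1 := by
  intro hm
  have h1 : orderOf (⟨-1, (QuotientGroup.eq_one_iff _).mp hm⟩ : U0 h.hS) = 2 := by
    rw [Subgroup.orderOf_mk, ← orderOf_units, Units.val_neg, Units.val_one, orderOf_neg_one,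
      show ringChar (ZMod p) = p from ZMod.ringChar_zmod_n p, if_neg hp2]
  refine he ((even_iff_two_dvd).mpr ?_)
  rw [← card_U0 h, ← h1]
  exact orderOf_dvd_natCard _

open scoped Classical in
/-- The negative case of the criterion. -/
theorem crit_neg {μ μ' ν : K x L →* ℂ} (A : Fam h μ) (B : Fam h μ') (C : Fam h ν) (hA : A.Minus h) (hB : B.Minus h)
    (hC : C.ε = -1) {k : ℤ} (hk : ∀ a b γ : T h.hS, (cm (fun g => (A.exc a : G → ℂ) g * (B.exc b : G → ℂ) g) (C.exc γ) : ℤ) =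
      C.ε * (A.ε * B.ε * nu (U0 h.hS) a b γ + k)) (hs : -(e : ℤ) - k * t + 3 ≤ t) : False := by
  set Am : T h.hS → T h.hS → ℕ := fun a γ => cm (fun g => (A.exc a : G → ℂ) g * (B.exc 1 : G → ℂ) g) (C.exc γ)
  have hAm : ∀ a γ, (Am a γ : ℤ) = (-1 : ℤ) * (nu (U0 h.hS) a 1 γ + k) := fun a γ => by
    show (cm _ _ : ℤ) = _
    rw [hk, hA.eps, hB.eps, hC]; ring
  have hR : ∀ a, a ≠ negOne (U0 h.hS) → ((∑ γ, Am a γ : ℕ) : ℤ) = -(e : ℤ) - k * t := fun a ha => by
    rw [Nat.cast_sum, Finset.sum_congr rfl fun γ _ => hAm a γ, ← Finset.mul_sum, sum_shift h k a 1, if_neg ?_]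
    · ring
    · intro h1
      refine ha ?_
      rw [← mul_one (negOne (U0 h.hS)), h1, negOne_mul_negOne_mul]
  have ht2 := h.ht2
  haveI : Nontrivial (T h.hS) := Finite.one_lt_card_iff_nontrivial.mp (by rw [card_classes h]; exact h.ht2)
  obtain ⟨a0, ha0⟩ := exists_ne (negOne (U0 h.hS))
  have h0 := hR a0 ha0
  refine crit_false h (δ := -1) (k := k) (Or.inr rfl) Am hAm (J := (∑ γ, Am a0 γ) + 1) (by omega) (by omega)
    (Finset.univ.erase (negOne (U0 h.hS))) ?_ fun a ha => ?_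
  · rw [Finset.card_erase_of_mem (Finset.mem_univ _), Finset.card_univ, ← Nat.card_eq_fintype_card, card_classes h]
    omega
  · have := hR a (Finset.ne_of_mem_erase ha)
    omega

open scoped Classical in
/-- The positive case of the criterion. -/
theorem crit_pos {μ μ' ν : K x L →* ℂ} (A : Fam h μ) (B : Fam h μ') (C : Fam h ν) (hA : A.Minus h) (hB : B.Minus h)
    (hC : C.ε = 1) {k : ℤ} (hk : ∀ a b γ : T h.hS, (cm (fun g => (A.exc a : G → ℂ) g * (B.exc b : G → ℂ) g) (C.exc γ) : ℤ) =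
      C.ε * (A.ε * B.ε * nu (U0 h.hS) a b γ + k)) (hk0 : k < 0) (hr : (e : ℤ) + k * t + 2 ≤ t) : False := by
  set Am : T h.hS → T h.hS → ℕ := fun a γ => cm (fun g => (A.exc a : G → ℂ) g * (B.exc 1 : G → ℂ) g) (C.exc γ)
  have hAm : ∀ a γ, (Am a γ : ℤ) = (1 : ℤ) * (nu (U0 h.hS) a 1 γ + k) := fun a γ => by
    show (cm _ _ : ℤ) = _
    rw [hk, hA.eps, hB.eps, hC]; ring
  have hR : ∀ a, ((∑ γ, Am a γ : ℕ) : ℤ) ≤ (e : ℤ) + k * t := fun a => by
    rw [Nat.cast_sum, Finset.sum_congr rfl fun γ _ => hAm a γ, ← Finset.mul_sum, sum_shift h k a 1]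
    split_ifs <;> linarith
  have h0 := hR 1
  have hkt : k * (t : ℤ) ≤ -1 := by
    have := h.ht2
    nlinarith
  refine crit_false h (δ := 1) (k := k) (Or.inl rfl) Am hAm (J := ((e : ℤ) + k * t).toNat + 1) (by omega) (by omega)
    Finset.univ ?_ fun a _ => ?_
  · rw [Finset.card_univ, ← Nat.card_eq_fintype_card, card_classes h]
    omega
  · have := hR a
    omega

open scoped Classical in
/-- The exceptional constituents of the products with the conjugates. -/
theorem principal_shift {μ ν : K x L →* ℂ} (A : Fam h μ) (C : Fam h ν) (hA : A.Minus h) (hν : ν = 1)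
    (hM : 1 ≤ C.M) : ∃ k : ℤ,
      (∀ a b γ : T h.hS, (cm (fun g => (A.exc a : G → ℂ) g * ((conjFam h A).exc b : G → ℂ) g) (C.exc γ) : ℤ) =
        C.ε * (A.ε * (conjFam h A).ε * nu (U0 h.hS) a b γ + k)) ∧
      ∀ a b : T h.hS, ∑ γ, cm (fun g => (A.exc a : G → ℂ) g * ((conjFam h A).exc b : G → ℂ) g) (C.exc γ) + 1 ≤ t := by
  set B := conjFam h A with hBdef
  have hB : B.Minus h := ⟨hA.eps, hA.m⟩
  have hν' : ν = μ * (starRingEnd ℂ).toMonoidHom.comp μ := by
    rw [hν]; exact MonoidHom.ext fun k => (norm_hom h μ k).symm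
  obtain ⟨k, hk⟩ := exists_shift h A B C hν'
  refine ⟨k, hk, fun a b => ?_⟩
  obtain ⟨ω, hω, -, hωv⟩ := exists_unique_line h A hA.m
  let ω' : L →* ℂ := (starRingEnd ℂ).toMonoidHom.comp ω
  obtain ⟨ψ, hψ⟩ := exists_line h C hM
  have hψK : ∀ z : K x L, ψ (z : L) = (μ * (starRingEnd ℂ).toMonoidHom.comp μ) z := by
    rw [← hν']
    exact line_central h (Char.IsIrrCharacter.isCharacter (C.exc 1).2) (C.cent 1) (by have := hψ 1; omega)
  have hl := lines_prod h A B hA hB hω (ω' := ω') (fun z => congrArg conj (hω z)) hωv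
    (fun c l hl => congrArg conj (hωv _ l hl)) a b hψK
  have hf := isCharacter_prod h A B a b
  have hωω : ω * ω' = 1 := MonoidHom.ext fun l => by
    show ω l * conj (ω l) = 1
    have h1 : ω l ^ Nat.card L = 1 := by rw [← map_pow, pow_card_eq_one', map_one]
    rw [Complex.mul_conj', Complex.norm_eq_one_of_pow_eq_one h1 Nat.card_pos.ne']
    norm_num
  rw [hωω] at hl
  by_cases h1 : (1 : L →* ℂ) = ψ
  · have hb := bound_principal h C hf (fun c => h1 ▸ hψ c)
    have hone : cm (fun g => (A.exc a : G → ℂ) g * (B.exc b : G → ℂ) g) (oneIrr G) =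
        if b = negOne (U0 h.hS) * a then 1 else 0 := by
      apply Nat.cast_injective (R := ℂ)
      rw [cm_one hf, show (Nat.card G : ℂ)⁻¹ * ∑ g, (A.exc a : G → ℂ) g * (B.exc b : G → ℂ) g =
        classInner (A.exc a : G → ℂ) (A.exc (negOne (U0 h.hS) * b) : G → ℂ) from rfl]
      by_cases hb' : b = negOne (U0 h.hS) * a
      · rw [if_pos hb', show negOne (U0 h.hS) * b = a by rw [hb', negOne_mul_negOne_mul],
          Char.classInner_irr_self (A.exc a).2, Nat.cast_one]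
      · rw [if_neg hb', Char.classInner_irr_of_ne (A.exc a).2 (A.exc _).2 (fun e' => hb' ?_), Nat.cast_zero]
        have := A.inj (Subtype.ext e')
        rw [this, negOne_mul_negOne_mul]
    rw [if_pos h1] at hl
    rw [hone, h1] at hb
    split_ifs at hl hb <;> omega
  · have hb := bound_line h C hf hψ
    rw [if_neg h1] at hl
    split_ifs at hl <;> omega

end Cfsg.Agent.FeitSmall
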