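/-
At least three classes of elements of order `p` (namespace `Cfsg.Agent.FeitSmall`).

Main results: `odd_case` (for odd `e` we have `e + 3 ≤ t`, and a centre of odd order is impossible), `even_case`
(for even `e` and a centre of odd order `e = 2`).
-/
import Cfsg.Agent.Lib.FeitSmall.Pair
import Cfsg.Agent.Lib.FeitSmall.Energy

set_option autoImplicit false
set_option linter.unusedSectionVars false
set_option linter.style.haveILetI false

open scoped ComplexConjugate

namespace Cfsg.Agent.FeitSmall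

open Cfsg Cfsg.Agent.Blocks Cfsg.Agent.CyclicDefect
open DegPMinusTwo (extSq isCharacter_extSq)

variable {G : Type*} [Group G] [Fintype G] {p : ℕ} [Fact p.Prime] {x : G} {L : Subgroup G} {e t : ℕ}
variable (h : CCore p x L e t)
include h

theorem p_eq : p = t * e + 1 := by
  have := (Fact.out : p.Prime).two_le
  rw [h.hte]; omega

theorem p_ne_two : p ≠ 2 := by
  intro h2
  have h1 := e_lt h
  have := h.he2
  have := h.ht2
  omega

theorem two_ne_zero_zmod : (2 : ZMod p) ≠ 0 := by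
  have h2 : ((2 : ℕ) : ZMod p) ≠ 0 := by
    rw [Ne, ZMod.natCast_eq_zero_iff]
    exact fun hd => p_ne_two h ((Nat.prime_dvd_prime_iff_eq Fact.out Nat.prime_two).mp hd)
  simpa using h2

theorem even_t (he : ¬ Even e) : Even t := by
  have h1 : Even (p - 1) := ((Fact.out : p.Prime).odd_of_ne_two (p_ne_two h)).tsub_odd odd_one
  rw [← h.hte, Nat.even_mul] at h1
  exact h1.resolve_right he

theorem mu_sq_zero {μ : K x L →* ℂ} (A : Fam h μ) (hA : A.Minus h) (c : T h.hS) :
    mu x (fun g => (A.exc c : G → ℂ) (g ^ 2)) (0 : ZMod p) = 1 := by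
  rw [mu_sqPow h (two_ne_zero_zmod h), mul_zero, mu_exc h, ind_zero h, hA.m]
  simp

theorem deg_minus {μ : K x L →* ℂ} (A : Fam h μ) (hA : A.Minus h) (c : T h.hS) :
    (A.exc c : G → ℂ) 1 = (p : ℂ) - e := by
  have h1 := congrArg (Int.cast (R := ℂ)) (A.deg h c)
  rw [hA.m, hA.eps, Int.cast_natCast, charDegree_cast] at h1
  push_cast at h1
  rw [h1]; ring

theorem sq_notMem (he : ¬ Even e) {l : L} (hl : l ∉ K x L) : l ^ 2 ∉ K x L := by
  intro hm
  rw [← ker_alpha h.hS, MonoidHom.mem_ker, map_pow] at hm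
  refine hl ?_
  rw [← ker_alpha h.hS, MonoidHom.mem_ker]
  refine orderOf_eq_one_iff.mp (Nat.eq_one_of_dvd_coprimes (a := 2) (b := e) ?_ (orderOf_dvd_of_pow_eq_one hm) ?_)
  · exact Nat.prime_two.coprime_iff_not_dvd.mpr fun hd => he (even_iff_two_dvd.mpr hd)
  · refine dvd_trans ?_ (card_U0 h).dvd
    have h1 := orderOf_dvd_natCard (⟨_, l, rfl⟩ : U0 h.hS)
    rwa [← Subgroup.orderOf_coe] at h1

open scoped Classical in
theorem shift_total {μ μ' ν : K x L →* ℂ} (A : Fam h μ) (B : Fam h μ') (C : Fam h ν) (hA : A.Minus h) (hB : B.Minus h)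
    {k : ℤ} (hk : ∀ a b γ : T h.hS, (cm (fun g => (A.exc a : G → ℂ) g * (B.exc b : G → ℂ) g) (C.exc γ) : ℤ) =
      C.ε * (A.ε * B.ε * nu (U0 h.hS) a b γ + k)) (a b : T h.hS) :
    ((∑ γ, cm (fun g => (A.exc a : G → ℂ) g * (B.exc b : G → ℂ) g) (C.exc γ) : ℕ) : ℤ) =
      C.ε * ((e : ℤ) - (if b = negOne (U0 h.hS) * a then 1 else 0) + k * t) := by
  rw [Nat.cast_sum, Finset.sum_congr rfl fun γ _ => hk a b γ, ← Finset.mul_sum, ← sum_shift h k a b]
  refine congrArg _ (Finset.sum_congr rfl fun γ _ => ?_)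
  rw [hA.eps, hB.eps]; ring

open scoped Classical in
/-- The line bound off the diagonal. -/
theorem bound_off {μ ν : K x L →* ℂ} (A : Fam h μ) (C : Fam h ν) (hA : A.Minus h) (hν : ν = μ * μ) (hM : 1 ≤ C.M)
    {a b : T h.hS} (hab : b ≠ negOne (U0 h.hS) * a) :
    ∑ γ, cm (fun g => (A.exc a : G → ℂ) g * (A.exc b : G → ℂ) g) (C.exc γ) + 1 ≤ t := by
  obtain ⟨ω, hω, -, hωv⟩ := exists_unique_line h A hA.m
  obtain ⟨ψ, hψ⟩ := exists_line h C hM
  have hψK : ∀ z : K x L, ψ (z : L) = (μ * μ) z := by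
    rw [← hν]
    exact line_central h (Char.IsIrrCharacter.isCharacter (C.exc 1).2) (C.cent 1) (by have := hψ 1; omega)
  have hl := lines_prod h A A hA hA hω hω hωv hωv a b hψK
  have hb := bound_line h C (isCharacter_prod h A A a b) hψ
  have := h.ht2
  rw [if_neg hab] at hl
  split_ifs at hl <;> omega

set_option maxHeartbeats 1600000 in
open scoped Classical in
theorem not_top_row (hgen : Subgroup.closure {g : G | orderOf g = p} = ⊤) (ht3 : 3 ≤ t) (he : ¬ Even e)
    {μ : K x L →* ℂ} (A : Fam h μ) (hA : A.Minus h) {k : ℤ} (hr : (e : ℤ) + k * t + 1 = t) : False := by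
  have hp2 := p_ne_two h
  obtain ⟨j, hj⟩ := even_t h he
  have hneg := negOne_ne_one h he hp2
  have h1ne : (1 : T h.hS) ≠ negOne (U0 h.hS) * 1 := by rw [mul_one]; exact hneg.symm
  obtain ⟨C⟩ := exists_fam h (μ * μ)
  have hM := C.M_pos_of_gen h hgen ht3
  obtain ⟨k2, hk2⟩ := exists_shift h A A C rfl
  have hoff := shift_total h A A C hA hA hk2 1 1
  rw [if_neg h1ne] at hoff
  have hb := bound_off h A C hA rfl hM (a := 1) (b := 1) h1ne
  have hdiag := shift_total h A A C hA hA hk2 1 (negOne (U0 h.hS) * 1)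
  rw [if_pos rfl] at hdiag
  have hbz := Int.ofNat_le.mpr hb
  rw [Nat.cast_add, Nat.cast_one] at hbz
  rcases C.hε with hε | hε
  swap
  · rw [hε] at hoff hdiag
    refine crit_neg h A A C hA hA hε hk2 ?_
    have h1 : (k - k2 - 1) * (t : ℤ) + 1 < t := by linarith
    have h2 : 0 ≤ (k - k2 - 1) * (t : ℤ) + 1 := by linarith
    have ht0 : (0 : ℤ) < t := by omega
    have h3 : k - k2 - 1 = 0 := by
      rcases lt_trichotomy (k - k2 - 1) 0 with hlt | heq | hgt
      · exfalso
        have := Int.mul_le_mul_of_nonneg_right (show k - k2 - 1 ≤ -1 by omega) ht0.le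
        linarith
      · exact heq
      · exfalso
        have := Int.mul_le_mul_of_nonneg_right (show (1 : ℤ) ≤ k - k2 - 1 by omega) ht0.le
        linarith
    have h4 : (k - k2 - 1) * (t : ℤ) = 0 := by rw [h3, zero_mul]
    linarith [show (4 : ℤ) ≤ t by omega]
  rw [hε] at hoff hdiag
  -- the total is `t - 1`
  have hk : k2 = k := by
    have ht0 : (0 : ℤ) < t := by omega
    rcases lt_trichotomy k2 k with hlt | heq | hgt
    · exfalso
      have := Int.mul_le_mul_of_nonneg_right (show k2 ≤ k - 1 by omega) ht0.le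
      linarith
    · exact heq
    · exfalso
      have := Int.mul_le_mul_of_nonneg_right (show k + 1 ≤ k2 by omega) ht0.le
      linarith
  rw [hk] at hoff
  set z : G → ℂ := (A.exc 1 : G → ℂ) with hz
  have hzc : IsCharacter G z := Char.IsIrrCharacter.isCharacter (A.exc 1).2
  obtain ⟨ω, hω, -, hωv⟩ := exists_unique_line h A hA.m
  obtain ⟨ψ, hψ⟩ := exists_line h C hM
  have hψK : ∀ z : K x L, ψ (z : L) = (μ * μ) z :=
    line_central h (Char.IsIrrCharacter.isCharacter (C.exc 1).2) (C.cent 1) (by have := hψ 1; omega)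
  have hωω : ∀ w : K x L, (ω * ω) (w : L) = (μ * μ) w := fun w => by
    rw [MonoidHom.mul_apply, MonoidHom.mul_apply, hω]
  have hzz : mu x (fun g => z g * z g) (0 : ZMod p) = (p : ℂ) - 2 * e := by
    rw [hz, mu_prod_zero h A A hA hA, if_neg h1ne]
    push_cast; ring
  have hpc : (p : ℂ) = (t : ℂ) * e + 1 := by exact_mod_cast p_eq h
  have he0 : (e : ℂ) ≠ 0 := Nat.cast_ne_zero.mpr (by have := h.he2; omega)
  have hsq : ∀ l : L, l ∉ K x L → z ((l : G) ^ 2) = ω l * ω l := fun l hl => by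
    rw [← Subgroup.coe_pow, hz, hωv 1 _ (sq_notMem h he hl), map_pow, pow_two]
  -- the exterior square
  have hEc := isCharacter_extSq (G := G) hzc
  have hEμ := cent_extSq h (A.cent 1)
  obtain ⟨C1, hC1⟩ := excess_mod h C hEc hEμ
  have hE0 : mu x (extSq z) (0 : ZMod p) = ((p : ℂ) - 2 * e - 1) / 2 := by
    rw [mu_extSq, hzz, hz, mu_sq_zero h A hA]
  have hE1 : extSq z 1 = (((p : ℂ) - e) ^ 2 - ((p : ℂ) - e)) / 2 := by
    rw [extSq, one_pow, hz, deg_minus h A hA]
  have hEl : 2 * lines p x (extSq z) ψ + 2 = t := by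
    have h1 := lines_formula h hEc hEμ 0 (ω * ω) ψ hωω hψK (fun l hl => by
      rw [extSq, hsq l hl, hz, hωv 1 l hl, zero_mul]; ring)
    rw [hE0, zero_mul, zero_add, sub_zero, hpc] at h1
    have h2 : (((2 * lines p x (extSq z) ψ + 2 : ℕ) : ℂ)) = (t : ℂ) := by
      push_cast
      rw [h1]; field_simp; ring
    exact_mod_cast h2
  -- the symmetric square
  have hSc := isCharacter_symSq (G := G) hzc
  have hSμ := cent_symSq h (A.cent 1)
  obtain ⟨C2, hC2⟩ := excess_mod h C hSc hSμ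
  have hS0 : mu x (symSq z) (0 : ZMod p) = ((p : ℂ) - 2 * e + 1) / 2 := by
    rw [mu_symSq, hzz, hz, mu_sq_zero h A hA]
  have hS1 : symSq z 1 = (((p : ℂ) - e) ^ 2 + ((p : ℂ) - e)) / 2 := by
    rw [symSq, one_pow, hz, deg_minus h A hA]
  have hSl : 2 * lines p x (symSq z) ψ ≤ t := by
    have h1 := lines_formula h hSc hSμ 1 (ω * ω) ψ hωω hψK (fun l hl => by
      rw [symSq, hsq l hl, hz, hωv 1 l hl, one_mul, MonoidHom.mul_apply]; ring)
    rw [hS0, one_mul, hpc] at h1
    have h2 : (((2 * lines p x (symSq z) ψ + 2 : ℕ) : ℂ)) =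
        (((t + if ω * ω = ψ then 2 else 0 : ℕ)) : ℂ) := by
      push_cast
      rw [h1]
      split_ifs <;> field_simp <;> ring
    have h3 : 2 * lines p x (symSq z) ψ + 2 = t + if ω * ω = ψ then 2 else 0 := by exact_mod_cast h2
    split_ifs at h3 <;> omega
  have bE := bound_line h C hEc hψ
  have bS := bound_line h C hSc hψ
  have hsum : ∑ γ, cm (fun g => (A.exc 1 : G → ℂ) g * (A.exc 1 : G → ℂ) g) (C.exc γ) =
      ∑ γ, cm (extSq z) (C.exc γ) + ∑ γ, cm (symSq z) (C.exc γ) := by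
    rw [← Finset.sum_add_distrib]
    exact Finset.sum_congr rfl fun γ _ => cm_squares hzc _
  rw [hsum] at hoff
  set a1 := ∑ γ, cm (extSq z) (C.exc γ) with ha1
  set a2 := ∑ γ, cm (symSq z) (C.exc γ) with ha2
  rw [hε, hE0, hE1, ← Nat.cast_sum, ← ha1] at hC1
  rw [hε, hS0, hS1, ← Nat.cast_sum, ← ha2] at hC2
  have i1 : 2 * ((t : ℤ) * C1 + a1) = e + 1 := by
    have : ((2 * ((t : ℤ) * C1 + a1) : ℤ) : ℂ) = (((e : ℤ) + 1 : ℤ) : ℂ) := by
      push_cast at hC1 ⊢
      apply mul_left_cancel₀ he0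
      linear_combination (-2 : ℂ) * hC1
    exact_mod_cast this
  have i2 : 2 * ((t : ℤ) * C2 + a2) = (e : ℤ) - 1 := by
    have : ((2 * ((t : ℤ) * C2 + a2) : ℤ) : ℂ) = (((e : ℤ) - 1 : ℤ) : ℂ) := by
      push_cast at hC2 ⊢
      apply mul_left_cancel₀ he0
      linear_combination (-2 : ℂ) * hC2
    exact_mod_cast this
  push_cast at hoff
  have hdiff : (t : ℤ) * (C1 - C2) + a1 - a2 = 1 := by linarith
  have ht0 : (0 : ℤ) < t := by omega
  rcases lt_trichotomy (C1 - C2) 0 with hlt | heq | hgt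
  · have := Int.mul_le_mul_of_nonneg_left (show C1 - C2 ≤ -1 by omega) ht0.le
    omega
  · rw [heq, mul_zero] at hdiff
    omega
  · have := Int.mul_le_mul_of_nonneg_left (show (1 : ℤ) ≤ C1 - C2 by omega) ht0.le
    omega

open scoped Classical in
/-- Odd `e` and at least three classes. -/
theorem odd_case (hgen : Subgroup.closure {g : G | orderOf g = p} = ⊤) (ht3 : 3 ≤ t) (he : ¬ Even e)
    {μ : K x L →* ℂ} (A : Fam h μ) (hA : A.Minus h) : e + 3 ≤ t ∧ (Odd (Nat.card (K x L)) → False) := by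
  have hp2 := p_ne_two h
  obtain ⟨j, hj⟩ := even_t h he
  obtain ⟨i, hi⟩ := Nat.not_even_iff_odd.mp he
  have he2 := h.he2
  have ht0 : (0 : ℤ) < t := by omega
  obtain ⟨C⟩ := exists_fam h (1 : K x L →* ℂ)
  obtain ⟨k, hk, hbd⟩ := principal_shift h A C hA rfl (C.M_pos_of_gen h hgen ht3)
  set B := conjFam h A
  have hB : B.Minus h := ⟨hA.eps, hA.m⟩
  have h1ne : (1 : T h.hS) ≠ negOne (U0 h.hS) * 1 := by rw [mul_one]; exact (negOne_ne_one h he hp2).symm
  have hoff := shift_total h A B C hA hB hk 1 1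
  rw [if_neg h1ne] at hoff
  have hdiag := shift_total h A B C hA hB hk 1 (negOne (U0 h.hS) * 1)
  rw [if_pos rfl] at hdiag
  have b1 := hbd 1 1
  have b2 := hbd 1 (negOne (U0 h.hS) * 1)
  rcases C.hε with hε | hε
  swap
  · exfalso
    rw [hε] at hoff hdiag
    refine crit_neg h A B C hA hB hε hk ?_
    -- parity
    have hpar : -(e : ℤ) - k * t + 2 ≠ t := by
      intro hh
      subst hj hi
      push_cast at hh
      have : (2 : ℤ) * (j + i + k * j) = 1 := by linarith
      omega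
    omega
  rw [hε] at hoff hdiag
  have hne : (e : ℤ) + k * t + 1 ≠ t := fun hh => not_top_row h hgen ht3 he A hA hh
  have hk0 : k = 0 := by
    rcases lt_trichotomy k 0 with hlt | heq | hgt
    · exact (crit_pos h A B C hA hB hε hk hlt (by omega)).elim
    · exact heq
    · exfalso
      have := Int.mul_le_mul_of_nonneg_right (show (1 : ℤ) ≤ k by omega) ht0.le
      omega
  subst hk0
  rw [zero_mul, add_zero] at hne
  have hle : e + 3 ≤ t := by omega
  refine ⟨hle, fun hK => ?_⟩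
  -- the Galois conjugate family
  obtain ⟨kk, hkk, hmod⟩ := exists_coprime_modEq h (card_K_dvd h) (r := 2)
    (Nat.prime_two.coprime_iff_not_dvd.mpr (Nat.odd_iff.mp hK |> fun h1 hd => by omega))
  obtain ⟨C'⟩ := exists_fam h (μ * μ)
  have hν : ∀ z : K x L, (μ * μ) z = μ z ^ kk := fun z => by
    rw [MonoidHom.mul_apply, ← pow_two]
    exact pow_eq_pow_of_modEq (hmod.symm : 2 ≡ kk [MOD Nat.card (K x L)])
      (by rw [← map_pow, pow_card_eq_one', map_one])
  obtain ⟨hε', hM', -⟩ := exists_pow_fam h A C' hkk hν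
  rw [hA.eps] at hε'
  obtain ⟨k2, hk2⟩ := exists_shift h A A C' rfl
  have hoff' := shift_total h A A C' hA hA hk2 1 1
  rw [if_neg h1ne, hε'] at hoff'
  have hb := bound_off h A C' hA rfl (by rw [hM', hA.m]) (a := 1) (b := 1) h1ne
  refine crit_neg h A A C' hA hA hε' hk2 ?_
  rcases lt_trichotomy k2 (-1) with hlt | heq | hgt
  · exfalso
    have := Int.mul_le_mul_of_nonneg_right (show k2 ≤ -2 by omega) ht0.le
    omega
  · subst heq
    omega
  · exfalso
    have := Int.mul_le_mul_of_nonneg_right (show (0 : ℤ) ≤ k2 by omega) ht0.le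
    omega

set_option maxHeartbeats 1600000 in
open scoped Classical in
/-- Even `e` and at least three classes. -/
theorem even_case (ht3 : 3 ≤ t) (he : Even e) (hK : Odd (Nat.card (K x L))) {μ : K x L →* ℂ} (A : Fam h μ)
    (hA : A.Minus h) : e = 2 := by
  have he2 := h.he2
  have ht0 : (0 : ℤ) < t := by omega
  have hneg := negOne_eq_one h he
  haveI : Nontrivial (T h.hS) := Finite.one_lt_card_iff_nontrivial.mp (by rw [card_classes h]; exact h.ht2)
  -- an involution outside `K`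
  obtain ⟨i, hi2⟩ := exists_prime_orderOf_dvd_card' (G := L) 2 (by rw [card_L h]; exact he.two_dvd.mul_right _)
  have hiK : i ∉ K x L := fun hm => by
    have h1 := orderOf_dvd_natCard (⟨i, hm⟩ : K x L)
    rw [Subgroup.orderOf_mk, hi2] at h1
    exact Nat.not_even_iff_odd.mpr hK (even_iff_two_dvd.mpr h1)
  have hii : (i : G) ^ 2 = 1 := by
    rw [← Subgroup.coe_pow, ← hi2, pow_orderOf_eq_one, OneMemClass.coe_one]
  have hαi : (CyclicDefect.alpha h.hS i : ZMod p) = -1 := by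
    have h1 : (CyclicDefect.alpha h.hS i : ZMod p) * (CyclicDefect.alpha h.hS i : ZMod p) = 1 := by
      rw [← Units.val_mul, ← map_mul, ← pow_two, ← hi2, pow_orderOf_eq_one, map_one, Units.val_one]
    exact (mul_self_eq_one_iff.mp h1).resolve_left fun e' => hiK (by
      rw [← ker_alpha h.hS, MonoidHom.mem_ker]; exact Units.ext e')
  have hsqK : ∀ l : L, l ∉ K x L → i⁻¹ * l ∉ K x L → l ^ 2 ∉ K x L := fun l hl hl' hm => by
    rw [← ker_alpha h.hS, MonoidHom.mem_ker, map_pow, pow_two] at hm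
    have h1 := congrArg Units.val hm
    rw [Units.val_mul, Units.val_one] at h1
    rcases mul_self_eq_one_iff.mp h1 with e' | e'
    · exact hl (by rw [← ker_alpha h.hS, MonoidHom.mem_ker]; exact Units.ext e')
    · refine hl' ?_
      rw [← ker_alpha h.hS, MonoidHom.mem_ker, map_mul, map_inv, inv_mul_eq_one]
      exact Units.ext (hαi.trans e'.symm)
  -- the family over the square of the central character
  obtain ⟨kk, hkk, hmod⟩ := exists_coprime_modEq h (card_K_dvd h) (r := 2)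
    (Nat.prime_two.coprime_iff_not_dvd.mpr (Nat.odd_iff.mp hK |> fun h1 hd => by omega))
  have hkodd : Odd kk := by
    refine Nat.not_even_iff_odd.mp fun hev => ?_
    have h1 : 2 ∣ Nat.card G := hi2 ▸ ((Subgroup.orderOf_coe i) ▸ orderOf_dvd_natCard (i : G))
    have := Nat.eq_one_of_dvd_coprimes hkk hev.two_dvd h1
    omega
  obtain ⟨C⟩ := exists_fam h (μ * μ)
  have hν : ∀ z : K x L, (μ * μ) z = μ z ^ kk := fun z => by
    rw [MonoidHom.mul_apply, ← pow_two]
    exact pow_eq_pow_of_modEq (hmod.symm : 2 ≡ kk [MOD Nat.card (K x L)])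
      (by rw [← map_pow, pow_card_eq_one', map_one])
  obtain ⟨hε, hM, hval⟩ := exists_pow_fam h A C hkk hν
  rw [hA.eps] at hε
  rw [hA.m] at hM
  obtain ⟨ω, hω, -, hωv⟩ := exists_unique_line h A hA.m
  obtain ⟨ω', hω', hψ, hω'v⟩ := exists_unique_line h C hM
  set z : G → ℂ := (A.exc 1 : G → ℂ) with hz
  have hzc : IsCharacter G z := Char.IsIrrCharacter.isCharacter (A.exc 1).2
  have hωi : ω' i = ω i := by
    rw [← hω'v 1 i hiK, hval 1 _ (h.hS.regular_L i), ← hωv 1 i hiK]
    obtain ⟨m, rfl⟩ := hkodd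
    rw [pow_succ, pow_mul, hii, one_pow, one_mul]
  have hωi2 : ω i * ω i = 1 := by rw [← map_mul, ← pow_two, ← hi2, pow_orderOf_eq_one, map_one]
  have hωω : ∀ w : K x L, (ω * ω) (w : L) = (μ * μ) w := fun w => by
    rw [MonoidHom.mul_apply, MonoidHom.mul_apply, hω]
  obtain ⟨k, hk⟩ := exists_shift h A A C rfl
  obtain ⟨b0, hb0⟩ := exists_ne (1 : T h.hS)
  have hb0' : b0 ≠ negOne (U0 h.hS) * 1 := by rwa [mul_one, hneg]
  have hoff := shift_total h A A C hA hA hk 1 b0
  rw [if_neg hb0', hε] at hoff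
  have hfc := isCharacter_prod h A A 1 b0
  have bo := bound_line h C hfc (fun c => (hψ c).ge)
  have hlo := lines_prod h A A hA hA hω hω hωv hωv 1 b0 hω'
  rw [if_neg hb0'] at hlo
  have hpc : (p : ℂ) = (t : ℂ) * e + 1 := by exact_mod_cast p_eq h
  have he0 : (e : ℂ) ≠ 0 := Nat.cast_ne_zero.mpr (by omega)
  have hzi : z (i : G) = ω i := hωv 1 i hiK
  have hzz : mu x (fun g => z g * z g) (0 : ZMod p) = (p : ℂ) - e := by
    rw [hz, mu_prod_zero h A A hA hA, if_pos (by rw [mul_one, hneg])]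
    push_cast; ring
  have hsq : ∀ l : L, l ∉ K x L → i⁻¹ * l ∉ K x L → z ((l : G) ^ 2) = ω l * ω l := fun l hl hl' => by
    rw [← Subgroup.coe_pow, hz, hωv 1 _ (hsqK l hl hl'), map_pow, pow_two]
  by_cases hσ : ω i = 1
  · exfalso
    have hEc := isCharacter_extSq (G := G) hzc
    have hEμ := cent_extSq h (A.cent 1)
    obtain ⟨C1, hC1⟩ := excess_mod h C hEc hEμ
    have hE0 : mu x (extSq z) (0 : ZMod p) = ((p : ℂ) - e - 1) / 2 := by
      rw [mu_extSq, hzz, hz, mu_sq_zero h A hA]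
    have hE1 : extSq z 1 = (((p : ℂ) - e) ^ 2 - ((p : ℂ) - e)) / 2 := by
      rw [extSq, one_pow, hz, deg_minus h A hA]
    have hEl : lines p x (extSq z) ω' = 0 := by
      have h1 := lines_formula_inv h hEc hEμ i hiK 0 (ω * ω) ω' hωω hω' ((1 - ((p : ℂ) - e)) / 2)
        (by rw [extSq, hii, hzi, hσ, hz, deg_minus h A hA, one_pow])
        (fun l hl hl' => by rw [extSq, hsq l hl hl', hz, hωv 1 l hl, zero_mul]; ring)
      rw [hE0, hωi, hσ, map_one, zero_mul, zero_add, zero_mul, sub_zero] at h1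
      have h2 : (lines p x (extSq z) ω' : ℂ) = 0 := by rw [h1]; ring
      exact_mod_cast h2
    have bE := bound_line h C hEc (fun c => (hψ c).ge)
    rw [hE0, hE1, ← Nat.cast_sum, show ∑ γ, cm (extSq z) (C.exc γ) = 0 by omega] at hC1
    have i1 : 2 * ((t : ℤ) * C1) = -((t : ℤ) - 1) * e := by
      have : ((2 * ((t : ℤ) * C1) : ℤ) : ℂ) = ((-((t : ℤ) - 1) * e : ℤ) : ℂ) := by
        push_cast at hC1 ⊢
        apply mul_left_cancel₀ he0
        rw [hpc] at hC1
        linear_combination (-2 : ℂ) * hC1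
      exact_mod_cast this
    have het : (e : ℤ) = t * (2 * C1 + e) := by linear_combination -i1
    refine crit_neg h A A C hA hA hε hk ?_
    set S := ∑ γ, cm (fun g => (A.exc 1 : G → ℂ) g * (A.exc b0 : G → ℂ) g) (C.exc γ)
    have h1 : (S : ℤ) = t * (-(2 * C1 + e) - k) := by linear_combination hoff - het
    have h2 : (S : ℤ) < t := by split_ifs at hlo <;> omega
    rcases Int.lt_or_le (-(2 * C1 + e) - k) 1 with hlt | hge
    · have := Int.mul_le_mul_of_nonneg_left (show -(2 * C1 + e) - k ≤ 0 by omega) ht0.le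
      omega
    · have := Int.mul_le_mul_of_nonneg_left hge ht0.le
      omega
  have hσ' : ω i = -1 := (mul_self_eq_one_iff.mp hωi2).resolve_left hσ
  have hne : ¬ ω * ω = ω' := fun e' => by
    have h1 := congrArg (fun φ : L →* ℂ => φ i) e'
    simp only [MonoidHom.mul_apply] at h1
    rw [hωi2, hωi, hσ'] at h1
    norm_num at h1
  rw [if_neg hne] at hlo
  -- the row is full
  have hs : (e : ℤ) - 2 = (-k - 1) * t := by
    by_contra hne'
    refine (crit_neg h A A C hA hA hε hk ?_).elim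
    by_contra hcon
    refine hne' ?_
    linarith [show -(e : ℤ) - k * t = (t : ℤ) - 2 by omega]
  -- the symmetric square
  have hSc := isCharacter_symSq (G := G) hzc
  have hSμ := cent_symSq h (A.cent 1)
  have hS0 : mu x (symSq z) (0 : ZMod p) = ((p : ℂ) - e + 1) / 2 := by
    rw [mu_symSq, hzz, hz, mu_sq_zero h A hA]
  have hSl : lines p x (symSq z) ω' = 0 := by
    have h1 := lines_formula_inv h hSc hSμ i hiK 1 (ω * ω) ω' hωω hω' ((1 + ((p : ℂ) - e)) / 2)
      (by rw [symSq, hii, hzi, hσ', hz, deg_minus h A hA]; ring)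
      (fun l hl hl' => by rw [symSq, hsq l hl hl', hz, hωv 1 l hl, one_mul, MonoidHom.mul_apply]; ring)
    rw [hS0, if_neg hne, hωi, MonoidHom.mul_apply, hωi2, hσ', map_neg, map_one] at h1
    have h2 : (lines p x (symSq z) ω' : ℂ) = 0 := by rw [h1]; ring
    exact_mod_cast h2
  have bS := bound_line h C hSc (fun c => (hψ c).ge)
  obtain ⟨C2, hC2⟩ := row_formula h C hSc hSμ
  set m : ℤ := -k - 1 with hm
  set u2 : (ZMod p)ˣ := Units.mk0 (2 : ZMod p) (two_ne_zero_zmod h) with hu2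
  set c2 : T h.hS := (u2 : T h.hS) * 1 with hc2
  have hrow : ∀ γ : T h.hS, (nu (U0 h.hS) 1 1 γ : ℤ) - (if γ = c2 then 1 else 0) =
      (nu (U0 h.hS) 1 1 1 : ℤ) - (if (1 : T h.hS) = c2 then 1 else 0) := by
    have hmu : ∀ u : (ZMod p)ˣ, 2 * mu x (symSq z) (u : ZMod p) = (((p : ℤ) - 2 * e +
        nu (U0 h.hS) 1 1 (u : T h.hS) + 1 - (if (u : T h.hS) = c2 then 1 else 0) : ℤ) : ℂ) := by
      intro u
      have h1 : ind h (1 : T h.hS) ((2 : ZMod p)⁻¹ * u) = if (u : T h.hS) = c2 then 1 else 0 := by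
        have e1 := ind_unit_mul h u2 (1 : T h.hS) ((2 : ZMod p)⁻¹ * u)
        rw [hu2, Units.val_mk0, mul_inv_cancel_left₀ (two_ne_zero_zmod h), ind_unit h] at e1
        exact e1.symm
      rw [mu_symSq, hz, mu_prod h, mu_sqPow h (two_ne_zero_zmod h), mu_exc h, hA.eps, hA.m, h1,
        nuAt_eq (U0 h.hS) ((unit_mem_cs (U0 h.hS)).mpr rfl)]
      push_cast
      split_ifs <;> ring
    intro γ
    have e1 := hC2 γ.out
    have e2 := hC2 (1 : T h.hS).out
    have hzero : ∀ δ : T h.hS, cm (symSq z) (C.exc δ) = 0 := fun δ => by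
      have := Finset.single_le_sum (f := fun γ => cm (symSq z) (C.exc γ)) (fun _ _ => Nat.zero_le _) (Finset.mem_univ δ)
      omega
    rw [hzero, Nat.cast_zero, mul_zero, zero_add] at e1 e2
    have e3 : 2 * mu x (symSq z) ((γ.out : (ZMod p)ˣ) : ZMod p) = 2 * mu x (symSq z) (((1 : T h.hS).out : (ZMod p)ˣ) : ZMod p) := by
      linear_combination (2 : ℂ) * (e1 - e2)
    rw [hmu, hmu, Int.cast_inj, show ((γ.out : (ZMod p)ˣ) : T h.hS) = γ from Quotient.out_eq γ,
      show (((1 : T h.hS).out : (ZMod p)ˣ) : T h.hS) = 1 from Quotient.out_eq _] at e3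
    linarith
  have hnu11 : ∀ γ : T h.hS, (nu (U0 h.hS) 1 1 γ : ℤ) = m + if γ = c2 then 1 else 0 := by
    set c0 : ℤ := (nu (U0 h.hS) 1 1 1 : ℤ) - (if (1 : T h.hS) = c2 then 1 else 0)
    have hs1 : ∑ γ : T h.hS, ((nu (U0 h.hS) 1 1 γ : ℤ) + 0) = ∑ γ : T h.hS, (c0 + if γ = c2 then 1 else 0) :=
      Finset.sum_congr rfl fun γ _ => by linarith [hrow γ]
    rw [sum_shift h 0 1 1, if_pos (by rw [mul_one, hneg]), Finset.sum_add_distrib, Finset.sum_ite_eq',
      if_pos (Finset.mem_univ _), Finset.sum_const, Finset.card_univ, ← Nat.card_eq_fintype_card, card_classes h,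
      nsmul_eq_mul] at hs1
    have hc0 : c0 = m := mul_right_cancel₀ (b := (t : ℤ)) (by omega) (by linarith)
    intro γ
    linarith [hrow γ]
  have hle : ∀ b γ : T h.hS, (nu (U0 h.hS) 1 b γ : ℤ) ≤ m + 1 := fun b γ => by
    have h1 := hk 1 b γ
    rw [hA.eps, hε] at h1
    linarith [Int.natCast_nonneg (cm (fun g => (A.exc 1 : G → ℂ) g * (A.exc b : G → ℂ) g) (C.exc γ))]
  -- the second moment
  have hE := energy (U0 h.hS)
  rw [card_U0 h, mul_assoc (e : ℤ) ((e : ℤ) - 1), ← mul_add] at hE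
  have hE' := mul_left_cancel₀ (show (e : ℤ) ≠ 0 by omega) hE
  have hS1 : ∑ b : T h.hS, ∑ γ : T h.hS, (nu (U0 h.hS) 1 b γ : ℤ) = (t : ℤ) * e - 1 := by
    have : ∀ b : T h.hS, ∑ γ : T h.hS, (nu (U0 h.hS) 1 b γ : ℤ) = (e : ℤ) - if b = 1 then 1 else 0 := fun b => by
      have h1 := sum_shift h 0 1 b
      simp only [add_zero, zero_mul, mul_one, hneg] at h1
      exact h1
    rw [Finset.sum_congr rfl fun b _ => this b, Finset.sum_sub_distrib, Finset.sum_ite_eq',
      if_pos (Finset.mem_univ _), Finset.sum_const, Finset.card_univ, ← Nat.card_eq_fintype_card, card_classes h,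
      nsmul_eq_mul]
  let g : T h.hS → ℤ := fun b => ∑ γ : T h.hS, (nu (U0 h.hS) 1 b γ : ℤ) * (m + 1 - nu (U0 h.hS) 1 b γ)
  have hg : ∑ b, g b = m * ((t : ℤ) - 1) := by
    simp only [g, mul_sub, ← pow_two, Finset.sum_sub_distrib, ← Finset.sum_mul, hS1]
    rw [hE', show (p : ℤ) = t * e + 1 by exact_mod_cast p_eq h]
    linear_combination -((e : ℤ) - 1) * hs
  have hg1 : g 1 = m * ((t : ℤ) - 1) := by
    have : ∀ γ : T h.hS, (nu (U0 h.hS) 1 1 γ : ℤ) * (m + 1 - nu (U0 h.hS) 1 1 γ) = m - if γ = c2 then m else 0 :=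
      fun γ => by rw [hnu11]; split_ifs <;> ring
    simp only [g]
    rw [Finset.sum_congr rfl fun γ _ => this γ, Finset.sum_sub_distrib, Finset.sum_ite_eq',
      if_pos (Finset.mem_univ _), Finset.sum_const, Finset.card_univ, ← Nat.card_eq_fintype_card, card_classes h,
      nsmul_eq_mul]
    ring
  obtain ⟨β, hβ, hβ2⟩ : ∃ β : T h.hS, β ≠ 1 ∧ β ≠ c2 := by
    have h1 : 0 < ((Finset.univ.erase (1 : T h.hS)).erase c2).card := by
      have := Finset.pred_card_le_card_erase (a := c2) (s := Finset.univ.erase (1 : T h.hS))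
      rw [Finset.card_erase_of_mem (Finset.mem_univ _), Finset.card_univ, ← Nat.card_eq_fintype_card,
        card_classes h] at this
      omega
    obtain ⟨β, hβ⟩ := Finset.card_pos.mp h1
    exact ⟨β, Finset.ne_of_mem_erase (Finset.mem_of_mem_erase hβ), Finset.ne_of_mem_erase hβ⟩
  have hnn : ∀ b γ : T h.hS, 0 ≤ (nu (U0 h.hS) 1 b γ : ℤ) * (m + 1 - nu (U0 h.hS) 1 b γ) := fun b γ =>
    mul_nonneg (Int.natCast_nonneg _) (by linarith [hle b γ])
  have hgβ : g β = 0 := by
    have h1 := Finset.add_sum_erase Finset.univ g (Finset.mem_univ (1 : T h.hS))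
    rw [hg, hg1, add_eq_left] at h1
    exact (Finset.sum_eq_zero_iff_of_nonneg fun b _ => Finset.sum_nonneg fun γ _ => hnn b γ).mp h1 β
      (Finset.mem_erase.mpr ⟨hβ, Finset.mem_univ _⟩)
  have h1 := (Finset.sum_eq_zero_iff_of_nonneg fun γ _ => hnn β γ).mp hgβ 1 (Finset.mem_univ _)
  have hrot : nu (U0 h.hS) 1 β 1 = nu (U0 h.hS) 1 1 β := by rw [nu_comm, nu_rotate, mul_one, hneg]
  have hm0 : m = 0 := by
    have h2 := hnu11 β
    rw [if_neg hβ2, add_zero, ← hrot] at h2
    rw [h2] at h1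
    rcases mul_eq_zero.mp h1 with e' | e' <;> linarith
  have h3 : (e : ℤ) - 2 = 0 := by rw [hs, hm0, zero_mul]
  omega


end Cfsg.Agent.FeitSmall
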