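/-
A faithful irreducible character of degree less than `p - 1`: reduction to the subgroup generated by the
elements of order `p` (namespace `Cfsg.Agent.FeitSmall`).

Main results: `card_classes_order`, `exists_perfect`, `Reduced`, `reduce`.
-/
import Cfsg.Agent.Lib.FeitSmall.DegreePlus
import Cfsg.Agent.Lib.FeitSmall.Three
import Cfsg.Agent.Lib.BrauerN.Section
import Cfsg.Agent.Lib.CharApp.Clifford
import Cfsg.Agent.Lib.HalfDegree.Reduction
import Cfsg.Agent.Lib.DegPMinusTwo.Local
import Cfsg.Agent.S4503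
import Cfsg.Agent.S4504

set_option autoImplicit false
set_option linter.unusedSectionVars false
set_option linter.style.haveILetI false

open scoped ComplexConjugate

namespace Cfsg.Agent.FeitSmall

open Cfsg Cfsg.Agent.Blocks Cfsg.Agent.CyclicDefect

variable {G : Type*} [Group G] [Finite G] {p : ℕ} [Fact p.Prime] {x : G} {L : Subgroup G}

theorem card_range (hS : Setting p x L) : Nat.card (CyclicDefect.alpha hS).range = (K x L).index := by
  rw [← Subgroup.index_ker, ker_alpha hS]

theorem index_dvd_pred (hS : Setting p x L) : (K x L).index ∣ p - 1 := by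
  rw [← card_range hS]
  have := Subgroup.card_subgroup_dvd_card (CyclicDefect.alpha hS).range
  rwa [Nat.card_eq_fintype_card (α := (ZMod p)ˣ), ZMod.card_units] at this

/-- An element moving `x` to a power acts as an element of the complement. -/
theorem exists_L_of_conj (hS : Setting p x L) {g : G} {i : ZMod p} (h : g * x * g⁻¹ = pw x i) :
    ∃ l : L, alphaVal hS l = i := by
  have hmem : g ∈ Subgroup.normalizer (Subgroup.zpowers x : Set G) :=
    Subgroup.mem_normalizer_fintype fun a ha => by
      obtain ⟨j, rfl⟩ := hS.exists_pw ha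
      rw [hS.conj_pw h]
      exact hS.pw_mem _
  obtain ⟨a, ha, l, hl, hgl⟩ := hS.hgen _ hmem
  obtain ⟨j, rfl⟩ := hS.exists_pw ha
  refine ⟨⟨l, hl⟩, hS.pw_inj ?_⟩
  rw [← h, hgl, show pw x j * l * x * (pw x j * l)⁻¹ = pw x j * (l * x * l⁻¹) * (pw x j)⁻¹ by group,
    show l * x * l⁻¹ = pw x (alphaVal hS ⟨l, hl⟩) from alphaVal_spec hS ⟨l, hl⟩,
    (show Commute (pw x j) (pw x (alphaVal hS ⟨l, hl⟩)) from hS.commute_pw j ((Commute.refl x).pow_right _)).eq,
    mul_inv_cancel_right]

theorem isConj_pw_iff (hS : Setting p x L) (u v : (ZMod p)ˣ) :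
    IsConj (pw x (u : ZMod p)) (pw x (v : ZMod p)) ↔ u⁻¹ * v ∈ (CyclicDefect.alpha hS).range := by
  constructor
  · intro h
    obtain ⟨g, hg⟩ := isConj_iff.mp h
    have h1 : g * x * g⁻¹ = pw x ((u⁻¹ * v : (ZMod p)ˣ) : ZMod p) := by
      have h2 := congrArg (· ^ ((u⁻¹ : (ZMod p)ˣ) : ZMod p).val) hg
      simp only [conj_pow, hS.pw_pow, ZMod.natCast_rightInverse _] at h2
      rwa [← Units.val_mul, inv_mul_cancel, Units.val_one, hS.pw_one, ← Units.val_mul] at h2
    obtain ⟨l, hl⟩ := exists_L_of_conj hS h1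
    exact ⟨l, Units.ext hl⟩
  · rintro ⟨l, hl⟩
    refine isConj_iff.mpr ⟨(l : G), ?_⟩
    rw [hS.conj_pw (alphaVal_spec hS l)]
    congr 1
    rw [show alphaVal hS l = ((u⁻¹ * v : (ZMod p)ˣ) : ZMod p) from congrArg Units.val hl, ← Units.val_mul,
      mul_comm u⁻¹, inv_mul_cancel_right]

/-- The classes of elements of order `p`. -/
theorem card_classes_order (hS : Setting p x L) :
    Nat.card {c : ConjClasses G // ∃ g : G, ConjClasses.mk g = c ∧ orderOf g = p} * (K x L).index = p - 1 := by
  let f : (ZMod p)ˣ ⧸ (CyclicDefect.alpha hS).range →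
      {c : ConjClasses G // ∃ g : G, ConjClasses.mk g = c ∧ orderOf g = p} :=
    Quotient.lift (fun u : (ZMod p)ˣ => ⟨ConjClasses.mk (pw x (u : ZMod p)), _, rfl, hS.orderOf_pw u.ne_zero⟩)
      fun u v huv => Subtype.ext (ConjClasses.mk_eq_mk_iff_isConj.mpr
        ((isConj_pw_iff hS u v).mpr (QuotientGroup.leftRel_apply.mp huv)))
  have hf : Function.Bijective f := by
    constructor
    · intro a b hab
      induction a using QuotientGroup.induction_on with | H u =>
      induction b using QuotientGroup.induction_on with | H v =>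
      exact QuotientGroup.eq.mpr ((isConj_pw_iff hS u v).mp
        (ConjClasses.mk_eq_mk_iff_isConj.mp (congrArg Subtype.val hab)))
    · rintro ⟨c, g, rfl, hg⟩
      obtain ⟨a, ha⟩ := HalfDegree.exists_conj_mem hS hg
      obtain ⟨i, hi⟩ := hS.exists_pw ha
      have hi0 : i ≠ 0 := by
        intro h0
        rw [h0, hS.pw_zero, mul_inv_eq_one, mul_eq_left] at hi
        rw [hi, orderOf_one] at hg
        exact (Fact.out : p.Prime).one_lt.ne hg
      exact ⟨(QuotientGroup.mk (Units.mk0 i hi0) : _ ⧸ _),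
        Subtype.ext (ConjClasses.mk_eq_mk_iff_isConj.mpr (isConj_iff.mpr ⟨a, hi⟩).symm)⟩
  rw [← Nat.card_eq_of_bijective f hf, ← card_range hS, ← Subgroup.card_eq_card_quotient_mul_card_subgroup,
    Nat.card_eq_fintype_card, ZMod.card_units]

/-- A subgroup of `G` generated by elements of order `p` is perfect when a faithful character has small degree. -/
theorem exists_perfect (hS : Setting p x L) (hnn : ∀ H : Subgroup G, H.Normal → Nat.card H ≠ p) {θ : G → ℂ}
    (hθ : IsCharacter G θ) (hfaith : ∀ g : G, θ g = θ 1 → g = 1) (hlt : charDegree θ + 1 < p) :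
    (¬ ∀ a : G, orderOf a = p → Commute a x) ∧
      commutator (Subgroup.closure {g : G | orderOf g = p}) = ⊤ := by
  have hp : p.Prime := Fact.out
  set S : Set G := {g : G | orderOf g = p}
  set H : Subgroup G := Subgroup.closure S with hH
  have hx := hS.hx
  haveI hHn : H.Normal := ⟨fun g hg c => by
    induction hg using Subgroup.closure_induction with
    | mem a ha => exact Subgroup.subset_closure (show orderOf (c * a * c⁻¹) = p by rw [SecondMain.orderOf_conj]; exact ha)
    | one => simp
    | mul a b _ _ iha ihb => rw [show c * (a * b) * c⁻¹ = (c * a * c⁻¹) * (c * b * c⁻¹) by group]; exact mul_mem iha ihb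
    | inv a _ iha => rw [← conj_inv]; exact inv_mem iha⟩
  have hnn' : ∀ g : G, orderOf g = p → ¬ (∀ a ∈ S, Commute a g) := by
    intro g hg hall
    refine hnn (Subgroup.zpowers g) ⟨fun a ha c => ?_⟩ (by rw [Nat.card_zpowers, hg])
    obtain ⟨L1, hS1⟩ := exists_setting hp hg hS.hsq
    obtain ⟨i, rfl⟩ := Subgroup.mem_zpowers_iff.mp ha
    rw [← conj_zpow]
    refine Subgroup.zpow_mem _ (hS1.mem_zpowers_of_pow_eq_one ?_ ?_) i
    · refine Subgroup.centralizer_le_normalizer _ (Subgroup.mem_centralizer_iff.mpr ?_)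
      intro u hu
      obtain ⟨j, rfl⟩ := Subgroup.mem_zpowers_iff.mp hu
      exact ((hall (c * g * c⁻¹) (show orderOf _ = p by rw [SecondMain.orderOf_conj]; exact hg)).symm.zpow_left j).eq
    · rw [conj_pow, hS1.pow_eq_one, mul_one, mul_inv_cancel]
  refine ⟨fun hall => hnn' x hx fun a ha => hall a ha, ?_⟩
  have hle' : ⁅H, H⁆ ≤ H := Subgroup.commutator_le_self H
  by_cases hpd : p ∣ Nat.card (⁅H, H⁆ : Subgroup G)
  · refine Subgroup.map_injective (f := H.subtype) Subtype.val_injective ?_
    rw [Subgroup.map_subtype_commutator H, ← MonoidHom.range_eq_map, Subgroup.range_subtype]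
    refine le_antisymm hle' ((Subgroup.closure_le _).mpr fun a ha => ?_)
    obtain ⟨b, hb⟩ := exists_prime_orderOf_dvd_card' p hpd
    have hb' : orderOf (b : G) = p := by rw [Subgroup.orderOf_coe, hb]
    obtain ⟨c, hc⟩ := HalfDegree.exists_conj_mem hS hb'
    obtain ⟨c', hc'⟩ := HalfDegree.exists_conj_mem hS (show orderOf a = p from ha)
    have hN : (⁅H, H⁆ : Subgroup G).Normal := inferInstance
    have hxN : x ∈ (⁅H, H⁆ : Subgroup G) := by
      have h1 : Subgroup.zpowers (c * b * c⁻¹) = Subgroup.zpowers x := Subgroup.eq_of_le_of_card_ge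
        (Subgroup.zpowers_le.mpr hc) (by
          rw [Nat.card_zpowers, Nat.card_zpowers, SecondMain.orderOf_conj, hb', hx])
      exact (Subgroup.zpowers_le.mpr (hN.conj_mem _ b.2 c)) (h1 ▸ Subgroup.mem_zpowers x)
    have h2 : c' * a * c'⁻¹ ∈ (⁅H, H⁆ : Subgroup G) := Subgroup.zpowers_le.mpr hxN hc'
    have h3 := hN.conj_mem' _ h2 c'
    rwa [show c'⁻¹ * (c' * a * c'⁻¹) * c' = a by group] at h3
  · exfalso
    refine hnn' x hx fun a ha => ?_
    have hc : a * x * a⁻¹ * x⁻¹ ∈ (⁅H, H⁆ : Subgroup G) :=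
      Subgroup.commutator_mem_commutator (Subgroup.subset_closure ha) (Subgroup.subset_closure hx)
    set c := a * x * a⁻¹ * x⁻¹ with hcdef
    have hca : a * c = c * a :=
      HalfDegree.centralizes_of_coprime hθ hfaith rfl hlt _ hpd (show orderOf a = p from ha) hc
    have hax : a * x * a⁻¹ = c * x := by rw [hcdef]; group
    have hiter : ∀ k : ℕ, a ^ k * x * (a ^ k)⁻¹ = c ^ k * x := by
      intro k
      induction k with
      | zero => simp
      | succ k ih =>
        calc a ^ (k + 1) * x * (a ^ (k + 1))⁻¹ = a * (a ^ k * x * (a ^ k)⁻¹) * a⁻¹ := by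
              rw [pow_succ' a k]; group
          _ = (a * c ^ k) * x * a⁻¹ := by rw [ih]; group
          _ = c ^ k * (a * x * a⁻¹) := by rw [(show Commute a (c ^ k) from (show Commute a c from hca).pow_right k).eq]; group
          _ = c ^ (k + 1) * x := by rw [hax, pow_succ c k]; group
    have h1 := hiter p
    rw [show a ^ p = 1 by rw [← (show orderOf a = p from ha)]; exact pow_orderOf_eq_one a, one_mul, inv_one, mul_one,
      right_eq_mul] at h1
    have hc1 : c = 1 := by
      refine orderOf_eq_one_iff.mp (Nat.eq_one_of_dvd_coprimes (hp.coprime_iff_not_dvd.mpr hpd)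
        (orderOf_dvd_of_pow_eq_one h1) ?_)
      have := orderOf_dvd_natCard (⟨c, hc⟩ : (⁅H, H⁆ : Subgroup G))
      rwa [Subgroup.orderOf_mk] at this
    rw [hc1, one_mul, mul_inv_eq_iff_eq_mul] at hax
    exact hax

/-- The data of the negative sign on the subgroup generated by the elements of order `p`. -/
structure Reduced (H : Subgroup G) (y : H) (L0 : Subgroup H) (p e t : ℕ) [Fact p.Prime] : Prop where
  core : CCore p y L0 e t
  gen : Subgroup.closure {g : H | orderOf g = p} = ⊤
  center : ∀ k : K y L0, (((k : L0) : H) : G) ∈ Subgroup.center G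
  fam : ∃ (μ : K y L0 →* ℂ) (A : Fam core μ) (c : T core.hS), A.ε = -1 ∧ A.M = 1 ∧
    ∀ g : H, (A.exc c : H → ℂ) g = (A.exc c : H → ℂ) 1 → g = 1
  quot : Nonempty ((G ⧸ Subgroup.center G) ≃* (H ⧸ Subgroup.center H))

set_option maxHeartbeats 1000000 in
open scoped Classical in
/-- The reduction. -/
theorem reduce_of_five_le (hS : Setting p x L) (hp5 : 5 ≤ p) (hnn : ∀ H : Subgroup G, H.Normal → Nat.card H ≠ p)
    (χ : IrrCharacter G) (hfaith : ∀ g : G, (χ : G → ℂ) g = (χ : G → ℂ) 1 → g = 1)
    (hlt : charDegree (χ : G → ℂ) + 1 < p) :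
    (Nonempty ((G ⧸ Subgroup.center G) ≃* Matrix.ProjectiveSpecialLinearGroup (Fin 2) (ZMod p)) ∧
      2 * charDegree (χ : G → ℂ) + 1 = p ∧ 2 * (K x L).index + 1 = p) ∨
    (charDegree (χ : G → ℂ) + (K x L).index = p ∧
      ∃ (H : Subgroup G) (y : H) (L0 : Subgroup H) (t : ℕ), Reduced H y L0 p (K x L).index t) := by
  have hp : p.Prime := Fact.out
  have hx := hS.hx
  have hsq := hS.hsq
  have hdiv : p ∣ Nat.card G := hx ▸ orderOf_dvd_natCard x
  have hθ : IsCharacter G (χ : G → ℂ) := Char.IsIrrCharacter.isCharacter χ.2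
  obtain ⟨hnc, hperfH⟩ := exists_perfect hS hnn hθ hfaith hlt
  set S : Set G := {g : G | orderOf g = p}
  set H : Subgroup G := Subgroup.closure S with hH
  haveI hHn : H.Normal := ⟨fun g hg c => by
    induction hg using Subgroup.closure_induction with
    | mem a ha => exact Subgroup.subset_closure (show orderOf (c * a * c⁻¹) = p by rw [SecondMain.orderOf_conj]; exact ha)
    | one => simp
    | mul a b _ _ iha ihb => rw [show c * (a * b) * c⁻¹ = (c * a * c⁻¹) * (c * b * c⁻¹) by group]; exact mul_mem iha ihb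
    | inv a _ iha => rw [← conj_inv]; exact inv_mem iha⟩
  let y : H := ⟨x, Subgroup.subset_closure hx⟩
  have hgen : Subgroup.closure {g : H | orderOf g = p} = ⊤ := by
    rw [← Subgroup.closure_closure_coe_preimage (k := S)]
    congr 1
    ext g
    simp [S]
    rfl
  have hy : orderOf y = p := (Subgroup.orderOf_mk x _).trans hx
  obtain ⟨L0, hS0⟩ := exists_setting hp hy (fun h => hsq (h.trans (Subgroup.card_subgroup_dvd_card H)))
  obtain ⟨M, hM⟩ := CentralChar.exists_pModular p
  have := Fintype.ofFinite G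
  have := Fintype.ofFinite H
  have := Fintype.ofFinite (IrrCharacter H)
  have := Fintype.ofFinite (IrrCharacter (K x L))
  have := Fintype.ofFinite (IrrCharacter (K y L0))
  have hpw : ∀ i : ZMod p, ((pw y i : H) : G) = pw x i := fun i => SubmonoidClass.coe_pow y i.val
  -- the restriction is irreducible
  set n := charDegree (χ : G → ℂ) with hndef
  obtain ⟨m, hm, hin⟩ := Char.IsCharacter.decompose (Char.IsCharacter.comp_hom hθ H.subtype)
  obtain ⟨φ, hφ, hφn⟩ : ∃ φ : IrrCharacter H, m φ ≠ 0 ∧ ‖(φ : H → ℂ) y‖ ≠ (charDegree (φ : H → ℂ) : ℝ) := by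
    by_contra hcon
    push Not at hcon
    refine hnc fun a ha => ?_
    have h : (⟨a, Subgroup.subset_closure ha⟩ : H) * y * (⟨a, Subgroup.subset_closure ha⟩ : H)⁻¹ * y⁻¹ = 1 := by
      refine Subtype.ext (hfaith _ ?_)
      set c := (⟨a, Subgroup.subset_closure ha⟩ : H) * y * (⟨a, Subgroup.subset_closure ha⟩ : H)⁻¹ * y⁻¹
      have h' := (congrFun hm c).trans (Eq.trans ?_ (congrFun hm 1).symm)
      · simpa using h'
      simp only [Finset.sum_apply, Pi.smul_apply, smul_eq_mul]
      refine Finset.sum_congr rfl fun ψ _ => ?_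
      by_cases hψ : m ψ = 0
      · simp [hψ]
      · rw [S4503.apply_commutator ψ (hcon ψ hψ) _]
    have h' : a * x * a⁻¹ * x⁻¹ = 1 := congrArg Subtype.val h
    rw [mul_inv_eq_one, mul_inv_eq_iff_eq_mul] at h'
    exact h'
  have hinner : classInner (fun a : H => (χ : G → ℂ) a) (φ : H → ℂ) = (m φ : ℂ) := hin φ
  have hne : classInner (fun a : H => (χ : G → ℂ) a) (φ : H → ℂ) ≠ 0 := by
    rw [hinner]; exact Nat.cast_ne_zero.mpr hφ
  have hdeg : n = m φ * (CharApp.inertia H (φ : H → ℂ)).index * charDegree (φ : H → ℂ) := by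
    apply Nat.cast_injective (R := ℂ)
    push_cast
    rw [hndef, charDegree_cast, charDegree_cast, CharApp.restrict_degree H χ.2 φ.2 hne, hinner]
  have hdφ : charDegree (φ : H → ℂ) = n := by
    by_contra hne'
    set k := m φ * (CharApp.inertia H (φ : H → ℂ)).index
    have hk2 : 2 ≤ k := by
      rcases Nat.lt_or_ge k 2 with hlt2 | hge
      · exfalso
        have hk1 : 1 ≤ k := Nat.mul_pos (Nat.pos_of_ne_zero hφ) (Nat.pos_of_ne_zero Subgroup.index_ne_zero_of_finite)
        rw [show k = 1 by omega, one_mul] at hdeg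
        exact hne' hdeg.symm
      · exact hge
    have hle := Nat.mul_le_mul_right (charDegree (φ : H → ℂ)) hk2
    rw [← hdeg] at hle
    obtain ⟨h2deg, -⟩ := (norm_eq_or_half hS0 hM hgen φ (by omega)).resolve_left hφn
    omega
  have hφeq : (fun a : H => (χ : G → ℂ) (a : G)) = (φ : H → ℂ) :=
    CharApp.eq_of_constituent_of_degree (Char.IsCharacter.comp_hom hθ H.subtype) φ.2 hne
      (a := n) (by show (χ : G → ℂ) ((1 : H) : G) = _; rw [OneMemClass.coe_one, hndef, charDegree_cast]) (by rw [← hdφ, charDegree_cast])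
  have hφf : ∀ g : H, (φ : H → ℂ) g = (φ : H → ℂ) 1 → g = 1 := fun g hg => by
    rw [← hφeq] at hg
    exact Subtype.ext (hfaith _ hg)
  have hn0 : 0 < n := charDegree_pos χ
  -- the action on `⟨x⟩`
  have hrange_le : (CyclicDefect.alpha hS0).range ≤ (CyclicDefect.alpha hS).range := by
    rintro u ⟨l0, rfl⟩
    have hl := congrArg Subtype.val (alphaVal_spec hS0 l0)
    rw [hpw] at hl
    obtain ⟨l, hl'⟩ := exists_L_of_conj hS (g := ((l0 : H) : G)) hl
    exact ⟨l, Units.ext hl'⟩
  have hdvdE : (K y L0).index ∣ (K x L).index := by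
    rw [← card_range hS0, ← card_range hS]
    exact Subgroup.card_dvd_of_le hrange_le
  have hE2 : 2 ≤ (K y L0).index := BrauerN.two_le_index hS0 hperfH
  have hEp := index_dvd_pred hS
  have hEle : (K x L).index ≤ p - 1 := Nat.le_of_dvd (by omega) hEp
  have hxG : ‖(χ : G → ℂ) x‖ ≠ (n : ℝ) := fun h => hφn (by rw [hdφ, ← hφeq]; exact h)
  obtain ⟨RG⟩ := exists_row hS hM χ hlt hxG
  obtain ⟨RH⟩ := exists_row hS0 hM φ (by omega) hφn
  rcases RH.cases hS0 hM (by omega) with ⟨hεH, -, -⟩ | ⟨hεH, hm0, hη, hT, hU, hdH⟩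
  · left
    have hhalf := half_of_plus hS0 hM RH hgen hE2 (by omega) hεH
    obtain ⟨h2deg, h2idx⟩ := (norm_eq_or_half hS0 hM hgen φ hhalf).resolve_left hφn
    rw [hdφ] at h2deg
    refine ⟨Cfsg.Agent.S4504.result p hp hdiv hsq hnn _ hθ hfaith h2deg, h2deg, ?_⟩
    rcases RG.cases hS hM hlt with ⟨-, -, hdG⟩ | ⟨-, -, -, -, -, hdG⟩
    · have hle : (K x L).index ≤ n := Nat.le_of_dvd hn0 ⟨_, hdG.trans (mul_comm _ _)⟩
      have := Nat.le_of_dvd (Nat.pos_of_ne_zero Subgroup.index_ne_zero_of_finite) hdvdE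
      omega
    · obtain ⟨q, hq⟩ := hEp
      have hq2 : q < 2 := by
        by_contra hq'
        have := Nat.mul_le_mul_left (K x L).index (show 2 ≤ q by omega)
        omega
      interval_cases q <;> omega
  · right
    rw [hdφ] at hdH
    rcases RG.cases hS hM hlt with ⟨-, -, hdG⟩ | ⟨-, -, hηG, hTG, -, hdG⟩
    · exfalso
      have h1 : (K y L0).index ∣ n := hdvdE.trans ⟨_, hdG.trans (mul_comm _ _)⟩
      have h2 : (K y L0).index ∣ p := by rw [← hdH]; exact dvd_add h1 dvd_rfl
      rcases hp.eq_one_or_self_of_dvd _ h2 with h3 | h3 <;> omega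
    have heq : (K y L0).index = (K x L).index := by omega
    obtain ⟨t, ht⟩ := hEp
    have h2p := RH.two
    rw [hU] at h2p
    have ht2 : 2 ≤ t := by
      rcases Nat.lt_or_ge t 2 with ht' | ht'
      · interval_cases t <;> omega
      · exact ht'
    -- the central elements
    have hKH : ∀ k : K y L0, (((k : L0) : H) : G) ∈ Subgroup.center G := fun k => by
      refine DegPMinusTwo.mem_center_of_norm hfaith ?_
      have := RH.K_scalar hS0 hM hη hT k
      rw [hdφ, ← hφeq] at this
      exact this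
    have hKG : ∀ k : K x L, ((k : L) : G) ∈ Subgroup.center G := fun k =>
      DegPMinusTwo.mem_center_of_norm hfaith (RG.K_scalar hS hM hηG hTG k)
    have hKc : ∀ k : K y L0, ((k : L0) : H) ∈ Subgroup.center H := fun k => Subgroup.mem_center_iff.mpr fun g =>
      Subtype.ext (Subgroup.mem_center_iff.mp (hKH k) (g : G))
    have hc : CCore p y L0 (K x L).index t :=
      ⟨hS0, hKc, hperfH, heq, by omega, by rw [mul_comm]; exact ht.symm, ht2⟩
    refine ⟨hdG, H, y, L0, t, hc, hgen, hKH, ?_, ?_⟩
    · -- the family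
      obtain ⟨l₀, hl₀⟩ := Char.exists_hom_of_degree_one (Char.IsIrrCharacter.isCharacter RH.η.2)
        (by rw [← charDegree_cast, hη, Nat.cast_one])
      have hirr : irrK (x := y) (L := L0) l₀ = RH.η := Subtype.ext hl₀
      have hμ : cch hc φ = l₀ := by
        by_contra hne'
        have h1 : irrK (x := y) (L := L0) l₀ ≠ irrK (x := y) (L := L0) (cch hc φ) := fun e' =>
          hne' (MonoidHom.ext fun k => (congrFun (congrArg Subtype.val e') k).symm)
        have h2 : ∀ j, multN hS0 φ RH.η j = 0 := fun j => by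
          apply Nat.cast_injective (R := ℂ)
          rw [← multN_spec hS0, mult, Nat.cast_zero, ← hirr]
          simp [dec_eq_zero_of_ne hc (cch_spec hc φ) h1]
        rw [h2 0] at hm0
        omega
      have hcent : Cent l₀ (φ : H → ℂ) := hμ ▸ cch_spec hc φ
      obtain ⟨A⟩ := exists_fam hc l₀
      set c₁ : T hc.hS := ((RH.c.out : (ZMod p)ˣ) : T hc.hS)
      have hrow : ∀ j : ZMod p, (N hc φ j : ℤ) = (1 : ℕ) + (-1 : ℤ) * ind hc c₁ j := by
        intro j
        by_cases hj : j = 0
        · rw [hj, ind_zero hc, mul_zero, add_zero, ← multN_eq_N hc hcent, hirr, hm0]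
        · obtain ⟨u, rfl⟩ : ∃ u : (ZMod p)ˣ, (u : ZMod p) = j := ⟨Units.mk0 j hj, rfl⟩
          have h1 := RH.row u
          have h2 := bInt_eq hc hcent (u : ZMod p)
          rw [hirr] at h2
          rw [h2, hεH] at h1
          have h3 : N hc φ 0 = 1 := by rw [← multN_eq_N hc hcent, hirr, hm0]
          rw [h3] at h1
          have h4 : ((u : (ZMod p)ˣ ⧸ U hS0 (RH.η : K y L0 → ℂ)) = RH.c) ↔ ((u : T hc.hS) = c₁) := by
            conv_lhs => rw [← Quotient.out_eq RH.c]
            show (u : (ZMod p)ˣ ⧸ U hS0 (RH.η : K y L0 → ℂ)) = ((RH.c.out : (ZMod p)ˣ) : _ ⧸ _) ↔ _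
            rw [QuotientGroup.eq, QuotientGroup.eq]
            exact SetLike.ext_iff.mp (U_eq hc RH.η) _
          rw [ind_unit hc]
          by_cases h5 : (u : T hc.hS) = c₁
          · rw [if_pos (h4.mpr h5)] at h1
            rw [if_pos h5]
            push_cast at h1 ⊢
            linarith
          · rw [if_neg (fun e' => h5 (h4.mp e'))] at h1
            rw [if_neg h5]
            push_cast at h1 ⊢
            linarith
      obtain ⟨hexc, hε, hM1⟩ := mem_of_row hc A hcent (Or.inr rfl) hrow
      exact ⟨l₀, A, c₁, hε, hM1, by rw [hexc]; exact hφf⟩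
    · -- the quotient
      have hrange_eq : (CyclicDefect.alpha hS0).range = (CyclicDefect.alpha hS).range :=
        Subgroup.eq_of_le_of_card_ge hrange_le (by rw [card_range hS0, card_range hS, heq])
      have hHZ : ∀ g : G, ∃ a : H, (a : G)⁻¹ * g ∈ Subgroup.center G := by
        intro g
        have hxg : orderOf (g * x * g⁻¹) = p := by rw [SecondMain.orderOf_conj]; exact hx
        obtain ⟨c, hc'⟩ := HalfDegree.exists_conj_mem hS0 (show orderOf (⟨_, Subgroup.subset_closure hxg⟩ : H) = p by
          rw [Subgroup.orderOf_mk]; exact hxg)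
        obtain ⟨i, hi⟩ := hS0.exists_pw hc'
        have hconj : ((c : G) * g) * x * ((c : G) * g)⁻¹ = pw x i := by
          rw [← hpw, ← hi]
          show _ = (c : G) * (g * x * g⁻¹) * (c : G)⁻¹
          group
        obtain ⟨l, hl⟩ := exists_L_of_conj hS hconj
        obtain ⟨l0, hl0⟩ : CyclicDefect.alpha hS l ∈ (CyclicDefect.alpha hS0).range := hrange_eq ▸ ⟨l, rfl⟩
        have hl0' : ((l0 : H) : G) * x * ((l0 : H) : G)⁻¹ = pw x i := by
          rw [← hl, ← show alphaVal hS0 l0 = alphaVal hS l from congrArg Units.val hl0, ← hpw, ← alphaVal_spec hS0 l0]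
          rfl
        set d := ((l0 : H) : G)⁻¹ * ((c : G) * g)
        have hd : Commute x d := by
          have h1 : ((l0 : H) : G) * x * ((l0 : H) : G)⁻¹ = ((c : G) * g) * x * ((c : G) * g)⁻¹ :=
            hl0'.trans hconj.symm
          show x * d = d * x
          calc x * d = ((l0 : H) : G)⁻¹ * (((l0 : H) : G) * x * ((l0 : H) : G)⁻¹) * ((c : G) * g) := by
                simp only [d]; group
            _ = d * x := by rw [h1]; simp only [d]; group
        obtain ⟨j, k, hk⟩ := hS.decomp hd
        refine ⟨c⁻¹ * (l0 : H) * pw y j, ?_⟩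
        have : ((c⁻¹ * (l0 : H) * pw y j : H) : G)⁻¹ * g = ((k : L) : G) := by
          rw [Subgroup.coe_mul, Subgroup.coe_mul, Subgroup.coe_inv, hpw,
            show ((c : G)⁻¹ * ((l0 : H) : G) * pw x j)⁻¹ * g = (pw x j)⁻¹ * d by simp only [d]; group, hk,
            inv_mul_cancel_left]
        rw [this]
        exact hKG k
      let π : H →* G ⧸ Subgroup.center G := (QuotientGroup.mk' _).comp H.subtype
      have hπ : Function.Surjective π := by
        intro q
        obtain ⟨g, rfl⟩ := QuotientGroup.mk'_surjective _ q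
        obtain ⟨a, ha⟩ := hHZ g
        exact ⟨a, QuotientGroup.eq.mpr ha⟩
      have hker : π.ker = Subgroup.center H := by
        ext z
        rw [MonoidHom.mem_ker]
        show (QuotientGroup.mk (z : G) : G ⧸ Subgroup.center G) = 1 ↔ _
        rw [QuotientGroup.eq_one_iff, Subgroup.mem_center_iff, Subgroup.mem_center_iff]
        constructor
        · exact fun h g => Subtype.ext (h g)
        · intro h g
          obtain ⟨a, ha⟩ := hHZ g
          set w := (a : G)⁻¹ * g
          rw [show g = (a : G) * w by simp only [w]; group]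
          have h1 : (a : G) * (z : G) = (z : G) * (a : G) := congrArg Subtype.val (h a)
          calc (a : G) * w * (z : G) = (a : G) * ((z : G) * w) := by
                rw [mul_assoc, Subgroup.mem_center_iff.mp ha (z : G)]
            _ = (z : G) * ((a : G) * w) := by rw [← mul_assoc, h1, mul_assoc]
      exact ⟨((QuotientGroup.quotientMulEquivOfEq hker).symm.trans
        (QuotientGroup.quotientKerEquivOfSurjective π hπ)).symm⟩

/-- The reduction for primes above seven. -/
theorem reduce (hS : Setting p x L) (hp7 : 7 < p) (hnn : ∀ H : Subgroup G, H.Normal → Nat.card H ≠ p)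
    (χ : IrrCharacter G) (hfaith : ∀ g : G, (χ : G → ℂ) g = (χ : G → ℂ) 1 → g = 1)
    (hlt : charDegree (χ : G → ℂ) + 1 < p) :
    (Nonempty ((G ⧸ Subgroup.center G) ≃* Matrix.ProjectiveSpecialLinearGroup (Fin 2) (ZMod p)) ∧
      2 * charDegree (χ : G → ℂ) + 1 = p ∧ 2 * (K x L).index + 1 = p) ∨
    (charDegree (χ : G → ℂ) + (K x L).index = p ∧
      ∃ (H : Subgroup G) (y : H) (L0 : Subgroup H) (t : ℕ), Reduced H y L0 p (K x L).index t) :=
  reduce_of_five_le hS (by omega) hnn χ hfaith hlt

end Cfsg.Agent.FeitSmall
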