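/-
Two classes of exponents: values, fixed spaces and the count of the block (namespace `Cfsg.Agent.FeitSmall`).

Main results: `exists_other`, `ext_of_mu`, `fixed_expansion`, `flat_values`, `cst_deg`, `exc_shift`, `exc_add`,
`norm_diff`, `block_eq`, `regular_sum`, `sum_subgroup`.
-/
import Cfsg.Agent.Lib.FeitSmall.Three
import Cfsg.Agent.Lib.Codegree.Basic
import Cfsg.Agent.Lib.CyclicDefect.Main

set_option autoImplicit false
set_option linter.unusedSectionVars false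
set_option linter.style.haveILetI false

open scoped ComplexConjugate

namespace Cfsg.Agent.FeitSmall

open Cfsg Cfsg.Agent.Blocks Cfsg.Agent.CyclicDefect

variable {G : Type*} [Group G] [Fintype G] {p : ℕ} [Fact p.Prime] {x : G} {L : Subgroup G} {e : ℕ}
variable (h : CCore p x L e 2)
include h

theorem p_two : p = 2 * e + 1 := p_eq h

theorem exists_other : ∃ b : T h.hS, b ≠ 1 ∧ ∀ c : T h.hS, c = 1 ∨ c = b := by
  classical
  have hcard : Fintype.card (T h.hS) = 2 := by rw [← Nat.card_eq_fintype_card, card_classes h]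
  haveI : Nontrivial (T h.hS) := Finite.one_lt_card_iff_nontrivial.mp (by rw [card_classes h]; norm_num)
  obtain ⟨b, hb⟩ := exists_ne (1 : T h.hS)
  refine ⟨b, hb, fun c => ?_⟩
  by_contra hc
  push Not at hc
  have : ({1, b, c} : Finset (T h.hS)).card ≤ 2 := (Finset.card_le_univ _).trans hcard.le
  rw [Finset.card_insert_of_notMem (by simp [hb.symm, hc.1.symm]),
    Finset.card_pair hc.2.symm] at this
  omega

theorem other_mul_self {b : T h.hS} (hb : b ≠ 1) (hT : ∀ c : T h.hS, c = 1 ∨ c = b) : b * b = 1 :=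
  (hT (b * b)).resolve_right fun e' => hb (mul_eq_left.mp e')

theorem sum_classes {b : T h.hS} (hb : b ≠ 1) (hT : ∀ c : T h.hS, c = 1 ∨ c = b) {M : Type*} [AddCommMonoid M]
    (f : T h.hS → M) : ∑ c, f c = f 1 + f b := by
  classical
  rw [show (Finset.univ : Finset (T h.hS)) = {1, b} from by
    ext c; simp [hT c], Finset.sum_pair hb.symm]

theorem ext_of_mu {ν : K x L →* ℂ} {f f' : G → ℂ} (hf : IsClassFunction G f) (hf' : IsClassFunction G f')
    (hc : Cent ν f) (hc' : Cent ν f') (hreg : ∀ g : G, ¬ p ∣ orderOf g → f g = f' g)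
    (hmu : ∀ j : ZMod p, mu x f j = mu x f' j) : f = f' := by
  funext g
  by_cases hg : p ∣ orderOf g
  · refine ext_of_singular h.hS hf hf' (fun i _ k => ?_) hg
    rw [hc, hc', apply_pw_eq_sum f, apply_pw_eq_sum f']
    simp only [hmu]
  · exact hreg g hg

theorem sum_apply_pw (f : G → ℂ) : ∑ i : ZMod p, f (pw x i) = (p : ℂ) * mu x f (0 : ZMod p) := by
  simp only [mu, mul_zero, neg_zero, ζ_zero, one_mul]
  rw [mul_inv_cancel_left₀ (Nat.cast_ne_zero.mpr (Fact.out : p.Prime).ne_zero)]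

/-- A function with the same multiplicity at every primitive exponent. -/
theorem apply_of_const {f : G → ℂ} {C : ℂ} (hu : ∀ u : (ZMod p)ˣ, mu x f (u : ZMod p) = C) {i : ZMod p}
    (hi : i ≠ 0) : f (pw x i) = mu x f (0 : ZMod p) - C := by
  classical
  rw [apply_pw_eq_sum f i, ← Finset.add_sum_erase _ _ (Finset.mem_univ (0 : ZMod p)), mul_zero, ζ_zero, mul_one,
    Finset.sum_congr rfl (g := fun j => C * ζp (i * j)) fun j hj => by
      rw [← hu (Units.mk0 j (Finset.ne_of_mem_erase hj)), Units.val_mk0]]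
  have h0 : ∑ j : ZMod p, ζp (i * j) = 0 := by
    rw [Finset.sum_congr rfl fun j _ => by rw [mul_comm i j], sum_ζ_mul, if_neg hi]
  rw [← Finset.add_sum_erase _ _ (Finset.mem_univ (0 : ZMod p)), mul_zero, ζ_zero] at h0
  rw [← Finset.mul_sum, show ∑ j ∈ Finset.univ.erase (0 : ZMod p), ζp (i * j) = -1 from by linear_combination h0]
  ring

theorem flat_values {χ : IrrCharacter G} {δ : ℤ}
    (hrow : ∀ u : (ZMod p)ˣ, (N h χ (u : ZMod p) : ℤ) = N h χ 0 + δ) :
    (∀ i : ZMod p, i ≠ 0 → (χ : G → ℂ) (pw x i) = -(δ : ℂ)) ∧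
      (charDegree (χ : G → ℂ) : ℤ) = (p : ℤ) * N h χ 0 + δ * (2 * e) := by
  classical
  refine ⟨fun i hi => ?_, ?_⟩
  · rw [apply_of_const h (f := (χ : G → ℂ)) (C := (N h χ 0 : ℂ) + δ) (fun u => ?_) hi, N_spec h]
    · ring
    · rw [N_spec h, ← Int.cast_natCast, hrow]
      push_cast; ring
  · rw [deg_eq_sum h, ← Finset.add_sum_erase _ _ (Finset.mem_univ (0 : ZMod p)), Nat.cast_add, Nat.cast_sum,
      Finset.sum_congr rfl (g := fun _ => (N h χ 0 : ℤ) + δ) fun j hj => by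
        rw [← hrow (Units.mk0 j (Finset.ne_of_mem_erase hj)), Units.val_mk0],
      Finset.sum_const, Finset.card_erase_of_mem (Finset.mem_univ _), Finset.card_univ, ZMod.card, nsmul_eq_mul,
      show p - 1 = 2 * e by have := p_two h; omega]
    have hp : (p : ℤ) = 2 * e + 1 := by exact_mod_cast p_two h
    push_cast
    linear_combination (-(N h χ 0 : ℤ)) * hp

theorem exists_cst {ν : K x L →* ℂ} (C : Fam h ν) {χ : IrrCharacter G} (hc : Cent ν (χ : G → ℂ))
    (hn : χ ∉ Set.range C.exc) : ∃ δ : ℤ, (δ = 0 ∨ δ = 1 ∨ δ = -1) ∧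
      (∀ u : (ZMod p)ˣ, (N h χ (u : ZMod p) : ℤ) = N h χ 0 + δ) ∧
      (∀ i : ZMod p, i ≠ 0 → (χ : G → ℂ) (pw x i) = -(δ : ℂ)) ∧
      (charDegree (χ : G → ℂ) : ℤ) = (p : ℤ) * N h χ 0 + δ * (2 * e) ∧
      (δ = -1 → χ ≠ oneIrr G → 2 ≤ N h χ 0) := by
  obtain ⟨δ, hδ, hrow⟩ := C.cst χ hc hn
  obtain ⟨hv, hd⟩ := flat_values h hrow
  refine ⟨δ, hδ, hrow, hv, hd, fun hd1 hne => ?_⟩
  by_contra hlt
  have hpos := charDegree_pos χ
  have hp := p_two h
  rw [hd1] at hd
  rcases Nat.lt_or_ge (N h χ 0) 1 with h0 | h0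
  · rw [show N h χ 0 = 0 by omega, Nat.cast_zero, mul_zero] at hd
    omega
  · rw [show N h χ 0 = 1 by omega, Nat.cast_one, mul_one] at hd
    exact hne (HalfDegree.linear_trivial h.hperf χ (by omega))

theorem exc_shift {ν : K x L →* ℂ} (A : Fam h ν) (c : T h.hS) (s : (ZMod p)ˣ) :
    (A.exc c : G → ℂ) (pw x (s : ZMod p)) = (A.exc ((s : T h.hS) * c) : G → ℂ) x := by
  refine Eq.trans ?_ (congrArg (A.exc ((s : T h.hS) * c) : G → ℂ) h.hS.pw_one)
  rw [apply_pw_eq_sum (x := x) (p := p) (A.exc ((s : T h.hS) * c) : G → ℂ)]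
  rw [apply_pw_eq_sum (A.exc c : G → ℂ)]
  refine Fintype.sum_equiv (Equiv.mulLeft₀ (s : ZMod p) s.ne_zero) _ _ fun j => ?_
  rw [show Equiv.mulLeft₀ (s : ZMod p) s.ne_zero j = (s : ZMod p) * j from rfl, mu_exc h, mu_exc h,
    ind_unit_mul h, one_mul]

theorem exc_add {ν : K x L →* ℂ} (A : Fam h ν) {b : T h.hS} (hb : b ≠ 1) (hT : ∀ c : T h.hS, c = 1 ∨ c = b) :
    (A.exc 1 : G → ℂ) x + (A.exc b : G → ℂ) x = -(A.ε : ℂ) := by
  classical
  have hmu : ∀ u : (ZMod p)ˣ, mu x (fun g => (A.exc 1 : G → ℂ) g + (A.exc b : G → ℂ) g) (u : ZMod p) =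
      (2 * A.M + A.ε : ℂ) := by
    intro u
    rw [mu, Finset.sum_congr rfl fun i _ => mul_add _ _ _, Finset.sum_add_distrib, mul_add, ← mu, ← mu, mu_exc h,
      mu_exc h, ind_unit h, ind_unit h]
    rcases hT (u : T h.hS) with e' | e' <;> rw [e']
    · rw [if_pos rfl, if_neg hb.symm]; push_cast; ring
    · rw [if_neg hb, if_pos rfl]; push_cast; ring
  have h0 : mu x (fun g => (A.exc 1 : G → ℂ) g + (A.exc b : G → ℂ) g) (0 : ZMod p) = (2 * A.M : ℂ) := by
    rw [mu, Finset.sum_congr rfl fun i _ => mul_add _ _ _, Finset.sum_add_distrib, mul_add, ← mu, ← mu, mu_exc h,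
      mu_exc h, ind_zero h, ind_zero h]
    push_cast; ring
  have h1 := apply_of_const h hmu (one_ne_zero : (1 : ZMod p) ≠ 0)
  rw [h.hS.pw_one, h0] at h1
  rw [h1]; ring

omit h in
/-- Two numbers of sum one. -/
theorem norm_diff {a b : ℂ} {d : ℕ} (hab : a + b = 1) (hd : a * conj a + b * conj b = (d : ℂ)) :
    ‖(a - b) ^ 2‖ = 2 * (d : ℝ) - 1 := by
  have h1 : (a + b) * conj (a + b) = 1 := by rw [hab, map_one, mul_one]
  rw [map_add] at h1
  have h2 : ((‖a - b‖ ^ 2 : ℝ) : ℂ) = ((2 * (d : ℝ) - 1 : ℝ) : ℂ) := by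
    push_cast
    rw [← Complex.mul_conj', map_sub]
    linear_combination 2 * hd - h1
  rw [norm_pow]
  exact_mod_cast h2

/-- The fixed space of an irreducible character with trivial central character. -/
theorem fixed_expansion {χ : IrrCharacter G} {ν : K x L →* ℂ} (hc : Cent ν (χ : G → ℂ))
    [Fintype (IrrCharacter L)] :
    ∃ ψ : IrrCharacter L → (L →* ℂ), Function.Injective ψ ∧ (∀ ν' : L →* ℂ, ∃ φ, ψ φ = ν') ∧
      (∀ l : L, phiP p x (χ : G → ℂ) l = ∑ φ, (lines p x (χ : G → ℂ) (ψ φ) : ℂ) * ψ φ l) ∧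
      ∑ φ, lines p x (χ : G → ℂ) (ψ φ) = N h χ 0 := by
  have := Fintype.ofFinite L
  choose ψ hψ using exists_hom_irr h
  have hcl : IsClassFunction L (phiP p x (χ : G → ℂ)) := fun a b => by
    rw [L_comm h b a, mul_inv_cancel_right]
  have hexp : ∀ l : L, phiP p x (χ : G → ℂ) l = ∑ φ, (lines p x (χ : G → ℂ) (ψ φ) : ℂ) * ψ φ l := by
    intro l
    conv_lhs => rw [Char.classFunction_eq_sum hcl]
    rw [Finset.sum_apply]
    refine Finset.sum_congr rfl fun φ _ => ?_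
    rw [Pi.smul_apply, smul_eq_mul, ← lines_spec h (Char.IsIrrCharacter.isCharacter χ.2), hψ]
  refine ⟨ψ, fun a b e' => Subtype.ext (by rw [← hψ a, ← hψ b, e']), fun ν' => ⟨⟨ν', Char.isIrrCharacter_of_hom ν'⟩,
    DFunLike.coe_injective (hψ _)⟩, hexp, ?_⟩
  apply Nat.cast_injective (R := ℂ)
  have h1 := hexp ((1 : K x L) : L)
  rw [phiP_K h hc, map_one, one_mul, N_spec h, OneMemClass.coe_one] at h1
  rw [Nat.cast_sum]
  simpa using h1.symm

theorem exists_line_of_pos {χ : IrrCharacter G} {ν : K x L →* ℂ} (hc : Cent ν (χ : G → ℂ)) (hN : N h χ 0 ≠ 0) :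
    ∃ ψ : L →* ℂ, lines p x (χ : G → ℂ) ψ ≠ 0 := by
  have := Fintype.ofFinite (IrrCharacter L)
  obtain ⟨ψ, -, -, -, hs⟩ := fixed_expansion h hc
  obtain ⟨φ, -, hφ⟩ := Finset.exists_ne_zero_of_sum_ne_zero (hs.trans_ne hN)
  exact ⟨ψ φ, hφ⟩

/-- The non-exceptional members of the block. -/
theorem block_eq {ν : K x L →* ℂ} (C : Fam h ν) {S : Finset (IrrCharacter G)} (hS : S.card = e)
    (hmem : ∀ χ ∈ S, Cent ν (χ : G → ℂ) ∧ χ ∉ Set.range C.exc ∧ ∃ u : (ZMod p)ˣ, N h χ (u : ZMod p) ≠ N h χ 0)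
    {χ : IrrCharacter G} (hc : Cent ν (χ : G → ℂ)) (hn : χ ∉ Set.range C.exc)
    (hu : ∃ u : (ZMod p)ˣ, N h χ (u : ZMod p) ≠ N h χ 0) : χ ∈ S := by
  classical
  have := Fintype.ofFinite (IrrCharacter G)
  set B : Finset (IrrCharacter G) :=
    Finset.univ.filter fun χ => Cent ν (χ : G → ℂ) ∧ ∃ u : (ZMod p)ˣ, N h χ (u : ZMod p) ≠ N h χ 0
  have hB : B.card = e + 2 := by
    rw [← C.count, Nat.card_eq_fintype_card, Fintype.card_subtype]
  have hsub : S ∪ Finset.univ.image C.exc ⊆ B := by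
    intro φ hφ
    rcases Finset.mem_union.mp hφ with hφ | hφ
    · exact Finset.mem_filter.mpr ⟨Finset.mem_univ _, (hmem φ hφ).1, (hmem φ hφ).2.2⟩
    · obtain ⟨c, -, rfl⟩ := Finset.mem_image.mp hφ
      refine Finset.mem_filter.mpr ⟨Finset.mem_univ _, C.cent c, c.out, fun e' => ?_⟩
      have h1 := C.row c ((c.out : (ZMod p)ˣ) : ZMod p)
      have h2 := C.row c 0
      rw [ind_unit h, if_pos (Quotient.out_eq c)] at h1
      rw [ind_zero h] at h2
      rw [e'] at h1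
      rcases C.hε with h3 | h3 <;> rw [h3] at h1 h2 <;> omega
  have heq : S ∪ Finset.univ.image C.exc = B := Finset.eq_of_subset_of_card_le hsub (by
    rw [Finset.card_union_of_disjoint (Finset.disjoint_left.mpr fun φ hφ hφ' => (hmem φ hφ).2.1 (by
      obtain ⟨c, -, rfl⟩ := Finset.mem_image.mp hφ'
      exact ⟨c, rfl⟩)), hS, Finset.card_image_of_injective _ C.inj, Finset.card_univ, ← Nat.card_eq_fintype_card,
      card_classes h, hB])
  have hmemB : χ ∈ B := Finset.mem_filter.mpr ⟨Finset.mem_univ _, hc, hu⟩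
  rw [← heq] at hmemB
  refine (Finset.mem_union.mp hmemB).resolve_right fun hφ => hn ?_
  obtain ⟨c, -, rfl⟩ := Finset.mem_image.mp hφ
  exact ⟨c, rfl⟩

open scoped Classical in
/-- Sums over the regular elements when `K` is trivial. -/
theorem regular_sum (hK : Subsingleton (K x L)) {f : G → ℂ} (hf : IsClassFunction G f) :
    ∑ g ∈ Finset.univ.filter (fun g : G => ¬ p ∣ orderOf g), f g =
      ∑ g, f g - (Nat.card G : ℂ) / ((p : ℂ) * e) * ((p : ℂ) * mu x f (0 : ZMod p) - f 1) := by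
  have := Fintype.ofFinite (K x L)
  have h1 : Nat.card (K x L) = 1 := Nat.card_eq_one_iff_unique.mpr ⟨hK, ⟨1⟩⟩
  have hN : ((Subgroup.normalizer (Subgroup.zpowers x : Set G)).index : ℂ) = (Nat.card G : ℂ) / ((p : ℂ) * e) := by
    rw [eq_div_iff (mul_ne_zero (Nat.cast_ne_zero.mpr (Fact.out : p.Prime).ne_zero)
      (Nat.cast_ne_zero.mpr (by have := h.he2; omega))), ← Nat.cast_mul, ← Nat.cast_mul]
    congr 1
    rw [← Subgroup.index_mul_card (Subgroup.normalizer (Subgroup.zpowers x : Set G)), h.hS.card_normalizer, card_L h,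
      h1, mul_one]
  have hsing := sum_singular h.hS hf
  rw [hN, Finset.sum_congr rfl (g := fun i => f (pw x i)) fun i _ => by
    rw [Finset.sum_eq_single (1 : K x L) (fun k _ hk => absurd (hK.elim k 1) hk)
      (fun hh => absurd (Finset.mem_univ _) hh)]
    simp] at hsing
  have h2 : ∑ i ∈ Finset.univ.filter (fun i : ZMod p => i ≠ 0), f (pw x i) = (p : ℂ) * mu x f (0 : ZMod p) - f 1 := by
    rw [← sum_apply_pw h f, Finset.filter_ne', Finset.sum_erase_eq_sub (Finset.mem_univ _), h.hS.pw_zero]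
  rw [h2] at hsing
  rw [← hsing, ← Finset.sum_filter_add_sum_filter_not Finset.univ (fun g : G => p ∣ orderOf g) f, add_sub_cancel_left]

theorem sum_N_eq [Fintype (IrrCharacter G)] {f : G → ℂ} (hf : IsCharacter G f) {n : ℕ}
    (hn : mu x f (0 : ZMod p) = (n : ℂ)) : ∑ χ : IrrCharacter G, cm f χ * N h χ 0 = n := by
  apply Nat.cast_injective (R := ℂ)
  rw [← hn, mu_eq_sum hf, Nat.cast_sum]
  exact Finset.sum_congr rfl fun χ _ => by rw [Nat.cast_mul, N_spec h]

omit h in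
theorem sum_deg_eq [Fintype (IrrCharacter G)] {f : G → ℂ} (hf : IsCharacter G f) {n : ℕ} (hn : f 1 = (n : ℂ)) :
    ∑ χ : IrrCharacter G, cm f χ * charDegree (χ : G → ℂ) = n := by
  apply Nat.cast_injective (R := ℂ)
  rw [← hn]
  conv_rhs => rw [cm_decomp hf]
  rw [Nat.cast_sum, Finset.sum_apply]
  exact Finset.sum_congr rfl fun χ _ => by rw [Nat.cast_mul, charDegree_cast, Pi.smul_apply, smul_eq_mul]

omit h in
theorem inner_self_eq [Fintype (IrrCharacter G)] {f : G → ℂ} (hf : IsCharacter G f) :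
    classInner f f = ((∑ χ : IrrCharacter G, cm f χ * cm f χ : ℕ) : ℂ) := by
  rw [CharApp.classInner_eq_sum_mul (cm_decomp hf) f, Nat.cast_sum]
  exact Finset.sum_congr rfl fun χ _ => by
    rw [CharApp.classInner_comm_of_nat (cm_spec hf χ), Nat.cast_mul]

omit h in
theorem apply_eq_sum_cm [Fintype (IrrCharacter G)] {f : G → ℂ} (hf : IsCharacter G f) (g : G) :
    f g = ∑ χ : IrrCharacter G, (cm f χ : ℂ) * (χ : G → ℂ) g := by
  conv_lhs => rw [cm_decomp hf]
  rw [Finset.sum_apply]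
  rfl

omit h in
theorem even_sum_sq_add {ι : Type*} (s : Finset ι) (m : ι → ℕ) :
    Even (∑ i ∈ s, m i * m i + ∑ i ∈ s, m i) := by
  rw [← Finset.sum_add_distrib]
  refine Finset.even_sum _ (fun i _ => ?_)
  rw [← Nat.mul_succ]
  exact Nat.even_mul_succ_self _

omit h in
theorem eq_one_of_sq {M : Type*} [Monoid M] {a : M} {n : ℕ} (hn : Odd n) (ha : a ^ n = 1) (h2 : a ^ 2 = 1) : a = 1 := by
  obtain ⟨j, rfl⟩ := hn
  rwa [pow_succ, pow_mul, h2, one_pow, one_mul] at ha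

omit h in
/-- The sum of a character over a subgroup. -/
theorem sum_subgroup {f : G → ℂ} (hf : IsCharacter G f) (H : Subgroup G) [Fintype H] :
    ∃ m : ℕ, ∑ u : H, f u = (Nat.card H : ℂ) * m := by
  obtain ⟨m, hm⟩ := Char.IsCharacter.classInner_nat (Char.IsCharacter.comp_hom hf H.subtype)
    (Char.isCharacter_of_hom (1 : H →* ℂ))
  refine ⟨m, ?_⟩
  rw [← hm, classInner, mul_inv_cancel_left₀ (Nat.cast_ne_zero.mpr Nat.card_pos.ne')]
  simp

omit h in
/-- One constituent bounds the fall of the value. -/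
theorem constituent_fall {f : G → ℂ} (hf : IsCharacter G f) (χ : IrrCharacter G) (g : G) :
    (cm f χ : ℝ) * ((charDegree (χ : G → ℂ) : ℝ) - ((χ : G → ℂ) g).re) ≤ (f 1).re - (f g).re := by
  classical
  have := Fintype.ofFinite (IrrCharacter G)
  have hval : ∀ a : G, (f a).re = ∑ φ : IrrCharacter G, (cm f φ : ℝ) * ((φ : G → ℂ) a).re := fun a => by
    conv_lhs => rw [cm_decomp hf]
    simp [Finset.sum_apply, Complex.re_sum]
  have hdeg : ∀ φ : IrrCharacter G, ((φ : G → ℂ) 1).re = (charDegree (φ : G → ℂ) : ℝ) := fun φ => by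
    rw [← charDegree_cast]; simp
  rw [hval, hval, ← Finset.sum_sub_distrib]
  simp only [← mul_sub, hdeg]
  refine Finset.single_le_sum (f := fun φ : IrrCharacter G =>
    (cm f φ : ℝ) * ((charDegree (φ : G → ℂ) : ℝ) - ((φ : G → ℂ) g).re)) (fun φ _ => ?_) (Finset.mem_univ χ)
  refine mul_nonneg (Nat.cast_nonneg _) (sub_nonneg.mpr ?_)
  rw [← hdeg]
  exact (Complex.re_le_norm _).trans (Char.IsCharacter.norm_le (Char.IsIrrCharacter.isCharacter φ.2) g)

end Cfsg.Agent.FeitSmall
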