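/-
The inequality from the products of two classes of order `p` (namespace `Cfsg.Agent.FeitSmall`).

Main results: `raw_ineq`, `two_ineq`.
-/
import Cfsg.Agent.Lib.FeitSmall.TwoTools
import Cfsg.Agent.Lib.BrauerTuan.General

set_option autoImplicit false
set_option linter.unusedSectionVars false
set_option linter.style.haveILetI false

open scoped ComplexConjugate

namespace Cfsg.Agent.FeitSmall

open Cfsg Cfsg.Agent.Blocks Cfsg.Agent.CyclicDefect

variable {G : Type*} [Group G] [Fintype G] {p : ℕ} [Fact p.Prime] {x : G} {L : Subgroup G}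

/-- The class sums are non-negative. -/
theorem class_nonneg [Fintype (IrrCharacter G)] (a b c : G) : ∃ r : ℝ, 0 ≤ r ∧
    ∑ χ : IrrCharacter G, (χ : G → ℂ) a * (χ : G → ℂ) b * conj ((χ : G → ℂ) c) / (χ : G → ℂ) 1 = (r : ℂ) := by
  refine ⟨(Nat.card {q : G × G // IsConj a q.1 ∧ IsConj b q.2 ∧ q.1 * q.2 = c} : ℝ) *
    Nat.card (Subgroup.centralizer ({a} : Set G)) * Nat.card (Subgroup.centralizer ({b} : Set G)) / Nat.card G,
    by positivity, ?_⟩
  push_cast
  rw [BrauerTuan.class_mult a b c, mul_div_cancel_left₀]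
  exact Nat.cast_ne_zero.mpr Nat.card_pos.ne'

variable {e t : ℕ} (h : CCore p x L e t)
include h

open scoped Classical in
/-- The inequality before evaluation. -/
theorem raw_ineq [Fintype (IrrCharacter G)] (μ : K x L →* ℂ) (y g : G) :
    ‖∑ χ ∈ Finset.univ.filter (fun χ : IrrCharacter G => cch h χ = μ),
        ((χ : G → ℂ) x - (χ : G → ℂ) y) ^ 2 * conj ((χ : G → ℂ) g) / (χ : G → ℂ) 1‖ ≤
      (∑ χ ∈ Finset.univ.filter (fun χ : IrrCharacter G => cch h χ = 1),
        ((χ : G → ℂ) x + (χ : G → ℂ) y) ^ 2 * conj ((χ : G → ℂ) g) / (χ : G → ℂ) 1).re := by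
  have horth : ∀ α β : K x L →* ℂ, ∑ k : K x L, α k * conj (β k) = if α = β then (Nat.card (K x L) : ℂ) else 0 := by
    intro α β
    have h1 := Char.classInner_irr (G := K x L) (Char.isIrrCharacter_of_hom α) (Char.isIrrCharacter_of_hom β)
    rw [classInner, inv_mul_eq_iff_eq_mul₀ (Nat.cast_ne_zero.mpr Nat.card_pos.ne')] at h1
    rw [h1]
    by_cases hc : α = β
    · subst hc; simp
    · rw [if_neg hc, if_neg (fun e' => hc (DFunLike.coe_injective e')), mul_zero]
  let Sm : IrrCharacter G → ℂ := fun χ => ((χ : G → ℂ) x - (χ : G → ℂ) y) ^ 2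
  let Sp : IrrCharacter G → ℂ := fun χ => ((χ : G → ℂ) x + (χ : G → ℂ) y) ^ 2
  have htw : ∀ (v : IrrCharacter G → ℂ) (α : K x L →* ℂ),
      ∑ k : K x L, α k * ∑ χ : IrrCharacter G, v χ * conj ((χ : G → ℂ) (g * ((k : L) : G))) / (χ : G → ℂ) 1 =
        (Nat.card (K x L) : ℂ) * ∑ χ ∈ Finset.univ.filter (fun χ : IrrCharacter G => cch h χ = α),
          v χ * conj ((χ : G → ℂ) g) / (χ : G → ℂ) 1 := by
    intro v α
    simp only [Finset.mul_sum]
    rw [Finset.sum_comm, Finset.sum_filter]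
    refine Finset.sum_congr rfl fun χ _ => ?_
    rw [Finset.sum_congr rfl (g := fun k : K x L => (α k * conj (cch h χ k)) * (v χ * conj ((χ : G → ℂ) g) / (χ : G → ℂ) 1))
      fun k _ => by rw [cch_spec h χ g k, map_mul]; ring, ← Finset.sum_mul, horth]
    by_cases hc : cch h χ = α
    · rw [if_pos hc, if_pos hc.symm]
    · rw [if_neg hc, if_neg (Ne.symm hc), zero_mul]
  have hpt : ∀ k : K x L, ‖∑ χ : IrrCharacter G, Sm χ * conj ((χ : G → ℂ) (g * ((k : L) : G))) / (χ : G → ℂ) 1‖ ≤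
      (∑ χ : IrrCharacter G, Sp χ * conj ((χ : G → ℂ) (g * ((k : L) : G))) / (χ : G → ℂ) 1).re := by
    intro k
    obtain ⟨r1, hr1, e1⟩ := class_nonneg x x (g * ((k : L) : G))
    obtain ⟨r2, hr2, e2⟩ := class_nonneg y y (g * ((k : L) : G))
    obtain ⟨r3, hr3, e3⟩ := class_nonneg x y (g * ((k : L) : G))
    have em : ∑ χ : IrrCharacter G, Sm χ * conj ((χ : G → ℂ) (g * ((k : L) : G))) / (χ : G → ℂ) 1 =
        ((r1 + r2 - 2 * r3 : ℝ) : ℂ) := by
      push_cast
      rw [← e1, ← e2, ← e3, Finset.mul_sum, ← Finset.sum_add_distrib, ← Finset.sum_sub_distrib]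
      exact Finset.sum_congr rfl fun χ _ => by simp only [Sm]; ring
    have ep : ∑ χ : IrrCharacter G, Sp χ * conj ((χ : G → ℂ) (g * ((k : L) : G))) / (χ : G → ℂ) 1 =
        ((r1 + r2 + 2 * r3 : ℝ) : ℂ) := by
      push_cast
      rw [← e1, ← e2, ← e3, Finset.mul_sum, ← Finset.sum_add_distrib, ← Finset.sum_add_distrib]
      exact Finset.sum_congr rfl fun χ _ => by simp only [Sp]; ring
    rw [em, ep, Complex.ofReal_re, Complex.norm_real, Real.norm_eq_abs, abs_le]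
    constructor <;> linarith
  have hK : (0 : ℝ) < Nat.card (K x L) := Nat.cast_pos.mpr Nat.card_pos
  have h1 : ∀ k : K x L, ‖μ k * ∑ χ : IrrCharacter G, Sm χ * conj ((χ : G → ℂ) (g * ((k : L) : G))) / (χ : G → ℂ) 1‖ ≤
      (∑ χ : IrrCharacter G, Sp χ * conj ((χ : G → ℂ) (g * ((k : L) : G))) / (χ : G → ℂ) 1).re := fun k => by
    have hμk : ‖μ k‖ = 1 := Complex.norm_eq_one_of_pow_eq_one (n := Nat.card (K x L))
      (by rw [← map_pow, pow_card_eq_one', map_one]) Nat.card_pos.ne'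
    rw [norm_mul, hμk, one_mul]
    exact hpt k
  have h2 := (norm_sum_le Finset.univ fun k : K x L =>
    μ k * ∑ χ : IrrCharacter G, Sm χ * conj ((χ : G → ℂ) (g * ((k : L) : G))) / (χ : G → ℂ) 1).trans
      (Finset.sum_le_sum fun k _ => h1 k)
  rw [htw Sm μ, norm_mul, Complex.norm_natCast, ← Complex.re_sum] at h2
  have h3 := htw Sp 1
  simp only [MonoidHom.one_apply, one_mul] at h3
  rw [h3, Complex.mul_re, Complex.natCast_re, Complex.natCast_im, zero_mul, sub_zero] at h2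
  exact le_of_mul_le_mul_left h2 hK

end Cfsg.Agent.FeitSmall

namespace Cfsg.Agent.FeitSmall

open Cfsg Cfsg.Agent.Blocks Cfsg.Agent.CyclicDefect

variable {G : Type*} [Group G] [Fintype G] {p : ℕ} [Fact p.Prime] {x : G} {L : Subgroup G} {e : ℕ}
variable (h : CCore p x L e 2)
include h

/-- The inequality for two classes: `S` is the non-exceptional part of the principal block. -/
theorem two_ineq {μ : K x L →* ℂ} (A : Fam h μ) (P : Fam h (1 : K x L →* ℂ)) {b : T h.hS} (hb : b ≠ 1)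
    (hT : ∀ c : T h.hS, c = 1 ∨ c = b) (hD : ‖((A.exc 1 : G → ℂ) x - (A.exc b : G → ℂ) x) ^ 2‖ = (p : ℝ))
    {S : Finset (IrrCharacter G)} (hS : S.card = e)
    (hmem : ∀ χ ∈ S, Cent (1 : K x L →* ℂ) (χ : G → ℂ) ∧ χ ∉ Set.range P.exc ∧
      ∃ u : (ZMod p)ˣ, N h χ (u : ZMod p) ≠ N h χ 0)
    {g : G} (hg : ¬ p ∣ orderOf g) :
    2 * (p : ℝ) * ‖(A.exc 1 : G → ℂ) g‖ / (charDegree (A.exc 1 : G → ℂ) : ℝ) ≤
      4 * ∑ χ ∈ S, ((χ : G → ℂ) g).re / (charDegree (χ : G → ℂ) : ℝ) +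
        2 * (((P.exc 1 : G → ℂ) g).re / (charDegree (P.exc 1 : G → ℂ) : ℝ)) := by
  classical
  have := Fintype.ofFinite (IrrCharacter G)
  set s : (ZMod p)ˣ := (b.out : (ZMod p)ˣ) with hs
  have hsb : (s : T h.hS) = b := Quotient.out_eq b
  set y := pw x (s : ZMod p)
  have hbb := other_mul_self h hb hT
  have hy : ∀ {ν : K x L →* ℂ} (C : Fam h ν), (C.exc 1 : G → ℂ) y = (C.exc b : G → ℂ) x ∧
      (C.exc b : G → ℂ) y = (C.exc 1 : G → ℂ) x := fun C => by
    constructor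
    · show (C.exc 1 : G → ℂ) (pw x (s : ZMod p)) = _
      rw [exc_shift h, hsb, mul_one]
    · show (C.exc b : G → ℂ) (pw x (s : ZMod p)) = _
      rw [exc_shift h, hsb, hbb]
  have hdeg : ∀ {ν : K x L →* ℂ} (C : Fam h ν), (C.exc b : G → ℂ) 1 = (C.exc 1 : G → ℂ) 1 := fun C =>
    C.reg b 1 1 (by simpa using (Fact.out : p.Prime).ne_one)
  have hraw := raw_ineq h μ y g
  -- the left side
  have hcst : ∀ {ν : K x L →* ℂ} (C : Fam h ν) (χ : IrrCharacter G), Cent ν (χ : G → ℂ) → χ ∉ Set.range C.exc →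
      ∃ δ : ℤ, (δ = 0 ∨ δ = 1 ∨ δ = -1) ∧ (∀ u : (ZMod p)ˣ, (N h χ (u : ZMod p) : ℤ) = N h χ 0 + δ) ∧
        (χ : G → ℂ) x = -(δ : ℂ) ∧ (χ : G → ℂ) y = -(δ : ℂ) := by
    intro ν C χ hc hn
    obtain ⟨δ, hδ, hrow, hv, -⟩ := exists_cst h C hc hn
    refine ⟨δ, hδ, hrow, ?_, hv _ s.ne_zero⟩
    have := hv 1 one_ne_zero
    rwa [h.hS.pw_one] at this
  have hL : ∑ χ ∈ Finset.univ.filter (fun χ : IrrCharacter G => cch h χ = μ),
      ((χ : G → ℂ) x - (χ : G → ℂ) y) ^ 2 * conj ((χ : G → ℂ) g) / (χ : G → ℂ) 1 =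
      2 * (((A.exc 1 : G → ℂ) x - (A.exc b : G → ℂ) x) ^ 2 * conj ((A.exc 1 : G → ℂ) g) / (A.exc 1 : G → ℂ) 1) := by
    rw [← Finset.sum_subset (s₁ := Finset.univ.image A.exc) (fun χ hχ => ?_) (fun χ hχ hn => ?_),
      Finset.sum_image fun a _ c _ e' => A.inj e', sum_classes h hb hT, (hy A).1, (hy A).2, A.reg b 1 g hg, hdeg A]
    · ring
    · obtain ⟨c, -, rfl⟩ := Finset.mem_image.mp hχ
      exact Finset.mem_filter.mpr ⟨Finset.mem_univ _, cch_unique h (A.cent c)⟩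
    · obtain ⟨δ, -, -, h1, h2⟩ := hcst A χ ((Finset.mem_filter.mp hχ).2 ▸ cch_spec h χ)
        (fun ⟨c, hc⟩ => hn (Finset.mem_image.mpr ⟨c, Finset.mem_univ _, hc⟩))
      rw [h1, h2, sub_self]
      simp
  -- the right side
  have hR : ∑ χ ∈ Finset.univ.filter (fun χ : IrrCharacter G => cch h χ = 1),
      ((χ : G → ℂ) x + (χ : G → ℂ) y) ^ 2 * conj ((χ : G → ℂ) g) / (χ : G → ℂ) 1 =
      4 * ∑ χ ∈ S, conj ((χ : G → ℂ) g) / (χ : G → ℂ) 1 +
        2 * (conj ((P.exc 1 : G → ℂ) g) / (P.exc 1 : G → ℂ) 1) := by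
    have hdis : Disjoint S (Finset.univ.image P.exc) := Finset.disjoint_left.mpr fun χ hχ hχ' => (hmem χ hχ).2.1 (by
      obtain ⟨c, -, rfl⟩ := Finset.mem_image.mp hχ'
      exact ⟨c, rfl⟩)
    rw [← Finset.sum_subset (s₁ := S ∪ Finset.univ.image P.exc) (fun χ hχ => ?_) (fun χ hχ hn => ?_),
      Finset.sum_union hdis, Finset.mul_sum]
    · congr 1
      · refine Finset.sum_congr rfl fun χ hχ => ?_
        obtain ⟨hc, hn, u, hu⟩ := hmem χ hχ
        obtain ⟨δ, hδ, hrow, h1, h2⟩ := hcst P χ hc hn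
        rw [h1, h2]
        rcases hδ with e' | e' | e' <;> rw [e']
        · exfalso
          refine hu ?_
          have := hrow u
          rw [e', add_zero] at this
          exact_mod_cast this
        · push_cast; ring
        · push_cast; ring
      · rw [Finset.sum_image fun a _ c _ e' => P.inj e', sum_classes h hb hT, (hy P).1, (hy P).2, P.reg b 1 g hg,
          hdeg P, add_comm ((P.exc b : G → ℂ) x), exc_add h P hb hT]
        rcases P.hε with e' | e' <;> rw [e'] <;> push_cast <;> ring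
    · refine Finset.mem_filter.mpr ⟨Finset.mem_univ _, ?_⟩
      rcases Finset.mem_union.mp hχ with hχ | hχ
      · exact cch_unique h (hmem χ hχ).1
      · obtain ⟨c, -, rfl⟩ := Finset.mem_image.mp hχ
        exact cch_unique h (P.cent c)
    · have hc : Cent (1 : K x L →* ℂ) (χ : G → ℂ) := (Finset.mem_filter.mp hχ).2 ▸ cch_spec h χ
      have hnr : χ ∉ Set.range P.exc := fun ⟨c, hc'⟩ =>
        hn (Finset.mem_union_right _ (Finset.mem_image.mpr ⟨c, Finset.mem_univ _, hc'⟩))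
      obtain ⟨δ, hδ, hrow, h1, h2⟩ := hcst P χ hc hnr
      have hflat : ∀ u : (ZMod p)ˣ, N h χ (u : ZMod p) = N h χ 0 := by
        by_contra hne
        push Not at hne
        exact hn (Finset.mem_union_left _ (block_eq h P hS hmem hc hnr hne))
      have hδ0 : δ = 0 := by
        have := hrow 1
        rw [hflat 1] at this
        omega
      rw [h1, h2, hδ0]
      simp
  rw [hL, hR] at hraw
  have hn1 : ∀ χ : IrrCharacter G, (conj ((χ : G → ℂ) g) / (χ : G → ℂ) 1).re =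
      ((χ : G → ℂ) g).re / (charDegree (χ : G → ℂ) : ℝ) := fun χ => by
    rw [← charDegree_cast, Complex.div_natCast_re, Complex.conj_re]
  refine le_trans (le_of_eq ?_) (hraw.trans (le_of_eq ?_))
  · rw [← charDegree_cast (A.exc 1), norm_mul, norm_div, norm_mul, hD, Complex.norm_conj, Complex.norm_natCast,
      Complex.norm_ofNat]
    ring
  · simp only [Complex.add_re, Complex.mul_re, Complex.re_ofNat, Complex.im_ofNat, zero_mul, sub_zero, Complex.re_sum, hn1]

end Cfsg.Agent.FeitSmall
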