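/-
Two classes and an even index: the block and the inequality (namespace `Cfsg.Agent.FeitSmall`).

Main results: `even_central`, `exc_real`, `exists_int_value`, `EvenCase`, `even_cases`.
-/
import Cfsg.Agent.Lib.FeitSmall.Inequality
import Cfsg.Agent.Lib.BSW.Values

set_option autoImplicit false
set_option linter.unusedSectionVars false
set_option linter.style.haveILetI false

open scoped ComplexConjugate

namespace Cfsg.Agent.FeitSmall

open Cfsg Cfsg.Agent.Blocks Cfsg.Agent.CyclicDefect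

variable {G : Type*} [Group G] [Fintype G] {p : ℕ} [Fact p.Prime] {x : G} {L : Subgroup G} {e : ℕ}
variable (h : CCore p x L e 2)
include h

/-- The central character is trivial. -/
theorem even_central (he : Even e) (he6 : 6 ≤ e) {μ : K x L →* ℂ} (A : Fam h μ) (hA : A.Minus h) {c0 : T h.hS}
    (hfaith : ∀ g : G, (A.exc c0 : G → ℂ) g = (A.exc c0 : G → ℂ) 1 → g = 1) : μ = 1 ∧ Subsingleton (K x L) := by
  classical
  have := Fintype.ofFinite (IrrCharacter G)
  have hpe := p_two h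
  obtain ⟨b, hb, hT⟩ := exists_other h
  obtain ⟨C⟩ := exists_fam h (μ * μ)
  set F : G → ℂ := fun g => (A.exc 1 : G → ℂ) g * (A.exc b : G → ℂ) g
  have hFc : IsCharacter G F := isCharacter_prod h A A 1 b
  have hFμ : Cent (μ * μ) F := cent_prod h A A 1 b
  have hpc : (p : ℂ) = 2 * e + 1 := by exact_mod_cast hpe
  have hF1 : F 1 = (((e + 1) * (e + 1) : ℕ) : ℂ) := by
    simp only [F, deg_minus h A hA, hpc]; push_cast; ring
  have hF0 : mu x F (0 : ZMod p) = ((1 : ℕ) : ℂ) := by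
    rw [show F = fun g => (A.exc 1 : G → ℂ) g * (A.exc b : G → ℂ) g from rfl, mu_prod_zero h A A hA hA,
      if_neg (by rw [negOne_eq_one h he, one_mul]; exact hb)]
    push_cast
    rw [hpc]; ring
  have hN := sum_N_eq h hFc hF0
  have hD := sum_deg_eq hFc hF1
  -- a constituent without fixed space
  obtain ⟨ψ, hψ, hψ0⟩ : ∃ ψ, cm F ψ ≠ 0 ∧ N h ψ 0 = 0 := by
    by_contra hcon
    push Not at hcon
    have hb' : ∀ ψ : IrrCharacter G, cm F ψ * charDegree (ψ : G → ℂ) ≤ (4 * e + 1) * (cm F ψ * N h ψ 0) := by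
      intro ψ
      by_cases h0 : cm F ψ = 0
      · simp [h0]
      have hN1 : 1 ≤ N h ψ 0 := Nat.one_le_iff_ne_zero.mpr (hcon ψ h0)
      rw [mul_left_comm]
      refine Nat.mul_le_mul_left _ ?_
      have hbound : (charDegree (ψ : G → ℂ) : ℤ) ≤ (p : ℤ) * N h ψ 0 + 2 * e := by
        by_cases hr : ψ ∈ Set.range C.exc
        · obtain ⟨c, rfl⟩ := hr
          have h1 := C.deg h c
          have h2 := C.row c 0
          rw [ind_zero h, mul_zero, add_zero] at h2
          rw [h1, h2]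
          rcases C.hε with e' | e' <;> rw [e'] <;> omega
        · obtain ⟨δ, hδ, -, -, hd, -⟩ := exists_cst h C (cent_of_cm h hFc hFμ h0) hr
          rw [hd]
          rcases hδ with e' | e' | e' <;> rw [e'] <;> omega
      have h3 : ((p * N h ψ 0 + 2 * e : ℕ) : ℤ) = (p : ℤ) * N h ψ 0 + 2 * e := by push_cast; ring
      have h4 : charDegree (ψ : G → ℂ) ≤ p * N h ψ 0 + 2 * e := by omega
      have h5 := Nat.mul_le_mul_left (2 * e) hN1
      rw [congrArg (· * N h ψ 0) hpe] at h4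
      linarith
    have h2 := Finset.sum_le_sum (s := Finset.univ) fun ψ _ => hb' ψ
    rw [← Finset.mul_sum, hN, hD] at h2
    nlinarith
  have hc := cent_of_cm h hFc hFμ hψ
  obtain ⟨n, hn, hdvd⟩ : ∃ n, charDegree (ψ : G → ℂ) = n ∧ n ∣ 2 * e := by
    refine ⟨_, rfl, ?_⟩
    have hpos := charDegree_pos ψ
    by_cases hr : ψ ∈ Set.range C.exc
    · obtain ⟨c, rfl⟩ := hr
      have h1 := C.deg h c
      have h2 := C.row c 0
      rw [ind_zero h, mul_zero, add_zero, hψ0] at h2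
      rw [← h2, Nat.cast_zero, mul_zero, zero_add] at h1
      rcases C.hε with e' | e' <;> rw [e'] at h1
      · rw [show charDegree (C.exc c : G → ℂ) = e by omega]; exact dvd_mul_left e 2
      · omega
    · obtain ⟨δ, hδ, -, -, hd, -⟩ := exists_cst h C hc hr
      rw [hψ0, Nat.cast_zero, mul_zero, zero_add] at hd
      rcases hδ with e' | e' | e' <;> rw [e'] at hd
      · omega
      · rw [show charDegree (ψ : G → ℂ) = 2 * e by omega]
      · omega
  have hroot : ∀ (χ : IrrCharacter G) (ν : K x L →* ℂ), Cent ν (χ : G → ℂ) → ∀ k : K x L,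
      ν k ^ charDegree (χ : G → ℂ) = 1 := by
    intro χ ν hν k
    obtain ⟨ω, -, hω, hω1⟩ := DegPMinusTwo.exists_scalar χ (h.hK k)
    have h1 := hω 1
    rw [mul_one, ← one_mul (((k : L) : G)), hν 1 k, mul_comm] at h1
    rw [mul_right_cancel₀ (irr_one_ne_zero χ) h1]
    exact hω1 h.hperf
  have hdA : charDegree (A.exc 1 : G → ℂ) = e + 1 := Nat.cast_injective (R := ℂ) (by
    rw [charDegree_cast, deg_minus h A hA, hpc]; push_cast; ring)
  have hμ : μ = 1 := MonoidHom.ext fun k => by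
    have h1 : μ k ^ (e + 1) = 1 := hdA ▸ hroot _ _ (A.cent 1) k
    have h2 : μ k ^ (4 * e) = 1 := by
      obtain ⟨q, hq⟩ := hdvd
      have h3 := hroot _ _ hc k
      rw [hn, MonoidHom.mul_apply, ← pow_two, ← pow_mul] at h3
      rw [show 4 * e = 2 * n * q by rw [mul_assoc, ← hq]; ring, pow_mul, h3, one_pow]
    have h4 : μ k ^ 4 = 1 := by
      have h5 : μ k ^ (4 * (e + 1)) = 1 := by rw [mul_comm, pow_mul, h1, one_pow]
      rwa [mul_add, pow_add, h2, one_mul, mul_one] at h5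
    obtain ⟨j, rfl⟩ := he
    have h6 : μ k ^ 2 = 1 ∨ μ k ^ 2 = -1 := by
      rw [← mul_self_eq_one_iff, ← pow_add]; exact h4
    have h7 : μ k ^ (2 * j) * μ k = 1 := by rw [← pow_succ, two_mul]; exact h1
    rcases h6 with h6 | h6
    · rw [pow_mul, h6, one_pow, one_mul] at h7
      exact h7
    · exfalso
      rw [pow_mul, h6] at h7
      have h8 : μ k = 1 ∨ μ k = -1 := by
        rcases neg_one_pow_eq_or ℂ j with e' | e' <;> rw [e'] at h7
        · left; rwa [one_mul] at h7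
        · right; linear_combination -h7
      rcases h8 with e' | e' <;> rw [e'] at h6 <;> norm_num at h6
  subst hμ
  refine ⟨rfl, ⟨fun a a' => ?_⟩⟩
  have hone : ∀ k : K x L, k = 1 := fun k => by
    have h1 := A.cent c0 1 k
    rw [one_mul, MonoidHom.one_apply, mul_one] at h1
    exact Subtype.ext (Subtype.ext (hfaith _ h1))
  rw [hone a, hone a']

theorem exc_real (he : Even e) (A : Fam h (1 : K x L →* ℂ)) (c : T h.hS) (g : G) :
    conj ((A.exc c : G → ℂ) g) = (A.exc c : G → ℂ) g := by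
  have hc : Cent (1 : K x L →* ℂ) (conjIrr (A.exc c) : G → ℂ) := fun g k => by
    rw [conjIrr_apply, conjIrr_apply, A.cent c g k, map_mul, MonoidHom.one_apply, map_one]
  have hrow : ∀ j : ZMod p, (N h (conjIrr (A.exc c)) j : ℤ) = (A.M : ℤ) + A.ε * ind h c j := fun j => by
    rw [N_conjIrr h, A.row, ind_neg h, negOne_eq_one h he, one_mul]
  have h1 := (mem_of_row h A hc A.hε hrow).1
  exact (congrFun (congrArg Subtype.val h1) g).symm

theorem exists_int_value (A : Fam h (1 : K x L →* ℂ)) {g : G} (hg : ¬ p ∣ orderOf g) :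
    ∃ a : ℤ, (A.exc 1 : G → ℂ) g = a := by
  refine BSW.exists_int_of_invariant (GaloisAvg.cycloValued_irr (A.exc 1)) g fun k hk => ?_
  have := (exists_pow_fam h A A hk (fun z => by rw [MonoidHom.one_apply, one_pow])).2.2 1 g hg
  exact this.symm

/-- The two possible shapes of the square. -/
inductive EvenCase (A : Fam h (1 : K x L →* ℂ)) (b : T h.hS) (a : G → ℤ) : Prop
  | steinberg (St : IrrCharacter G) (hdeg : charDegree (St : G → ℂ) = p)
      (hzero : ∀ i : ZMod p, i ≠ 0 → (St : G → ℂ) (pw x i) = 0)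
      (hcm : cm (fun g => (A.exc 1 : G → ℂ) g * (A.exc 1 : G → ℂ) g) St = 1)
      (hinner : classInner (fun g => (A.exc 1 : G → ℂ) g * (A.exc 1 : G → ℂ) g)
        (fun g => (A.exc 1 : G → ℂ) g * (A.exc 1 : G → ℂ) g) = (e : ℂ) / 2 + 2)
      (hineq : ∀ g : G, ¬ p ∣ orderOf g →
        (e : ℝ) * |(a g : ℝ)| ≤ e + (a g : ℝ) ^ 2 - ((St : G → ℂ) g).re)
  | mixed (Y X : IrrCharacter G) (hdY : charDegree (Y : G → ℂ) = 4 * e + 1)
      (hdX : charDegree (X : G → ℂ) = 4 * e + 3)
      (hcmY : cm (fun g => (A.exc 1 : G → ℂ) g * (A.exc b : G → ℂ) g) Y ≠ 0)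
      (hcmX : cm (fun g => (A.exc 1 : G → ℂ) g * (A.exc 1 : G → ℂ) g) X ≠ 0)
      (hinner : classInner (fun g => (A.exc 1 : G → ℂ) g * (A.exc 1 : G → ℂ) g)
        (fun g => (A.exc 1 : G → ℂ) g * (A.exc 1 : G → ℂ) g) = (e : ℂ) / 2 + 1)
      (hineq : ∀ g : G, ¬ p ∣ orderOf g → (e : ℝ) * |(a g : ℝ)| ≤ e + (a g : ℝ) ^ 2 -
        ((e + 1) * ((Y : G → ℂ) g).re / (4 * e + 1) + e * ((X : G → ℂ) g).re / (4 * e + 3)))

open scoped Classical in
/-- The facts on the square. -/
structure EvenData (A : Fam h (1 : K x L →* ℂ)) (b : T h.hS) (a : G → ℤ) : Prop where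
  hK : Subsingleton (K x L)
  hne : b ≠ 1
  hT : ∀ c : T h.hS, c = 1 ∨ c = b
  real : ∀ (c : T h.hS) (g : G), conj ((A.exc c : G → ℂ) g) = (A.exc c : G → ℂ) g
  val : ∀ g : G, ¬ p ∣ orderOf g → (A.exc 1 : G → ℂ) g = (a g : ℂ)
  f0 : mu x (fun g => (A.exc 1 : G → ℂ) g * (A.exc 1 : G → ℂ) g) (0 : ZMod p) = (e : ℂ) + 1
  fu : ∀ u : (ZMod p)ˣ, mu x (fun g => (A.exc 1 : G → ℂ) g * (A.exc 1 : G → ℂ) g) (u : ZMod p) =
    if (u : T h.hS) = 1 then (e : ℂ) / 2 else (e : ℂ) / 2 + 1
  fone : cm (fun g => (A.exc 1 : G → ℂ) g * (A.exc 1 : G → ℂ) g) (oneIrr G) = 1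
  cases : EvenCase h A b a

set_option maxHeartbeats 3000000 in
open scoped Classical in
theorem even_cases (he : Even e) (he6 : 6 ≤ e) (hK : Subsingleton (K x L)) (A : Fam h (1 : K x L →* ℂ))
    (hA : A.Minus h) : ∃ (b : T h.hS) (a : G → ℤ), EvenData h A b a := by
  have := Fintype.ofFinite (IrrCharacter G)
  have hpe := p_two h
  obtain ⟨j, hj⟩ := he.two_dvd
  obtain ⟨b, hb, hT⟩ := exists_other h
  have hbb := other_mul_self h hb hT
  have hneg := negOne_eq_one h he
  have hreal := exc_real h he A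
  obtain ⟨a, ha⟩ : ∃ a : G → ℤ, ∀ g : G, ¬ p ∣ orderOf g → (A.exc 1 : G → ℂ) g = (a g : ℂ) := by
    refine ⟨fun g => if hg : ¬ p ∣ orderOf g then (exists_int_value h A hg).choose else 0, fun g hg => ?_⟩
    simp only [dif_pos hg]
    exact (exists_int_value h A hg).choose_spec
  -- the line
  obtain ⟨ω, hω, hω1, hωv⟩ := exists_unique_line h A hA.m
  have hωω : ω * ω = 1 := MonoidHom.ext fun l => by
    show ω l * ω l = 1
    by_cases hl : l ∈ K x L
    · rw [show ω l = 1 from (hω ⟨l, hl⟩).trans (MonoidHom.one_apply _), one_mul]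
    · have h1 : ω l ^ Nat.card L = 1 := by rw [← map_pow, pow_card_eq_one', map_one]
      have h2 : conj (ω l) = ω l := by rw [← hωv 1 l hl, hreal]
      nth_rewrite 2 [← h2]
      rw [Complex.mul_conj', Complex.norm_eq_one_of_pow_eq_one h1 Nat.card_pos.ne']
      norm_num
  -- the shift
  obtain ⟨k, hk⟩ := exists_shift h A A A (one_mul (1 : K x L →* ℂ)).symm
  have hoff := shift_total h A A A hA hA hk 1 b
  have hdiag := shift_total h A A A hA hA hk 1 1
  rw [if_neg (by rw [hneg, one_mul]; exact hb), hA.eps] at hoff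
  rw [if_pos (by rw [hneg, one_mul]), hA.eps] at hdiag
  simp only [Nat.cast_ofNat] at hoff hdiag
  set F : G → ℂ := fun g => (A.exc 1 : G → ℂ) g * (A.exc b : G → ℂ) g with hFdef
  set f : G → ℂ := fun g => (A.exc 1 : G → ℂ) g * (A.exc 1 : G → ℂ) g with hfdef
  set f' : G → ℂ := fun g => (A.exc b : G → ℂ) g * (A.exc b : G → ℂ) g with hf'def
  have hFc : IsCharacter G F := isCharacter_prod h A A 1 b
  have hfc : IsCharacter G f := isCharacter_prod h A A 1 1
  have hf'c : IsCharacter G f' := isCharacter_prod h A A b b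
  have hFμ : Cent (1 : K x L →* ℂ) F := by
    have := cent_prod h A A 1 b; rwa [one_mul] at this
  have hfμ : Cent (1 : K x L →* ℂ) f := by
    have := cent_prod h A A 1 1; rwa [one_mul] at this
  have hψ1 : ∀ (ψ : L →* ℂ) (z : K x L), ψ (z : L) = 1 := fun ψ z => by
    rw [hK.elim z 1, OneMemClass.coe_one, map_one]
  have hboff := bound_line h A hFc (fun c => (hω1 c).ge)
  have hloff := lines_prod h A A hA hA hω hω hωv hωv 1 b (ψ := ω) (fun z => by simp [hψ1])
  rw [if_neg (by rw [hneg, one_mul]; exact hb)] at hloff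
  change (lines p x F ω : ℤ) = _ at hloff
  obtain ⟨hS1, hS2, hkj⟩ : ∑ γ, cm F (A.exc γ) = 0 ∧ ∑ γ, cm f (A.exc γ) = 1 ∧ k = -(j : ℤ) := by
    split_ifs at hloff <;> push_cast at hloff <;> refine ⟨?_, ?_, ?_⟩ <;> omega
  have hFA : ∀ γ, cm F (A.exc γ) = 0 := fun γ => Finset.sum_eq_zero_iff.mp hS1 γ (Finset.mem_univ _)
  have hnuF : ∀ γ : T h.hS, nu (U0 h.hS) 1 b γ = j := by
    intro γ
    have h1 := hk 1 b γ
    rw [hA.eps, hkj, show cm (fun g => (A.exc 1 : G → ℂ) g * (A.exc b : G → ℂ) g) (A.exc γ) = 0 from hFA γ] at h1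
    push_cast at h1
    omega
  have hnu11b : nu (U0 h.hS) 1 1 b = j := by
    rw [nu_rotate, hneg, one_mul]; exact hnuF 1
  have hnu111 : nu (U0 h.hS) 1 1 1 + 1 = j := by
    have h1 := sum_nu (U0 h.hS) (1 : T h.hS) 1
    rw [if_pos (by rw [hneg, one_mul]), sum_classes h hb hT, hnu11b, card_U0 h] at h1
    omega
  have hnubb1 : nu (U0 h.hS) b b 1 = j := by
    have h1 : nu (U0 h.hS) b 1 b = j := by rw [nu_comm]; exact hnuF b
    rw [nu_rotate, hneg, one_mul]; exact h1
  have hnubbb : nu (U0 h.hS) b b b + 1 = j := by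
    have h1 := sum_nu (U0 h.hS) b b
    rw [if_pos (by rw [hneg, one_mul]), sum_classes h hb hT, hnubb1, card_U0 h] at h1
    omega
  have hfA : cm f (A.exc 1) = 1 ∧ cm f (A.exc b) = 0 := by
    have h1 := hk 1 1 1
    have h2 := hk 1 1 b
    rw [hA.eps, hkj] at h1 h2
    rw [hnu11b] at h2
    change (cm f _ : ℤ) = _ at h1 h2
    constructor <;> omega
  have hpc : (p : ℂ) = 2 * e + 1 := by exact_mod_cast hpe
  have hec : (e : ℂ) = 2 * j := by exact_mod_cast hj
  have hd : ∀ c : T h.hS, (A.exc c : G → ℂ) 1 = ((e + 1 : ℕ) : ℂ) := fun c => by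
    rw [deg_minus h A hA, hpc]; push_cast; ring
  have hF1 : F 1 = (((e + 1) * (e + 1) : ℕ) : ℂ) := by simp only [hFdef, hd]; push_cast; ring
  have hf1 : f 1 = (((e + 1) * (e + 1) : ℕ) : ℂ) := by simp only [hfdef, hd]; push_cast; ring
  have hF0 : mu x F (0 : ZMod p) = ((1 : ℕ) : ℂ) := by
    rw [hFdef, mu_prod_zero h A A hA hA, if_neg (by rw [hneg, one_mul]; exact hb)]
    push_cast; rw [hpc]; ring
  have hf0 : mu x f (0 : ZMod p) = ((e + 1 : ℕ) : ℂ) := by
    rw [hfdef, mu_prod_zero h A A hA hA, if_pos (by rw [hneg, one_mul])]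
    push_cast; rw [hpc]; ring
  have hf'0 : mu x f' (0 : ZMod p) = ((e + 1 : ℕ) : ℂ) := by
    rw [hf'def, mu_prod_zero h A A hA hA, if_pos (by rw [hneg, one_mul])]
    push_cast; rw [hpc]; ring
  have hmu : ∀ (c d : T h.hS) (u : (ZMod p)ˣ), mu x (fun g => (A.exc c : G → ℂ) g * (A.exc d : G → ℂ) g) (u : ZMod p) =
      1 + (nu (U0 h.hS) c d (u : T h.hS) : ℂ) := fun c d u => by
    rw [mu_prod h, hA.eps, hA.m, nuAt_eq (U0 h.hS) ((unit_mem_cs (U0 h.hS)).mpr rfl)]
    push_cast; rw [hpc]; ring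
  have hfu : ∀ u : (ZMod p)ˣ, mu x f (u : ZMod p) = if (u : T h.hS) = 1 then (j : ℂ) else (j : ℂ) + 1 := fun u => by
    rw [hfdef, hmu]
    rcases hT (u : T h.hS) with e' | e' <;> rw [e']
    · rw [if_pos rfl, ← hnu111]; push_cast; ring
    · rw [if_neg hb, hnu11b]; ring
  have hf'u : ∀ u : (ZMod p)ˣ, mu x f' (u : ZMod p) = if (u : T h.hS) = 1 then (j : ℂ) + 1 else (j : ℂ) := fun u => by
    rw [hf'def, hmu]
    rcases hT (u : T h.hS) with e' | e' <;> rw [e']
    · rw [if_pos rfl, hnubb1]; ring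
    · rw [if_neg hb, ← hnubbb]; push_cast; ring
  -- the symmetry
  have hsymm : ∀ g : G, f g - (A.exc 1 : G → ℂ) g = f' g - (A.exc b : G → ℂ) g := by
    intro g
    have hc1 : IsClassFunction G (fun g => f g - (A.exc 1 : G → ℂ) g) := fun u v => by
      simp only [Char.IsCharacter.isClassFunction hfc u v, irr_class (A.exc 1) u v]
    have hc2 : IsClassFunction G (fun g => f' g - (A.exc b : G → ℂ) g) := fun u v => by
      simp only [Char.IsCharacter.isClassFunction hf'c u v, irr_class (A.exc b) u v]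
    have hcent : ∀ φ : G → ℂ, Cent (1 : K x L →* ℂ) φ := fun φ u z => by
      rw [hK.elim z 1]; simp
    refine congrFun (ext_of_mu h hc1 hc2 (hcent _) (hcent _) (fun g hg => ?_) fun j' => ?_) g
    · simp only [hfdef, hf'def, A.reg b 1 g hg]
    · have hsub : ∀ (φ ψ : G → ℂ), mu x (fun g => φ g - ψ g) j' = mu x φ j' - mu x ψ j' := fun φ ψ => by
        simp only [mu, mul_sub, Finset.sum_sub_distrib]
      rw [hsub, hsub, mu_exc h, mu_exc h, hA.eps, hA.m]
      by_cases hj' : j' = 0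
      · rw [hj', hf0, hf'0, ind_zero h, ind_zero h]
      · rw [← Units.val_mk0 hj', hfu, hf'u, ind_unit h, ind_unit h]
        rcases hT ((Units.mk0 j' hj' : (ZMod p)ˣ) : T h.hS) with e' | e' <;> rw [e']
        · rw [if_pos rfl, if_pos rfl, if_pos rfl, if_neg hb.symm]; push_cast; ring
        · rw [if_neg hb, if_neg hb, if_neg hb, if_pos rfl]; push_cast; ring
  -- the constituents of the square
  set one := oneIrr G with honedef
  have hone0 : N h one 0 = 1 := by rw [honedef, N_one h, if_pos rfl]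
  have honed : charDegree (one : G → ℂ) = 1 := by
    apply Nat.cast_injective (R := ℂ)
    rw [charDegree_cast, Nat.cast_one]; rfl
  have honeA : ∀ γ, one ≠ A.exc γ := fun γ e' => oneG_notMem h A ⟨γ, e'.symm⟩
  have hfone : cm f one = 1 := by
    apply Nat.cast_injective (R := ℂ)
    rw [← cm_spec hfc, Nat.cast_one, ← Char.classInner_irr_self (A.exc 1).2, classInner, classInner]
    congr 1
    refine Finset.sum_congr rfl fun g _ => ?_
    simp [hfdef, honedef, hreal]
  have hFone : cm F one = 0 := by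
    apply Nat.cast_injective (R := ℂ)
    rw [← cm_spec hFc, Nat.cast_zero,
      ← Char.classInner_irr_of_ne (A.exc 1).2 (A.exc b).2 (fun e' => hb (A.inj (Subtype.ext e')).symm),
      classInner, classInner]
    congr 1
    refine Finset.sum_congr rfl fun g _ => ?_
    simp [hFdef, honedef, hreal]
  have hA0 : ∀ γ, N h (A.exc γ) 0 = 1 ∧ charDegree (A.exc γ : G → ℂ) = e + 1 := fun γ => by
    refine ⟨?_, Nat.cast_injective (R := ℂ) (by rw [charDegree_cast, hd])⟩
    have := A.row γ 0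
    rw [ind_zero h, mul_zero, add_zero, hA.m] at this
    exact_mod_cast this
  have hmemE : A.exc 1 ∈ Finset.univ.erase one := Finset.mem_erase.mpr ⟨(honeA 1).symm, Finset.mem_univ _⟩
  set R := ((Finset.univ.erase one).erase (A.exc 1)).filter fun χ => cm f χ ≠ 0 with hR
  have hsplit : ∀ {M : Type} [AddCommMonoid M] (v : IrrCharacter G → M), (∀ χ, cm f χ = 0 → v χ = 0) →
      ∑ χ : IrrCharacter G, v χ = v one + (v (A.exc 1) + ∑ χ ∈ R, v χ) := by
    intro M _ v hv
    rw [← Finset.add_sum_erase _ _ (Finset.mem_univ one), ← Finset.add_sum_erase _ _ hmemE, hR,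
      Finset.sum_filter_of_ne (p := fun χ => cm f χ ≠ 0) fun χ _ hne h0 => hne (hv χ h0)]
  have hmem : ∀ χ ∈ R, ∃ δ : ℤ, (δ = 0 ∨ δ = 1 ∨ δ = -1) ∧ (∀ u : (ZMod p)ˣ, (N h χ (u : ZMod p) : ℤ) = N h χ 0 + δ) ∧
      (∀ i : ZMod p, i ≠ 0 → (χ : G → ℂ) (pw x i) = -(δ : ℂ)) ∧
      (charDegree (χ : G → ℂ) : ℤ) = (p : ℤ) * N h χ 0 + δ * (2 * e) ∧ (δ = -1 → 2 ≤ N h χ 0) ∧
      (δ = 0 → 1 ≤ N h χ 0) ∧ Cent (1 : K x L →* ℂ) (χ : G → ℂ) ∧ χ ∉ Set.range A.exc ∧
      (∀ ψ : L →* ℂ, cm f χ * lines p x (χ : G → ℂ) ψ ≤ 1) := by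
    intro χ hχ
    obtain ⟨hχ1, hne⟩ := Finset.mem_filter.mp hχ
    obtain ⟨hχA, hχ2⟩ := Finset.mem_erase.mp hχ1
    have hc := cent_of_cm h hfc hfμ hne
    have hn : χ ∉ Set.range A.exc := by
      rintro ⟨c, rfl⟩
      rcases hT c with rfl | rfl
      · exact hχA rfl
      · exact hne hfA.2
    obtain ⟨δ, hδ, hrow, hv, hdeg, hminus⟩ := exists_cst h A hc hn
    refine ⟨δ, hδ, hrow, hv, hdeg, fun e' => hminus e' (Finset.ne_of_mem_erase hχ2), fun e' => ?_, hc, hn, fun ψ => ?_⟩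
    · have := charDegree_pos χ
      rcases Nat.eq_zero_or_pos (N h χ 0) with h0 | h0
      · rw [e', h0] at hdeg; simp at hdeg; omega
      · omega
    · have hl := lines_prod h A A hA hA hω hω hωv hωv 1 1 (ψ := ψ) (fun z => by simp [hψ1])
      rw [if_pos (by rw [hneg, one_mul]), hωω] at hl
      change (lines p x f ψ : ℤ) = _ at hl
      have h2 := lines_eq_sum h hfc ψ
      rw [← Finset.add_sum_erase _ _ (Finset.mem_univ one), hfone, one_mul] at h2
      have h3 := Finset.single_le_sum (f := fun φ => cm f φ * lines p x (φ : G → ℂ) ψ) (fun _ _ => Nat.zero_le _) hχ2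
      by_cases h1 : (1 : L →* ℂ) = ψ
      · rw [if_pos h1] at hl
        rw [← h1, show lines p x (one : G → ℂ) (1 : L →* ℂ) = 1 from lines_one h] at h2
        rw [← h1] at hl h3 ⊢
        push_cast at hl
        omega
      · rw [if_neg h1] at hl
        push_cast at hl
        omega
  choose! δ hδ hrow hval hdeg hminus hflat hcent hrange hline using hmem
  have hRN : ∑ χ ∈ R, (cm f χ : ℤ) * N h χ 0 = (e : ℤ) - 1 := by
    have h1 := sum_N_eq h hfc hf0
    rw [hsplit (fun χ => cm f χ * N h χ 0) (fun χ h0 => by rw [h0, zero_mul]), hfone, hone0, hfA.1, (hA0 1).1] at h1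
    have h2 : ((∑ χ ∈ R, cm f χ * N h χ 0 : ℕ) : ℤ) = (e : ℤ) - 1 := by omega
    push_cast at h2
    exact h2
  have hRδ : ∑ χ ∈ R, (cm f χ : ℤ) * δ χ = 1 - (j : ℤ) := by
    have h1 := sum_deg_eq hfc hf1
    rw [hsplit (fun χ => cm f χ * charDegree (χ : G → ℂ)) (fun χ h0 => by rw [h0, zero_mul]), hfone, honed, hfA.1,
      (hA0 1).2] at h1
    have h2 := congrArg (Nat.cast (R := ℤ)) h1
    push_cast at h2
    rw [Finset.sum_congr rfl (g := fun χ => (p : ℤ) * ((cm f χ : ℤ) * N h χ 0) + (2 * e) * ((cm f χ : ℤ) * δ χ))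
      fun χ hχ => by rw [hdeg χ hχ]; ring, Finset.sum_add_distrib, ← Finset.mul_sum, ← Finset.mul_sum, hRN] at h2
    set T2 := ∑ χ ∈ R, (cm f χ : ℤ) * δ χ
    refine mul_left_cancel₀ (show (2 * (e : ℤ)) ≠ 0 by omega) ?_
    have hpz : (p : ℤ) = 2 * e + 1 := by exact_mod_cast hpe
    have hez : (e : ℤ) = 2 * j := by exact_mod_cast hj
    rw [hpz, hez] at h2
    rw [hez]
    linarith
  set α : IrrCharacter G → ℤ := fun χ => if δ χ = -1 then 1 else 0 with hα
  have hαN : ∀ χ ∈ R, 2 * α χ ≤ (N h χ 0 : ℤ) := fun χ hχ => by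
    simp only [hα]; split_ifs with e'
    · have := hminus χ hχ e'; omega
    · omega
  have hαδ : ∀ χ ∈ R, 0 ≤ (cm f χ : ℤ) * (α χ + δ χ) := fun χ hχ => mul_nonneg (Int.natCast_nonneg _) (by
    simp only [hα]; rcases hδ χ hχ with e' | e' | e' <;> rw [e'] <;> norm_num)
  have hαs : ∑ χ ∈ R, (cm f χ : ℤ) * α χ = (j : ℤ) - 1 := by
    have h1 : 2 * ∑ χ ∈ R, (cm f χ : ℤ) * α χ ≤ ∑ χ ∈ R, (cm f χ : ℤ) * N h χ 0 := by
      rw [Finset.mul_sum]
      exact Finset.sum_le_sum fun χ hχ => by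
        rw [mul_left_comm]; exact mul_le_mul_of_nonneg_left (hαN χ hχ) (Int.natCast_nonneg _)
    have h2 := Finset.sum_nonneg hαδ
    simp only [mul_add, Finset.sum_add_distrib, hRδ] at h2
    omega
  have hδ01 : ∀ χ ∈ R, (δ χ = -1 ∨ δ χ = 0) ∧ cm f χ = 1 := by
    intro χ hχ
    have h0 : ∑ φ ∈ R, (cm f φ : ℤ) * (α φ + δ φ) = 0 := by
      simp only [mul_add, Finset.sum_add_distrib, hαs, hRδ]; ring
    have hne := (Finset.mem_filter.mp hχ).2
    have hd1 : δ χ = -1 ∨ δ χ = 0 := by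
      rcases mul_eq_zero.mp ((Finset.sum_eq_zero_iff_of_nonneg hαδ).mp h0 χ hχ) with e' | e'
      · exact absurd (by exact_mod_cast e') hne
      · simp only [hα] at e'; split_ifs at e' with e'' <;> omega
    have hN1 : N h χ 0 ≠ 0 := by
      rcases hd1 with e' | e'
      · have := hminus χ hχ e'; omega
      · have := hflat χ hχ e'; omega
    refine ⟨hd1, ?_⟩
    obtain ⟨ψ, hψ⟩ := exists_line_of_pos h (hcent χ hχ) hN1
    exact le_antisymm ((Nat.le_mul_of_pos_right _ (Nat.pos_of_ne_zero hψ)).trans (hline χ hχ ψ))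
      (Nat.pos_of_ne_zero hne)
  have hex : ∑ χ ∈ R, ((N h χ 0 : ℤ) - 2 * α χ) = 1 := by
    rw [Finset.sum_congr rfl (g := fun χ => (cm f χ : ℤ) * N h χ 0 - 2 * ((cm f χ : ℤ) * α χ)) fun χ hχ => by
      rw [(hδ01 χ hχ).2]; push_cast; ring, Finset.sum_sub_distrib, ← Finset.mul_sum, hRN, hαs, hj]
    push_cast; ring
  have hexnn : ∀ χ ∈ R, 0 ≤ (N h χ 0 : ℤ) - 2 * α χ := fun χ hχ => by linarith [hαN χ hχ]
  obtain ⟨X, hX, hX0⟩ := Finset.exists_ne_zero_of_sum_ne_zero (hex.trans_ne one_ne_zero)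
  have hXsum := Finset.add_sum_erase R (fun χ => (N h χ 0 : ℤ) - 2 * α χ) hX
  rw [hex] at hXsum
  have hRnn : 0 ≤ ∑ χ ∈ R.erase X, ((N h χ 0 : ℤ) - 2 * α χ) :=
    Finset.sum_nonneg fun χ hχ => hexnn χ (Finset.mem_of_mem_erase hχ)
  have hX1 : (N h X 0 : ℤ) - 2 * α X = 1 := by have := hexnn X hX; omega
  have hP : ∀ χ ∈ R.erase X, δ χ = -1 ∧ N h χ 0 = 2 ∧ charDegree (χ : G → ℂ) = 2 * e + 2 := fun χ hχ => by
    have hm := Finset.mem_of_mem_erase hχ
    have h1 := (Finset.sum_eq_zero_iff_of_nonneg fun φ hφ => hexnn φ (Finset.mem_of_mem_erase hφ)).mp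
      (show ∑ φ ∈ R.erase X, ((N h φ 0 : ℤ) - 2 * α φ) = 0 by omega) χ hχ
    simp only [hα] at h1
    rcases (hδ01 χ hm).1 with e' | e'
    · rw [if_pos e'] at h1
      have h3 := hdeg χ hm
      rw [e', show N h χ 0 = 2 by omega] at h3
      refine ⟨e', by omega, ?_⟩
      push_cast at h3
      omega
    · rw [if_neg (by omega)] at h1
      have := hflat χ hm e'
      omega
  have hRcard : (R.card : ℤ) = (j : ℤ) - α X := by
    have h1 : ∑ χ ∈ R, (α χ) = (j : ℤ) - 1 := by
      rw [← hαs]; exact Finset.sum_congr rfl fun χ hχ => by rw [(hδ01 χ hχ).2]; push_cast; ring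
    have h3 : ∀ χ ∈ R.erase X, α χ = 1 := fun χ hχ => by
      simp only [hα]; rw [if_pos (hP χ hχ).1]
    rw [← Finset.add_sum_erase R _ hX, Finset.sum_congr rfl h3, Finset.sum_const, nsmul_eq_mul, mul_one] at h1
    have h2 := Finset.card_erase_add_one hX
    have h4 : (((R.erase X).card + 1 : ℕ) : ℤ) = (R.card : ℤ) := by rw [h2]
    push_cast at h4
    linarith
  -- the constituents of the mixed product
  set SF := Finset.univ.filter fun χ => cm F χ ≠ 0 with hSF
  have hFN := sum_N_eq h hFc hF0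
  obtain ⟨Y, -, hY0⟩ := Finset.exists_ne_zero_of_sum_ne_zero (hFN.trans_ne one_ne_zero)
  have hYcm : cm F Y ≠ 0 := fun h0 => hY0 (by rw [h0, zero_mul])
  have hYSF : Y ∈ SF := Finset.mem_filter.mpr ⟨Finset.mem_univ _, hYcm⟩
  rw [← Finset.add_sum_erase _ _ (Finset.mem_univ Y)] at hFN
  have hY1 : cm F Y * N h Y 0 = 1 := by omega
  have hYone : cm F Y = 1 := Nat.eq_one_of_mul_eq_one_right hY1
  have hYN : N h Y 0 = 1 := Nat.eq_one_of_mul_eq_one_left hY1
  have hcF : ∀ χ ∈ SF, Cent (1 : K x L →* ℂ) (χ : G → ℂ) ∧ χ ∉ Set.range A.exc ∧ χ ≠ one := fun χ hχ => by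
    have hne := (Finset.mem_filter.mp hχ).2
    exact ⟨cent_of_cm h hFc hFμ hne, fun ⟨c, hc⟩ => hne (hc ▸ hFA c), fun e' => hne (e' ▸ hFone)⟩
  have hQ : ∀ χ ∈ SF.erase Y, N h χ 0 = 0 ∧ charDegree (χ : G → ℂ) = 2 * e ∧
      ∃ u : (ZMod p)ˣ, N h χ (u : ZMod p) ≠ N h χ 0 := by
    intro χ hχ
    obtain ⟨hχY, hm⟩ := Finset.mem_erase.mp hχ
    have hN : N h χ 0 = 0 := (Nat.mul_eq_zero.mp (Finset.sum_eq_zero_iff.mp
      (show ∑ φ ∈ Finset.univ.erase Y, cm F φ * N h φ 0 = 0 by omega) χ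
        (Finset.mem_erase.mpr ⟨hχY, Finset.mem_univ _⟩))).resolve_left (Finset.mem_filter.mp hm).2
    obtain ⟨d', hd', hrow', -, hdeg', -⟩ := exists_cst h A (hcF χ hm).1 (hcF χ hm).2.1
    rw [hN, Nat.cast_zero, mul_zero, zero_add] at hdeg'
    have hpos := charDegree_pos χ
    have hδ1 : d' = 1 := by
      rcases hd' with e' | e' | e' <;> rw [e'] at hdeg' <;> omega
    refine ⟨hN, by rw [hδ1] at hdeg'; omega, 1, fun e' => ?_⟩
    have := hrow' 1
    rw [e', hδ1] at this
    omega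
  obtain ⟨dY, hdY, hrowY, hvY, hdegY, hminY⟩ := exists_cst h A (hcF Y hYSF).1 (hcF Y hYSF).2.1
  rw [hYN] at hdegY
  -- flat constituents agree
  have htrans : ∀ χ : IrrCharacter G, (∀ i : ZMod p, i ≠ 0 → (χ : G → ℂ) (pw x i) = 0) → cm F χ = cm f χ := by
    intro χ hχ
    apply Nat.cast_injective (R := ℂ)
    rw [← cm_spec hFc, ← cm_spec hfc, classInner, classInner]
    congr 1
    refine Finset.sum_congr rfl fun g _ => ?_
    by_cases hg : p ∣ orderOf g
    · rw [show (χ : G → ℂ) g = 0 from ext_of_singular h.hS (irr_class χ) (f' := 0) (fun _ _ => rfl)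
        (fun i hi z => by rw [hK.elim z 1]; simpa using hχ i hi) hg, map_zero, mul_zero, mul_zero]
    · simp only [hFdef, hfdef, A.reg b 1 g hg]
  have hinner : classInner f f = ((2 + R.card : ℕ) : ℂ) := by
    rw [inner_self_eq hfc, hsplit (fun χ => cm f χ * cm f χ) (fun χ h0 => by rw [h0, zero_mul]), hfone, hfA.1,
      Finset.sum_congr rfl (g := fun _ => 1) fun χ hχ => by rw [(hδ01 χ hχ).2], ← Finset.card_eq_sum_ones]
    congr 1
    ring
  have hsq : ∑ χ ∈ SF.erase Y, cm F χ * cm F χ = R.card := by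
    have hFF : classInner F F = classInner f f - ((cm f (A.exc 1) : ℕ) : ℂ) + ((cm f (A.exc b) : ℕ) : ℂ) := by
      rw [← cm_spec hfc, ← cm_spec hfc, classInner, classInner, classInner, classInner, ← mul_sub, ← mul_add,
        ← Finset.sum_sub_distrib, ← Finset.sum_add_distrib]
      congr 1
      refine Finset.sum_congr rfl fun g _ => ?_
      have h1 : conj (f g) = f g := by simp only [hfdef, map_mul, hreal]
      have h2 := hsymm g
      simp only [hfdef, hf'def] at h2
      simp only [hFdef, hfdef, map_mul, hreal]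
      linear_combination -((A.exc 1 : G → ℂ) g * (A.exc 1 : G → ℂ) g) * h2
    rw [hfA.1, hfA.2, hinner, inner_self_eq hFc,
      ← Finset.sum_filter_of_ne (p := fun χ => cm F χ ≠ 0) (fun χ _ hne h0 => hne (by rw [h0, zero_mul])), ← hSF,
      ← Finset.add_sum_erase SF _ hYSF, hYone] at hFF
    push_cast at hFF
    have h3 : ((∑ χ ∈ SF.erase Y, cm F χ * cm F χ : ℕ) : ℂ) = (R.card : ℂ) := by push_cast; linear_combination hFF
    exact_mod_cast h3
  have hT1 : (∑ χ ∈ SF.erase Y, cm F χ : ℕ) + dY = (j : ℤ) := by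
    have h1 := sum_deg_eq hFc hF1
    rw [← Finset.sum_filter_of_ne (p := fun χ => cm F χ ≠ 0) (fun χ _ hne h0 => hne (by rw [h0, zero_mul])), ← hSF,
      ← Finset.add_sum_erase SF _ hYSF, hYone, one_mul,
      Finset.sum_congr rfl (g := fun χ => cm F χ * (2 * e)) fun χ hχ => by rw [(hQ χ hχ).2.1], ← Finset.sum_mul] at h1
    have h2 := congrArg (Nat.cast (R := ℤ)) h1
    push_cast at h2
    rw [hdegY] at h2
    push_cast at h2 ⊢
    refine mul_left_cancel₀ (show (2 * (e : ℤ)) ≠ 0 by omega) ?_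
    have hpz : (p : ℤ) = 2 * e + 1 := by exact_mod_cast hpe
    have hez : (e : ℤ) = 2 * j := by exact_mod_cast hj
    rw [hpz, hez] at h2
    rw [hez]
    linarith
  -- matching the two
  have hmatch : (δ X = 0 ∧ Y = X ∧ dY = 0) ∨ (δ X = -1 ∧ dY = 1) := by
    rcases (hδ01 X hX).1 with e' | e'
    · right
      refine ⟨e', ?_⟩
      rcases hdY with e'' | e'' | e''
      · exfalso
        have h0 : ∀ i : ZMod p, i ≠ 0 → (Y : G → ℂ) (pw x i) = 0 := fun i hi => by rw [hvY i hi, e'']; simp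
        have hY' : Y ∈ R := Finset.mem_filter.mpr ⟨Finset.mem_erase.mpr ⟨fun e₃ => (hcF Y hYSF).2.1 ⟨1, e₃.symm⟩,
          Finset.mem_erase.mpr ⟨(hcF Y hYSF).2.2, Finset.mem_univ _⟩⟩, by rw [← htrans Y h0]; exact hYcm⟩
        have h1 : δ Y = -1 := by
          by_cases hYX : Y = X
          · rw [hYX]; exact e'
          · exact (hP Y (Finset.mem_erase.mpr ⟨hYX, hY'⟩)).1
        have := hminus Y hY' h1
        omega
      · exact e''
      · have := hminY e'' (hcF Y hYSF).2.2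
        omega
    · left
      refine ⟨e', ?_⟩
      have h0 : ∀ i : ZMod p, i ≠ 0 → (X : G → ℂ) (pw x i) = 0 := fun i hi => by rw [hval X hX i hi, e']; simp
      have hXF : X ∈ SF := Finset.mem_filter.mpr ⟨Finset.mem_univ _, by
        rw [htrans X h0]; exact (Finset.mem_filter.mp hX).2⟩
      have hXY : Y = X := by
        by_contra hne
        have := (hQ X (Finset.mem_erase.mpr ⟨Ne.symm hne, hXF⟩)).1
        have := hflat X hX e'
        omega
      refine ⟨hXY, ?_⟩
      have h1 := hrowY 1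
      have h2 := hrow X hX 1
      rw [hXY] at h1
      rw [e'] at h2
      omega
  have hQ1 : ∀ χ ∈ SF.erase Y, cm F χ = 1 := by
    have hle : ∀ φ ∈ SF.erase Y, cm F φ ≤ cm F φ * cm F φ := fun φ _ => Nat.le_mul_self _
    have heq : ∑ φ ∈ SF.erase Y, cm F φ = ∑ φ ∈ SF.erase Y, cm F φ * cm F φ := by
      rcases hmatch with ⟨e', -, e''⟩ | ⟨e', e''⟩ <;> simp only [hα, e'] at hRcard <;> norm_num at hRcard <;> omega
    intro χ hχ
    exact (Nat.mul_eq_left (Finset.mem_filter.mp (Finset.mem_of_mem_erase hχ)).2).mp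
      ((Finset.sum_eq_sum_iff_of_le hle).mp heq χ hχ).symm
  have hQcard : (SF.erase Y).card = ∑ χ ∈ SF.erase Y, cm F χ := by
    rw [Finset.card_eq_sum_ones]; exact Finset.sum_congr rfl fun χ hχ => (hQ1 χ hχ).symm
  -- the block
  have hD : ‖((A.exc 1 : G → ℂ) x - (A.exc b : G → ℂ) x) ^ 2‖ = (p : ℝ) := by
    have h1 := exc_add h A hb hT
    rw [hA.eps] at h1
    have hsum : f x + f' x = ((e + 1 : ℕ) : ℂ) := by
      have hu : ∀ u : (ZMod p)ˣ, mu x (fun g => f g + f' g) (u : ZMod p) = ((e + 1 : ℕ) : ℂ) := fun u => by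
        rw [show mu x (fun g => f g + f' g) (u : ZMod p) = mu x f (u : ZMod p) + mu x f' (u : ZMod p) by
          simp only [mu, mul_add, Finset.sum_add_distrib], hfu, hf'u,
          show ((e + 1 : ℕ) : ℂ) = 2 * j + 1 by push_cast; rw [hec]]
        split_ifs <;> ring
      have h2 := apply_of_const h hu (one_ne_zero : (1 : ZMod p) ≠ 0)
      rw [h.hS.pw_one, show mu x (fun g => f g + f' g) (0 : ZMod p) = mu x f (0 : ZMod p) + mu x f' (0 : ZMod p) by
        simp only [mu, mul_add, Finset.sum_add_distrib], hf0, hf'0] at h2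
      linear_combination h2
    rw [norm_diff (d := e + 1) (by rw [h1]; norm_num) (by rw [hreal, hreal]; exact hsum),
      show (p : ℝ) = 2 * e + 1 from by exact_mod_cast hpe]
    push_cast; ring
  have hsF : ∀ g : G, ¬ p ∣ orderOf g →
      ∑ χ ∈ SF.erase Y, ((χ : G → ℂ) g).re = (a g : ℝ) ^ 2 - ((Y : G → ℂ) g).re := by
    intro g hg
    have h1 := apply_eq_sum_cm hFc g
    rw [← Finset.sum_filter_of_ne (p := fun χ => cm F χ ≠ 0) (fun χ _ hne h0 => hne (by rw [h0, Nat.cast_zero, zero_mul])),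
      ← hSF, ← Finset.add_sum_erase SF _ hYSF, hYone, Nat.cast_one, one_mul,
      Finset.sum_congr (s₁ := SF.erase Y) rfl (g := fun χ => (χ : G → ℂ) g) fun χ hχ => by rw [hQ1 χ hχ, Nat.cast_one, one_mul],
      show F g = (((a g : ℝ) ^ 2 : ℝ) : ℂ) by simp only [hFdef, A.reg b 1 g hg, ha g hg]; push_cast; ring] at h1
    have h2 := congrArg Complex.re h1
    simp only [Complex.ofReal_re, Complex.add_re, Complex.re_sum] at h2
    linarith
  have hsR : ∀ g : G, ¬ p ∣ orderOf g →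
      ∑ χ ∈ R.erase X, ((χ : G → ℂ) g).re = (a g : ℝ) ^ 2 - 1 - (a g : ℝ) - ((X : G → ℂ) g).re := by
    intro g hg
    have h1 := apply_eq_sum_cm hfc g
    rw [hsplit (fun χ => (cm f χ : ℂ) * (χ : G → ℂ) g) (fun χ h0 => by rw [h0, Nat.cast_zero, zero_mul]), hfone, hfA.1,
      Finset.sum_congr (s₁ := R) rfl (g := fun χ => (χ : G → ℂ) g) fun χ hχ => by rw [(hδ01 χ hχ).2, Nat.cast_one, one_mul],
      ← Finset.add_sum_erase R _ hX, Nat.cast_one, one_mul, one_mul,
      show f g = (((a g : ℝ) ^ 2 : ℝ) : ℂ) by simp only [hfdef, ha g hg]; push_cast; ring,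
      show ((one : IrrCharacter G) : G → ℂ) g = 1 from rfl, ha g hg] at h1
    have h2 := congrArg Complex.re h1
    simp only [Complex.ofReal_re, Complex.add_re, Complex.re_sum, Complex.one_re, Complex.intCast_re] at h2
    linarith
  have hdis : Disjoint (SF.erase Y) (R.erase X) := Finset.disjoint_left.mpr fun χ hχ hχ' => by
    have := (hQ χ hχ).1
    have := (hP χ hχ').2.1
    omega
  have hnot : one ∉ SF.erase Y ∪ R.erase X := fun hm => by
    rcases Finset.mem_union.mp hm with hm | hm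
    · have := (hQ _ hm).1; omega
    · have := (hP _ hm).2.1; omega
  have hone' : Cent (1 : K x L →* ℂ) (one : G → ℂ) ∧ one ∉ Set.range A.exc ∧
      ∃ u : (ZMod p)ˣ, N h one (u : ZMod p) ≠ N h one 0 := by
    refine ⟨fun g z => by simp [honedef], oneG_notMem h A, 1, ?_⟩
    rw [honedef, N_one h, N_one h, if_pos rfl, if_neg (Units.ne_zero _)]
    exact zero_ne_one
  have hbase : ∀ χ ∈ insert one (SF.erase Y ∪ R.erase X), Cent (1 : K x L →* ℂ) (χ : G → ℂ) ∧ χ ∉ Set.range A.exc ∧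
      ∃ u : (ZMod p)ˣ, N h χ (u : ZMod p) ≠ N h χ 0 := by
    intro χ hχ
    rcases Finset.mem_insert.mp hχ with rfl | hχ
    · exact hone'
    rcases Finset.mem_union.mp hχ with hχ | hχ
    · exact ⟨(hcF χ (Finset.mem_of_mem_erase hχ)).1, (hcF χ (Finset.mem_of_mem_erase hχ)).2.1, (hQ χ hχ).2.2⟩
    · have hm := Finset.mem_of_mem_erase hχ
      refine ⟨hcent χ hm, hrange χ hm, 1, fun e' => ?_⟩
      have := hrow χ hm 1
      rw [e', (hP χ hχ).1] at this
      omega
  have hRerase : (R.erase X).card + 1 = R.card := Finset.card_erase_add_one hX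
  have hineq : ∀ {S : Finset (IrrCharacter G)}, S.card = e →
      (∀ χ ∈ S, Cent (1 : K x L →* ℂ) (χ : G → ℂ) ∧ χ ∉ Set.range A.exc ∧
        ∃ u : (ZMod p)ˣ, N h χ (u : ZMod p) ≠ N h χ 0) → ∀ g : G, ¬ p ∣ orderOf g →
      2 * (p : ℝ) * |(a g : ℝ)| / (e + 1) ≤
        4 * ∑ χ ∈ S, ((χ : G → ℂ) g).re / (charDegree (χ : G → ℂ) : ℝ) + 2 * ((a g : ℝ) / (e + 1)) := by
    intro S hS hSm g hg
    have h1 := two_ineq h A A hb hT hD hS hSm hg
    rw [ha g hg, Complex.norm_intCast, Complex.intCast_re, (hA0 1).2] at h1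
    push_cast at h1
    exact h1
  have hbsum : ∀ g : G, ¬ p ∣ orderOf g →
      ∑ χ ∈ insert one (SF.erase Y ∪ R.erase X), ((χ : G → ℂ) g).re / (charDegree (χ : G → ℂ) : ℝ) =
        1 + ((a g : ℝ) ^ 2 - ((Y : G → ℂ) g).re) / (2 * e) +
          ((a g : ℝ) ^ 2 - 1 - (a g : ℝ) - ((X : G → ℂ) g).re) / (2 * e + 2) := by
    intro g hg
    rw [Finset.sum_insert hnot, Finset.sum_union hdis,
      Finset.sum_congr (s₁ := SF.erase Y) rfl (g := fun χ => ((χ : G → ℂ) g).re / (2 * (e : ℝ)))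
        fun χ hχ => by rw [(hQ χ hχ).2.1]; push_cast; rfl,
      Finset.sum_congr (s₁ := R.erase X) rfl (g := fun χ => ((χ : G → ℂ) g).re / (2 * (e : ℝ) + 2))
        fun χ hχ => by rw [(hP χ hχ).2.2]; push_cast; rfl,
      ← Finset.sum_div, ← Finset.sum_div, hsF g hg, hsR g hg, honed,
      show ((one : IrrCharacter G) : G → ℂ) g = 1 from rfl, Complex.one_re]
    push_cast
    ring
  have hepos : (0 : ℝ) < e := by exact_mod_cast (show 0 < e by omega)
  have hpr : (p : ℝ) = 2 * e + 1 := by exact_mod_cast hpe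
  refine ⟨b, a, ⟨hK, hb, hT, hreal, ha, by rw [hf0]; push_cast; ring, fun u => ?_, hfone, ?_⟩⟩
  · rw [hfu, hec]
    split_ifs <;> ring
  rcases hmatch with ⟨e', hXY, e''⟩ | ⟨e', e''⟩
  · have hXN : N h X 0 = 1 := hXY ▸ hYN
    have hdX : charDegree (X : G → ℂ) = p := by
      have h1 := hdeg X hX
      rw [e', hXN] at h1
      push_cast at h1
      omega
    have hScard : (insert one (SF.erase Y ∪ R.erase X)).card = e := by
      simp only [hα] at hRcard
      rw [e', if_neg (by norm_num)] at hRcard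
      rw [Finset.card_insert_of_notMem hnot, Finset.card_union_of_disjoint hdis, hQcard]
      omega
    refine EvenCase.steinberg X hdX (fun i hi => by rw [hval X hX i hi, e']; simp) (hδ01 X hX).2 ?_ fun g hg => ?_
    · rw [hinner]
      simp only [hα] at hRcard
      rw [e', if_neg (by norm_num), sub_zero] at hRcard
      rw [show R.card = j by omega, hec]
      push_cast; ring
    · have h1 := hineq hScard hbase g hg
      rw [hbsum g hg, hXY, hpr] at h1
      field_simp at h1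
      nlinarith
  · have hXN : N h X 0 = 3 := by
      simp only [hα] at hX1
      rw [if_pos e'] at hX1
      omega
    have hdX : charDegree (X : G → ℂ) = 4 * e + 3 := by
      have h1 := hdeg X hX
      rw [e', hXN] at h1
      push_cast at h1
      omega
    have hdY' : charDegree (Y : G → ℂ) = 4 * e + 1 := by
      rw [e''] at hdegY
      push_cast at hdegY
      omega
    have hYX : Y ≠ X := fun e₃ => by rw [e₃, hXN] at hYN; omega
    have hY' : Y ∉ insert one (SF.erase Y ∪ R.erase X) := fun hm => by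
      rcases Finset.mem_insert.mp hm with e₃ | hm
      · exact (hcF Y hYSF).2.2 e₃
      rcases Finset.mem_union.mp hm with hm | hm
      · exact Finset.ne_of_mem_erase hm rfl
      · have := (hP Y hm).2.1; omega
    have hX' : X ∉ insert Y (insert one (SF.erase Y ∪ R.erase X)) := fun hm => by
      rcases Finset.mem_insert.mp hm with e₃ | hm
      · exact hYX e₃.symm
      rcases Finset.mem_insert.mp hm with e₃ | hm
      · rw [e₃, hone0] at hXN; omega
      rcases Finset.mem_union.mp hm with hm | hm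
      · have := (hQ X hm).1; omega
      · exact Finset.ne_of_mem_erase hm rfl
    have hSm : ∀ χ ∈ insert X (insert Y (insert one (SF.erase Y ∪ R.erase X))), Cent (1 : K x L →* ℂ) (χ : G → ℂ) ∧
        χ ∉ Set.range A.exc ∧ ∃ u : (ZMod p)ˣ, N h χ (u : ZMod p) ≠ N h χ 0 := by
      intro χ hχ
      rcases Finset.mem_insert.mp hχ with rfl | hχ
      · refine ⟨hcent _ hX, hrange _ hX, 1, fun e₃ => ?_⟩
        have := hrow _ hX 1
        rw [e₃, e'] at this
        omega
      rcases Finset.mem_insert.mp hχ with rfl | hχ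
      · refine ⟨(hcF _ hYSF).1, (hcF _ hYSF).2.1, 1, fun e₃ => ?_⟩
        have := hrowY 1
        rw [e₃, e''] at this
        omega
      · exact hbase χ hχ
    have hScard : (insert X (insert Y (insert one (SF.erase Y ∪ R.erase X)))).card = e := by
      simp only [hα] at hRcard
      rw [if_pos e'] at hRcard
      rw [Finset.card_insert_of_notMem hX', Finset.card_insert_of_notMem hY', Finset.card_insert_of_notMem hnot,
        Finset.card_union_of_disjoint hdis, hQcard]
      omega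
    refine EvenCase.mixed Y X hdY' hdX hYcm (Finset.mem_filter.mp hX).2 ?_ fun g hg => ?_
    · rw [hinner]
      simp only [hα] at hRcard
      rw [if_pos e'] at hRcard
      rw [show R.card = j - 1 by omega, hec]
      have hj1 : 1 ≤ j := by omega
      push_cast [Nat.cast_sub hj1]
      ring
    · have h1 := hineq hScard hSm g hg
      rw [Finset.sum_insert hX', Finset.sum_insert hY', hbsum g hg, hdX, hdY', hpr] at h1
      push_cast at h1
      field_simp at h1 ⊢
      nlinarith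

end Cfsg.Agent.FeitSmall
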