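/-
Two classes and an even index (namespace `Cfsg.Agent.FeitSmall`).

Main results: `sum_sq`, `sum_four`, `steinberg_psl`, `mixed_false`, `two_even`.
-/
import Cfsg.Agent.Lib.FeitSmall.TwoEvenSetup
import Cfsg.Agent.Lib.HalfDegree.Count

set_option autoImplicit false
set_option linter.unusedSectionVars false
set_option linter.style.haveILetI false

open scoped ComplexConjugate

namespace Cfsg.Agent.FeitSmall

open Cfsg Cfsg.Agent.Blocks Cfsg.Agent.CyclicDefect

variable {G : Type*} [Group G] [Fintype G] {p : ℕ} [Fact p.Prime] {x : G} {L : Subgroup G} {e : ℕ}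
variable (h : CCore p x L e 2)
include h

theorem center_eq_bot (hK : Subsingleton (K x L)) : Subgroup.center G = ⊥ := by
  refine (Subgroup.eq_bot_iff_forall _).mpr fun z hz => ?_
  obtain ⟨k, hk⟩ := exists_K_of_center h hz
  rw [hk, hK.elim k 1]
  simp

variable {A : Fam h (1 : K x L →* ℂ)} {b : T h.hS} {a : G → ℤ} (D : EvenData h A b a) (hA : A.Minus h)
include D hA

theorem deg_A (c : T h.hS) : (A.exc c : G → ℂ) 1 = ((e + 1 : ℕ) : ℂ) ∧ charDegree (A.exc c : G → ℂ) = e + 1 := by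
  have h1 : (A.exc c : G → ℂ) 1 = ((e + 1 : ℕ) : ℂ) := by
    rw [deg_minus h A hA, show (p : ℂ) = 2 * e + 1 by exact_mod_cast p_two h]
    push_cast; ring
  exact ⟨h1, Nat.cast_injective (R := ℂ) (by rw [charDegree_cast, h1])⟩

theorem one_regular : ¬ p ∣ orderOf (1 : G) := by simpa using (Fact.out : p.Prime).ne_one

theorem a_one : a 1 = (e : ℤ) + 1 := by
  have h1 := D.val 1 (one_regular h D hA)
  rw [(deg_A h D hA 1).1] at h1
  have h2 : ((e + 1 : ℕ) : ℤ) = a 1 := by exact_mod_cast h1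
  push_cast at h2
  omega

theorem a_le {g : G} (hg : ¬ p ∣ orderOf g) : |a g| ≤ (e : ℤ) + 1 := by
  have h1 := Char.IsCharacter.norm_le (Char.IsIrrCharacter.isCharacter (A.exc 1).2) g
  rw [D.val g hg, (deg_A h D hA 1).1, Complex.norm_intCast, Complex.natCast_re] at h1
  push_cast at h1
  exact_mod_cast h1

theorem a_lt {c0 : T h.hS} (hfaith : ∀ g : G, (A.exc c0 : G → ℂ) g = (A.exc c0 : G → ℂ) 1 → g = 1) {g : G}
    (hg : ¬ p ∣ orderOf g) (hg1 : g ≠ 1) : |a g| ≤ (e : ℤ) := by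
  have h1 := a_le h D hA hg
  by_contra hlt
  refine hg1 ?_
  have h2 : g ∈ Subgroup.center G := DegPMinusTwo.mem_center_of_norm hfaith (by
    rw [A.reg c0 1 g hg, D.val g hg, (deg_A h D hA c0).2, Complex.norm_intCast]
    have h3 : |a g| = (e : ℤ) + 1 := by omega
    rw [← Int.cast_abs, h3]
    push_cast; rfl)
  rwa [center_eq_bot h D.hK, Subgroup.mem_bot] at h2

open scoped Classical in
theorem sum_regular_eq {φ : G → ℂ} (hφ : IsClassFunction G φ) {r : G → ℝ}
    (hr : ∀ g : G, ¬ p ∣ orderOf g → φ g = (r g : ℂ)) :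
    ((∑ g ∈ Finset.univ.filter (fun g : G => ¬ p ∣ orderOf g), r g : ℝ) : ℂ) =
      ∑ g, φ g - (Nat.card G : ℂ) / ((p : ℂ) * e) * ((p : ℂ) * mu x φ (0 : ZMod p) - φ 1) := by
  rw [← regular_sum h D.hK hφ, Complex.ofReal_sum]
  exact Finset.sum_congr rfl fun g hg => (hr g (Finset.mem_filter.mp hg).2).symm

open scoped Classical in
theorem sum_sq : ∑ g ∈ Finset.univ.filter (fun g : G => ¬ p ∣ orderOf g), (a g : ℝ) ^ 2 =
    (Nat.card G : ℝ) * e / p := by
  set f : G → ℂ := fun g => (A.exc 1 : G → ℂ) g * (A.exc 1 : G → ℂ) g with hf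
  have hfc : IsCharacter G f := isCharacter_prod h A A 1 1
  have h1 := sum_regular_eq h D hA (Char.IsCharacter.isClassFunction hfc) (r := fun g => (a g : ℝ) ^ 2)
    (fun g hg => by simp only [hf, D.val g hg]; push_cast; ring)
  have h2 : ∑ g, f g = (Nat.card G : ℂ) := by
    have h3 := cm_one hfc
    rw [show cm f (oneIrr G) = 1 from D.fone, Nat.cast_one] at h3
    rw [eq_comm, inv_mul_eq_one₀ (Nat.cast_ne_zero.mpr Nat.card_pos.ne')] at h3
    exact h3.symm
  rw [h2, show mu x f (0 : ZMod p) = (e : ℂ) + 1 from D.f0,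
    show f 1 = ((e + 1 : ℕ) : ℂ) * ((e + 1 : ℕ) : ℂ) by simp only [hf, (deg_A h D hA 1).1]] at h1
  have hp0 : (p : ℂ) ≠ 0 := Nat.cast_ne_zero.mpr (Fact.out : p.Prime).ne_zero
  have he0 : (e : ℂ) ≠ 0 := Nat.cast_ne_zero.mpr (by have := h.he2; omega)
  have h4 : ((∑ g ∈ Finset.univ.filter (fun g : G => ¬ p ∣ orderOf g), (a g : ℝ) ^ 2 : ℝ) : ℂ) =
      (((Nat.card G : ℝ) * e / p : ℝ) : ℂ) := by
    rw [h1, show (p : ℂ) = 2 * e + 1 by exact_mod_cast p_two h] at *
    push_cast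
    rw [show (p : ℂ) = 2 * e + 1 by exact_mod_cast p_two h]
    field_simp
    ring
  exact_mod_cast h4

open scoped Classical in
theorem sum_four (he : Even e) {c : ℝ}
    (hc : classInner (fun g => (A.exc 1 : G → ℂ) g * (A.exc 1 : G → ℂ) g)
      (fun g => (A.exc 1 : G → ℂ) g * (A.exc 1 : G → ℂ) g) = (c : ℂ)) :
    ∑ g ∈ Finset.univ.filter (fun g : G => ¬ p ∣ orderOf g), (a g : ℝ) ^ 4 =
      (Nat.card G : ℝ) * (c - ((e : ℝ) ^ 2 / 2 + 2 * e + 1) / p) := by
  set f : G → ℂ := fun g => (A.exc 1 : G → ℂ) g * (A.exc 1 : G → ℂ) g with hf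
  have hfc : IsCharacter G f := isCharacter_prod h A A 1 1
  have hff : IsCharacter G (fun g => f g * f g) := Char.IsCharacter.mul hfc hfc
  have h1 := sum_regular_eq h D hA (Char.IsCharacter.isClassFunction hff) (r := fun g => (a g : ℝ) ^ 4)
    (fun g hg => by simp only [hf, D.val g hg]; push_cast; ring)
  have h2 : ∑ g, f g * f g = (Nat.card G : ℂ) * (c : ℂ) := by
    rw [← hc, classInner, mul_inv_cancel_left₀ (Nat.cast_ne_zero.mpr Nat.card_pos.ne')]
    refine Finset.sum_congr rfl fun g _ => ?_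
    simp only [hf, map_mul, D.real]
  have h3 : mu x (fun g => f g * f g) (0 : ZMod p) =
      ((e : ℂ) + 1) ^ 2 + e * ((e : ℂ) / 2) ^ 2 + e * ((e : ℂ) / 2 + 1) ^ 2 := by
    rw [mu_mul, sum_split_cs (U0 h.hS), sum_classes h D.hne D.hT, zero_sub, neg_zero, D.f0]
    have hterm : ∀ (γ : T h.hS), ∀ j ∈ cs (U0 h.hS) γ, mu x f j * mu x f (0 - j) =
        (if γ = 1 then (e : ℂ) / 2 else (e : ℂ) / 2 + 1) ^ 2 := by
      intro γ j hj
      obtain ⟨u, hu, rfl⟩ := (mem_cs _).mp hj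
      rw [zero_sub, ← Units.val_neg, D.fu, D.fu,
        show ((-u : (ZMod p)ˣ) : T h.hS) = (u : T h.hS) by
          rw [← neg_one_mul, QuotientGroup.mk_mul, show ((-1 : (ZMod p)ˣ) : T h.hS) = 1 from negOne_eq_one h he,
            one_mul],
        hu, pow_two]
    rw [Finset.sum_congr rfl (hterm 1), Finset.sum_congr rfl (hterm b), if_pos rfl, if_neg D.hne]
    simp only [Finset.sum_const, card_cs, card_U0 h, nsmul_eq_mul]
    ring
  rw [h2, h3, show f 1 * f 1 = (((e + 1 : ℕ) : ℂ) * ((e + 1 : ℕ) : ℂ)) ^ 2 by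
    simp only [hf, (deg_A h D hA 1).1]; ring] at h1
  have hp0 : (p : ℂ) ≠ 0 := Nat.cast_ne_zero.mpr (Fact.out : p.Prime).ne_zero
  have he0 : (e : ℂ) ≠ 0 := Nat.cast_ne_zero.mpr (by have := h.he2; omega)
  have h4 : ((∑ g ∈ Finset.univ.filter (fun g : G => ¬ p ∣ orderOf g), (a g : ℝ) ^ 4 : ℝ) : ℂ) =
      (((Nat.card G : ℝ) * (c - ((e : ℝ) ^ 2 / 2 + 2 * e + 1) / p) : ℝ) : ℂ) := by
    rw [h1]
    push_cast
    rw [show (p : ℂ) = 2 * e + 1 by exact_mod_cast p_two h] at hp0 ⊢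
    field_simp
    ring
  exact_mod_cast h4

set_option maxHeartbeats 1000000 in
open scoped Classical in
/-- The first shape gives the projective special linear group. -/
theorem steinberg_psl (he : Even e) {c0 : T h.hS}
    (hfaith : ∀ g : G, (A.exc c0 : G → ℂ) g = (A.exc c0 : G → ℂ) 1 → g = 1)
    (St : IrrCharacter G) (_hdeg : charDegree (St : G → ℂ) = p)
    (hzero : ∀ i : ZMod p, i ≠ 0 → (St : G → ℂ) (pw x i) = 0)
    (hcm : cm (fun g => (A.exc 1 : G → ℂ) g * (A.exc 1 : G → ℂ) g) St = 1)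
    (hinner : classInner (fun g => (A.exc 1 : G → ℂ) g * (A.exc 1 : G → ℂ) g)
      (fun g => (A.exc 1 : G → ℂ) g * (A.exc 1 : G → ℂ) g) = (e : ℂ) / 2 + 2)
    (hineq : ∀ g : G, ¬ p ∣ orderOf g → (e : ℝ) * |(a g : ℝ)| ≤ e + (a g : ℝ) ^ 2 - ((St : G → ℂ) g).re) :
    Nonempty ((G ⧸ Subgroup.center G) ≃* Matrix.ProjectiveSpecialLinearGroup (Fin 2) (ZMod p)) := by
  have hp := (Fact.out : p.Prime)
  have hpe := p_two h
  have he2 := h.he2
  have hpr : (p : ℝ) = 2 * e + 1 := by exact_mod_cast hpe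
  have hep : (0 : ℝ) < e := by exact_mod_cast (show 0 < e by omega)
  set Rg := Finset.univ.filter (fun g : G => ¬ p ∣ orderOf g) with hRg
  set v : G → ℝ := fun g => ((St : G → ℂ) g).re with hv
  set f : G → ℂ := fun g => (A.exc 1 : G → ℂ) g * (A.exc 1 : G → ℂ) g with hf
  have hfc : IsCharacter G f := isCharacter_prod h A A 1 1
  have hS2 := sum_sq h D hA
  have hS4 := sum_four h D hA he (c := (e : ℝ) / 2 + 2) (by rw [hinner]; push_cast; ring)
  -- the sum against the flat constituent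
  have hS3 : ∑ g ∈ Rg, (a g : ℝ) ^ 2 * v g = Nat.card G := by
    set φ : G → ℂ := fun g => f g * conj ((St : G → ℂ) g) with hφ
    have hφc : IsClassFunction G φ := fun u w => by
      simp only [hφ, Char.IsCharacter.isClassFunction hfc u w, irr_class St u w]
    have h1 := regular_sum h D.hK hφc
    have h2 : (p : ℂ) * mu x φ (0 : ZMod p) - φ 1 = 0 := by
      rw [← sum_apply_pw h φ, ← Finset.add_sum_erase _ _ (Finset.mem_univ (0 : ZMod p)), h.hS.pw_zero,
        Finset.sum_eq_zero fun i hi => by simp [hφ, hzero i (Finset.ne_of_mem_erase hi)]]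
      ring
    have h3 : ∑ g, φ g = (Nat.card G : ℂ) := by
      have h4 := cm_spec hfc St
      rw [show cm f St = 1 from hcm, Nat.cast_one, classInner,
        inv_mul_eq_one₀ (Nat.cast_ne_zero.mpr Nat.card_pos.ne')] at h4
      exact h4.symm
    rw [h2, mul_zero, sub_zero, h3] at h1
    have h5 := congrArg Complex.re h1
    rw [Complex.re_sum, Complex.natCast_re, ← hRg] at h5
    rw [← h5]
    refine Finset.sum_congr rfl fun g hg => ?_
    simp only [hφ, hf, D.val g (Finset.mem_filter.mp hg).2, hv, Complex.mul_re, Complex.conj_re,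
      Complex.intCast_re, Complex.intCast_im, Complex.mul_im]
    ring
  set Gf : G → ℝ := fun g => ((e : ℝ) + 2) * (a g : ℝ) ^ 2 * (1 - v g) + 2 * (a g : ℝ) ^ 4 - 2 * (a g : ℝ) ^ 2
  have hnn : ∀ g ∈ Rg, (e : ℝ) * (a g : ℝ) ^ 2 * ((|(a g : ℝ)| - 1) * (e + 1 - |(a g : ℝ)|)) ≤ Gf g ∧
      0 ≤ (e : ℝ) * (a g : ℝ) ^ 2 * ((|(a g : ℝ)| - 1) * (e + 1 - |(a g : ℝ)|)) := by
    intro g hg
    have hg' := (Finset.mem_filter.mp hg).2
    have h1 := hineq g hg'
    have h2 : ((|a g| : ℤ) : ℝ) ≤ ((e : ℤ) + 1 : ℤ) := Int.cast_le.mpr (a_le h D hA hg')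
    rw [Int.cast_abs] at h2
    push_cast at h2
    constructor
    · have h3 : 0 ≤ ((e : ℝ) + 2) * (a g : ℝ) ^ 2 := by positivity
      have h4 := mul_le_mul_of_nonneg_left (show (1 : ℝ) - e - (a g : ℝ) ^ 2 + e * |(a g : ℝ)| ≤ 1 - v g by
        simp only [hv]; linarith) h3
      simp only [Gf]
      have h5 : (a g : ℝ) ^ 2 = |(a g : ℝ)| ^ 2 := (sq_abs _).symm
      have h6 : (a g : ℝ) ^ 4 = |(a g : ℝ)| ^ 2 * |(a g : ℝ)| ^ 2 := by rw [← h5]; ring
      rw [h5] at h4
      rw [h6, h5]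
      linarith
    · by_cases h0 : a g = 0
      · simp [h0]
      · have h7 : (1 : ℝ) ≤ |(a g : ℝ)| := by
          rw [← Int.cast_abs]
          exact_mod_cast Int.one_le_abs h0
        exact mul_nonneg (by positivity) (mul_nonneg (by linarith) (by linarith))
  have htot : ∑ g ∈ Rg, Gf g = 0 := by
    have hrw : ∀ g, Gf g = ((e : ℝ) + 2) * (a g : ℝ) ^ 2 - ((e : ℝ) + 2) * ((a g : ℝ) ^ 2 * v g) +
        2 * (a g : ℝ) ^ 4 - 2 * (a g : ℝ) ^ 2 := fun g => by simp only [Gf]; ring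
    simp only [hrw, Finset.sum_sub_distrib, Finset.sum_add_distrib, ← Finset.mul_sum]
    rw [hS3, hRg, hS4, hS2, hpr]
    field_simp
    ring
  have hsmall : ∀ g ∈ Rg, g ≠ 1 → (a g : ℝ) ^ 4 - (a g : ℝ) ^ 2 = 0 := by
    intro g hg hg1
    have h0 : (e : ℝ) * (a g : ℝ) ^ 2 * ((|(a g : ℝ)| - 1) * (e + 1 - |(a g : ℝ)|)) = 0 := by
      have h1 := (Finset.sum_eq_zero_iff_of_nonneg fun u hu => (hnn u hu).2.trans (hnn u hu).1).mp htot g hg
      have := hnn g hg
      linarith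
    have h2 : ((|a g| : ℤ) : ℝ) ≤ ((e : ℤ) : ℝ) := Int.cast_le.mpr (a_lt h D hA hfaith (Finset.mem_filter.mp hg).2 hg1)
    rw [Int.cast_abs] at h2
    push_cast at h2
    rcases mul_eq_zero.mp h0 with h3 | h3
    · rcases mul_eq_zero.mp h3 with h4 | h4
      · linarith
      · rw [show (a g : ℝ) ^ 4 = ((a g : ℝ) ^ 2) ^ 2 by ring, h4]; ring
    · rcases mul_eq_zero.mp h3 with h4 | h4
      · have h5 : (a g : ℝ) ^ 2 = 1 := by rw [← sq_abs, show |(a g : ℝ)| = 1 by linarith]; ring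
        rw [show (a g : ℝ) ^ 4 = ((a g : ℝ) ^ 2) ^ 2 by ring, h5]; ring
      · linarith
  have h1mem : (1 : G) ∈ Rg := Finset.mem_filter.mpr ⟨Finset.mem_univ _, one_regular h D hA⟩
  have hord : Nat.card G = 2 * p * (e + 1) * e := by
    have h1 : ∑ g ∈ Rg, ((a g : ℝ) ^ 4 - (a g : ℝ) ^ 2) = (a 1 : ℝ) ^ 4 - (a 1 : ℝ) ^ 2 :=
      Finset.sum_eq_single_of_mem 1 h1mem hsmall
    rw [Finset.sum_sub_distrib, hRg, hS4, hS2, a_one h D hA, hpr] at h1
    push_cast at h1
    field_simp at h1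
    have h2 : ((Nat.card G : ℝ) - 2 * (2 * e + 1) * (e + 1) * e) * ((e + 1) * (e + 2)) = 0 := by linarith
    have h3 : (Nat.card G : ℝ) = 2 * (2 * e + 1) * (e + 1) * e := by
      rcases mul_eq_zero.mp h2 with h4 | h4
      · linarith
      · exfalso; nlinarith
    rw [← hpr] at h3
    exact_mod_cast h3
  have hbot := center_eq_bot h D.hK
  have hLcard : Nat.card L = e := by
    have h1 : Nat.card (K x L) = 1 := Nat.card_eq_one_iff_unique.mpr ⟨D.hK, ⟨1⟩⟩
    rw [card_L h, h1, mul_one]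
  have hcore : BrauerFewSylow.Core p x L e 2 :=
    ⟨h.hS, D.hK, by omega, hLcard, h.hte, fun χ hχ => HalfDegree.linear_trivial h.hperf χ hχ⟩
  have hN : Nat.card (Sylow p G) = p + 1 := by
    have h1 := BrauerTuan.card_sylow_mul hcore
    rw [hord, show 2 * p * (e + 1) * e = (2 * (e + 1)) * (e * p) by ring] at h1
    rw [Nat.eq_of_mul_eq_mul_right (Nat.mul_pos (by omega) hp.pos) h1]
    omega
  have hC : Subgroup.centralizer ({x} : Set G) = Subgroup.zpowers x :=
    le_antisymm (fun g hg => BrauerTuan.centralizer_x hcore (Subgroup.mem_centralizer_singleton_iff.mp hg).symm)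
      (Subgroup.zpowers_le.mpr (Subgroup.mem_centralizer_singleton_iff.mpr rfl))
  obtain ⟨L'', e', t', n, hctx⟩ := BrauerFewSylow.exists_ctx (p := p) h.hperf h.hS.hx hC
    (show 2 * Nat.card (Sylow p G) < _ by rw [hN]; nlinarith)
  have hn1 : n = 1 := by
    have h1 := BrauerTuan.card_sylow_mul hctx.toCore
    rw [hctx.hcard, hN, mul_comm (p + 1)] at h1
    have h2 := Nat.eq_of_mul_eq_mul_left (Nat.mul_pos (BrauerFewSylow.e_pos hctx.toCore) hp.pos) h1
    have h3 : 1 * p = n * p := by omega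
    exact (Nat.eq_of_mul_eq_mul_right hp.pos h3).symm
  obtain ⟨F, _, _, hF, -, ⟨φ⟩⟩ := BrauerFewSylow.recognition_one hctx hn1 h.hperf
  exact ⟨((QuotientGroup.quotientMulEquivOfEq hbot).trans QuotientGroup.quotientBot).trans
    (φ.trans (Agent.Linear.pslMapEquiv (ZMod.ringEquivOfPrime F hp hF).symm))⟩

/-- The value at the powers of an element. -/
theorem a_pow {u : G} (hu : ¬ p ∣ orderOf u) {n i : ℕ} (hn : n ∣ Nat.card G) (hi : i.Coprime n)
    (hun : u ^ n = 1) : a (u ^ i) = a u := by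
  obtain ⟨k, hk, hmod⟩ := exists_coprime_modEq h hn hi
  have hpow : u ^ i = u ^ k := by rw [pow_eq_pow_mod i hun, ← hmod, ← pow_eq_pow_mod k hun]
  have hreg : ¬ p ∣ orderOf (u ^ i) := fun hd => hu (hd.trans (orderOf_pow_dvd i))
  have h1 := (exists_pow_fam h A A hk (fun z => by rw [MonoidHom.one_apply, one_pow])).2.2 1 u hu
  rw [← hpow, D.val u hu, D.val _ hreg] at h1
  exact_mod_cast h1.symm

set_option maxHeartbeats 1000000 in
open scoped Classical in
/-- An element of prime order. -/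
theorem prime_value {c0 : T h.hS} (hfaith : ∀ g : G, (A.exc c0 : G → ℂ) g = (A.exc c0 : G → ℂ) 1 → g = 1)
    {r : ℕ} (hr : r.Prime) (hrp : r ≠ p) {u : G} (hu : orderOf u = r) :
    |a u| ≤ (e : ℤ) ∧ ∃ m : ℕ, (e : ℤ) + 1 + ((r : ℤ) - 1) * a u = r * m := by
  have hreg : ¬ p ∣ orderOf u := fun hd => by
    rw [hu] at hd
    exact hrp ((Nat.prime_dvd_prime_iff_eq Fact.out hr).mp hd).symm
  have hu1 : u ≠ 1 := fun e' => hr.ne_one (by rw [← hu, e', orderOf_one])
  refine ⟨a_lt h D hA hfaith hreg hu1, ?_⟩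
  obtain ⟨m, hm⟩ := sum_subgroup (Char.IsIrrCharacter.isCharacter (A.exc 1).2) (Subgroup.zpowers u)
  refine ⟨m, ?_⟩
  have hcard : Nat.card (Subgroup.zpowers u) = r := by rw [Nat.card_zpowers, hu]
  have hval : ∀ w : Subgroup.zpowers u, w ≠ 1 → (A.exc 1 : G → ℂ) w = (a u : ℂ) := by
    rintro ⟨w, hw⟩ hne
    obtain ⟨i, rfl⟩ : ∃ i : ℕ, u ^ i = w := by
      exact Submonoid.mem_powers_iff _ _ |>.mp (mem_powers_iff_mem_zpowers.mpr hw)
    have hi : i.Coprime r := (hr.coprime_iff_not_dvd.mpr fun hd => hne (Subtype.ext (by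
      obtain ⟨q, rfl⟩ := hd
      show u ^ (r * q) = 1
      rw [pow_mul, ← hu, pow_orderOf_eq_one, one_pow]))).symm
    have hrG : r ∣ Nat.card G := hu ▸ orderOf_dvd_natCard u
    show (A.exc 1 : G → ℂ) (u ^ i) = _
    rw [D.val _ (fun hd => hreg (hd.trans (orderOf_pow_dvd i))),
      a_pow h D hA hreg hrG hi (by rw [← hu, pow_orderOf_eq_one])]
  rw [← Finset.add_sum_erase _ _ (Finset.mem_univ (1 : Subgroup.zpowers u)),
    Finset.sum_congr rfl fun w hw => hval w (Finset.ne_of_mem_erase hw), Finset.sum_const, nsmul_eq_mul,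
    Finset.card_erase_of_mem (Finset.mem_univ _), Finset.card_univ, ← Nat.card_eq_fintype_card, hcard,
    OneMemClass.coe_one, (deg_A h D hA 1).1, Nat.cast_sub hr.one_le] at hm
  have h2 : ((e : ℤ) + 1 + ((r : ℤ) - 1) * a u : ℤ) = ((r : ℤ) * m : ℤ) := by
    apply Int.cast_injective (α := ℂ)
    push_cast
    push_cast at hm
    exact hm
  exact h2

/-- No large prime divides the order. -/
theorem no_large_prime {c0 : T h.hS} (hfaith : ∀ g : G, (A.exc c0 : G → ℂ) g = (A.exc c0 : G → ℂ) 1 → g = 1)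
    {r : ℕ} (hr : r.Prime) (hrp : r ≠ p) (hlt : e + 2 < r) (hdvd : r ∣ Nat.card G) : False := by
  haveI := Fact.mk hr
  obtain ⟨u, hu⟩ := exists_prime_orderOf_dvd_card' r hdvd
  obtain ⟨hle, m, hm⟩ := prime_value h D hA hfaith hr hrp hu
  obtain ⟨h1, h2⟩ := abs_le.mp hle
  have hm0 : (0 : ℤ) ≤ r * m := by positivity
  have h3 : (r : ℤ) ∣ (e : ℤ) + 1 - a u := ⟨m - a u, by linear_combination hm⟩
  obtain ⟨q, hq⟩ := h3
  have hq1 : 1 ≤ q := by
    by_contra hq'
    nlinarith [mul_le_mul_of_nonneg_left (show q ≤ 0 by omega) (Int.natCast_nonneg r)]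
  have h5 : a u ≤ (e : ℤ) + 1 - r := by
    nlinarith [mul_le_mul_of_nonneg_left hq1 (Int.natCast_nonneg r)]
  have h6 : a u ≤ -1 := by omega
  nlinarith [mul_le_mul_of_nonneg_left h6 (show (0 : ℤ) ≤ (r : ℤ) - 1 by omega)]

set_option maxHeartbeats 1000000 in
open scoped Classical in
/-- The group of order `25`. -/
theorem no_twenty_five (he6 : e = 6) {c0 : T h.hS}
    (hfaith : ∀ g : G, (A.exc c0 : G → ℂ) g = (A.exc c0 : G → ℂ) 1 → g = 1) (hdvd : 25 ∣ Nat.card G) : False := by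
  haveI : Fact (Nat.Prime 5) := ⟨by norm_num⟩
  have hp13 : p = 13 := by have := p_two h; omega
  have h5p : 5 ≠ p := by omega
  obtain ⟨P, hP⟩ := Sylow.exists_subgroup_card_pow_prime 5 (n := 2) (G := G) (by simpa using hdvd)
  rw [show (5 : ℕ) ^ 2 = 25 by norm_num] at hP
  set f : G → ℂ := fun g => (A.exc 1 : G → ℂ) g * (A.exc 1 : G → ℂ) g with hf
  obtain ⟨m, hm⟩ := sum_subgroup (isCharacter_prod h A A 1 1) P
  have hord : ∀ w : P, w ≠ 1 → orderOf (w : G) = 5 ∨ orderOf (w : G) = 25 := by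
    intro w hw
    have h1 := orderOf_dvd_natCard w
    rw [hP, show (25 : ℕ) = 5 ^ 2 by norm_num, Nat.dvd_prime_pow (by norm_num), ← Subgroup.orderOf_coe] at h1
    obtain ⟨j, hj, hj'⟩ := h1
    interval_cases j
    · exact absurd (Subtype.ext (orderOf_eq_one_iff.mp (by simpa using hj'))) hw
    · left; simpa using hj'
    · right; simpa using hj'
  have hfive : ∀ w : P, orderOf (w : G) = 5 → f w = 4 := by
    intro w hw
    obtain ⟨hle, m', hm'⟩ := prime_value h D hA hfaith (by norm_num) h5p hw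
    have hreg : ¬ p ∣ orderOf (w : G) := by rw [hw, hp13]; norm_num
    rw [he6] at hle hm'
    push_cast at hle hm'
    obtain ⟨h1, h2⟩ := abs_le.mp hle
    have h3 : a (w : G) = 2 := by omega
    simp only [hf, D.val _ hreg, h3]
    norm_num
  rw [← Finset.add_sum_erase _ _ (Finset.mem_univ (1 : P)), OneMemClass.coe_one] at hm
  have hone : (A.exc 1 : G → ℂ) 1 * (A.exc 1 : G → ℂ) 1 = 49 := by
    rw [(deg_A h D hA 1).1, he6]; norm_num
  rw [hone, hP] at hm
  by_cases hcyc : ∃ w : P, orderOf (w : G) = 25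
  · obtain ⟨u, hu⟩ := hcyc
    have hu' : orderOf u = 25 := by rw [← Subgroup.orderOf_coe]; exact hu
    haveI : IsCyclic P := isCyclic_of_orderOf_eq_card u (by rw [hu', hP])
    have hreg : ¬ p ∣ orderOf (u : G) := by rw [hu, hp13]; norm_num
    have hbig : ∀ w : P, orderOf (w : G) = 25 → f w = ((a (u : G) ^ 2 : ℤ) : ℂ) := by
      intro w hw
      have hw' : w ∈ Subgroup.zpowers u := by
        rw [show Subgroup.zpowers u = ⊤ from Subgroup.eq_top_of_card_eq _ (by rw [Nat.card_zpowers, hu', hP])]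
        exact Subgroup.mem_top w
      obtain ⟨i, hi⟩ : ∃ i : ℕ, u ^ i = w := Submonoid.mem_powers_iff _ _ |>.mp (mem_powers_iff_mem_zpowers.mpr hw')
      have hcop : i.Coprime 25 := by
        rw [show (25 : ℕ) = 5 ^ 2 by norm_num]
        refine Nat.Coprime.pow_right _ (((Nat.Prime.coprime_iff_not_dvd (by norm_num)).mpr fun hd => ?_).symm)
        obtain ⟨q, rfl⟩ := hd
        have h1 : (w : G) ^ 5 = 1 := by
          rw [← hi, Subgroup.coe_pow, ← pow_mul, show 5 * q * 5 = 25 * q by ring, pow_mul, ← hu, pow_orderOf_eq_one,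
            one_pow]
        have h2 := orderOf_dvd_of_pow_eq_one h1
        rw [hw] at h2
        norm_num at h2
      have hreg' : ¬ p ∣ orderOf ((u : G) ^ i) := fun hd => hreg (hd.trans (orderOf_pow_dvd i))
      rw [← hi, Subgroup.coe_pow]
      simp only [hf, D.val _ hreg', a_pow h D hA hreg hdvd hcop (by rw [← hu, pow_orderOf_eq_one])]
      push_cast; ring
    have h4 : (Finset.univ.filter fun w : P => orderOf w = 5).card = 4 := by
      rw [IsCyclic.card_orderOf_eq_totient (by rw [← Nat.card_eq_fintype_card, hP]; norm_num),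
        Nat.totient_prime (by norm_num)]
    have hset : (Finset.univ.erase (1 : P)).filter (fun w => orderOf w = 5) =
        Finset.univ.filter (fun w : P => orderOf w = 5) := by
      ext w
      simp only [Finset.mem_filter, Finset.mem_erase, Finset.mem_univ, and_true, true_and, and_iff_right_iff_imp]
      intro hw hw1
      rw [hw1, orderOf_one] at hw
      norm_num at hw
    rw [← Finset.sum_filter_add_sum_filter_not (Finset.univ.erase (1 : P)) (fun w => orderOf w = 5)] at hm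
    have hc20 : ((Finset.univ.erase (1 : P)).filter (fun w => ¬ orderOf w = 5)).card = 20 := by
      have h5 := Finset.card_filter_add_card_filter_not (s := Finset.univ.erase (1 : P)) (fun w => orderOf w = 5)
      rw [hset, h4, Finset.card_erase_of_mem (Finset.mem_univ _), Finset.card_univ, ← Nat.card_eq_fintype_card, hP] at h5
      omega
    rw [Finset.sum_congr (s₁ := (Finset.univ.erase (1 : P)).filter (fun w => orderOf w = 5)) rfl (g := fun _ => (4 : ℂ))
        (fun w hw => hfive w (by rw [Subgroup.orderOf_coe]; exact (Finset.mem_filter.mp hw).2)),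
      Finset.sum_congr (s₁ := (Finset.univ.erase (1 : P)).filter (fun w => ¬ orderOf w = 5)) rfl
        (g := fun _ => ((a (u : G) ^ 2 : ℤ) : ℂ))
        (fun w hw => hbig w (((hord w (Finset.ne_of_mem_erase (Finset.mem_filter.mp hw).1)).resolve_left
          (by rw [Subgroup.orderOf_coe]; exact (Finset.mem_filter.mp hw).2)))),
      Finset.sum_const, Finset.sum_const, hset, h4, hc20] at hm
    have h6 : (49 + (4 * 4 + 20 * a (u : G) ^ 2) : ℤ) = 25 * (m : ℤ) := by
      apply Int.cast_injective (α := ℂ)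
      push_cast
      simp only [nsmul_eq_mul] at hm
      push_cast at hm
      linear_combination hm
    set v := a (u : G)
    obtain ⟨q, r, hv, hr0, hr5⟩ : ∃ q r : ℤ, v = 5 * q + r ∧ 0 ≤ r ∧ r < 5 :=
      ⟨v / 5, v % 5, (Int.mul_ediv_add_emod v 5).symm, Int.emod_nonneg _ (by norm_num), Int.emod_lt_of_pos _ (by norm_num)⟩
    rw [hv] at h6
    have h7 : 65 + 20 * r ^ 2 = 25 * ((m : ℤ) - 20 * q ^ 2 - 8 * q * r) := by linear_combination h6
    interval_cases r <;> omega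
  · push Not at hcyc
    rw [Finset.sum_congr rfl (g := fun _ => (4 : ℂ)) (fun w hw =>
        hfive w ((hord w (Finset.ne_of_mem_erase hw)).resolve_right (hcyc w))),
      Finset.sum_const, Finset.card_erase_of_mem (Finset.mem_univ _), Finset.card_univ, ← Nat.card_eq_fintype_card,
      hP] at hm
    have h6 : (49 + 24 * 4 : ℕ) = 25 * m := by
      apply Nat.cast_injective (R := ℂ)
      push_cast
      simp only [nsmul_eq_mul] at hm
      push_cast at hm
      linear_combination hm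
    omega

set_option maxHeartbeats 2000000 in
open scoped Classical in
/-- The second shape is impossible. -/
theorem mixed_false (he : Even e) (he6 : 6 ≤ e) {c0 : T h.hS}
    (hfaith : ∀ g : G, (A.exc c0 : G → ℂ) g = (A.exc c0 : G → ℂ) 1 → g = 1)
    (Y X : IrrCharacter G) (hdY : charDegree (Y : G → ℂ) = 4 * e + 1) (hdX : charDegree (X : G → ℂ) = 4 * e + 3)
    (hcmY : cm (fun g => (A.exc 1 : G → ℂ) g * (A.exc b : G → ℂ) g) Y ≠ 0)
    (hcmX : cm (fun g => (A.exc 1 : G → ℂ) g * (A.exc 1 : G → ℂ) g) X ≠ 0)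
    (hinner : classInner (fun g => (A.exc 1 : G → ℂ) g * (A.exc 1 : G → ℂ) g)
      (fun g => (A.exc 1 : G → ℂ) g * (A.exc 1 : G → ℂ) g) = (e : ℂ) / 2 + 1)
    (hineq : ∀ g : G, ¬ p ∣ orderOf g → (e : ℝ) * |(a g : ℝ)| ≤ e + (a g : ℝ) ^ 2 -
      ((e + 1) * ((Y : G → ℂ) g).re / (4 * e + 1) + e * ((X : G → ℂ) g).re / (4 * e + 3))) : False := by
  have hp := (Fact.out : p.Prime)
  have hpe := p_two h
  have hdvdY : 4 * e + 1 ∣ Nat.card G := hdY ▸ Codegree.deg_dvd_card Y
  have hdvdX : 4 * e + 3 ∣ Nat.card G := hdX ▸ Codegree.deg_dvd_card X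
  have hdvdA : e + 1 ∣ Nat.card G := (deg_A h D hA 1).2 ▸ Codegree.deg_dvd_card (A.exc 1)
  rcases Nat.lt_or_ge e 18 with hlt | h18
  · obtain ⟨j, rfl⟩ := he
    have hj : j = 3 ∨ j = 4 ∨ j = 5 ∨ j = 6 ∨ j = 7 ∨ j = 8 := by omega
    rcases hj with rfl | rfl | rfl | rfl | rfl | rfl
    · exact no_twenty_five h D hA rfl hfaith (by simpa using hdvdY)
    · exact no_large_prime h D hA hfaith (r := 11) (by norm_num) (by omega) (by norm_num)
        ((by norm_num : 11 ∣ 4 * (4 + 4) + 1).trans hdvdY)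
    · rw [show p = 21 by omega] at hp; norm_num at hp
    · rw [show p = 25 by omega] at hp; norm_num at hp
    · exact no_large_prime h D hA hfaith (r := 19) (by norm_num) (by omega) (by norm_num)
        ((by norm_num : 19 ∣ 4 * (7 + 7) + 1).trans hdvdY)
    · rw [show p = 33 by omega] at hp; norm_num at hp
  have her : (18 : ℝ) ≤ e := by exact_mod_cast h18
  have hpr : (p : ℝ) = 2 * e + 1 := by exact_mod_cast hpe
  set z : G → ℂ := (A.exc 1 : G → ℂ) with hz
  have hzc : IsCharacter G z := Char.IsIrrCharacter.isCharacter (A.exc 1).2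
  have hz1 : z 1 = ((e + 1 : ℕ) : ℂ) := (deg_A h D hA 1).1
  have hbound : ∀ g : G, ¬ p ∣ orderOf g → g ≠ 1 → (a g : ℝ) ^ 2 ≤ 9 := by
    intro g hg hg1
    have hY1 := Char.IsCharacter.norm_le (Char.IsIrrCharacter.isCharacter Y.2) g
    have hX1 := Char.IsCharacter.norm_le (Char.IsIrrCharacter.isCharacter X.2) g
    rw [← charDegree_cast, Complex.natCast_re, hdY] at hY1
    rw [← charDegree_cast, Complex.natCast_re, hdX] at hX1
    push_cast at hY1 hX1
    have hYn := (abs_le.mp ((Complex.abs_re_le_norm _).trans hY1)).1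
    have hXn := (abs_le.mp ((Complex.abs_re_le_norm _).trans hX1)).1
    set yv := ((Y : G → ℂ) g).re
    set xv := ((X : G → ℂ) g).re
    have h1 := hineq g hg
    have hd1 : (0 : ℝ) < 4 * e + 1 := by linarith
    have hd3 : (0 : ℝ) < 4 * e + 3 := by linarith
    have hq1 : -((e : ℝ) + 1) ≤ (e + 1) * yv / (4 * e + 1) := by
      rw [le_div_iff₀ hd1]
      linarith [mul_le_mul_of_nonneg_left hYn (show (0 : ℝ) ≤ e + 1 by linarith)]
    have hq2 : -(e : ℝ) ≤ e * xv / (4 * e + 3) := by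
      rw [le_div_iff₀ hd3]
      linarith [mul_le_mul_of_nonneg_left hXn (show (0 : ℝ) ≤ (e : ℝ) by linarith)]
    by_contra hbig
    rw [not_le] at hbig
    set n : ℝ := |(a g : ℝ)| with hn
    have hn2 : (a g : ℝ) ^ 2 = n ^ 2 := (sq_abs _).symm
    have hn4 : (4 : ℝ) ≤ n := by
      have h4 : (4 : ℤ) ≤ |a g| := by
        by_contra hlt4
        have h5 : ((|a g| : ℤ) : ℝ) ≤ ((3 : ℤ) : ℝ) := Int.cast_le.mpr (by omega)
        rw [Int.cast_abs, Int.cast_ofNat] at h5
        nlinarith [sq_abs (a g : ℝ), abs_nonneg (a g : ℝ)]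
      rw [hn, ← Int.cast_abs]
      exact_mod_cast h4
    have hne : (|a g| : ℤ) ≤ e := a_lt h D hA hfaith hg hg1
    obtain ⟨c, hc, hc4⟩ : ∃ c : ℕ, n = (e : ℝ) + 1 - c ∧ 1 ≤ c ∧ c ≤ 4 := by
      refine ⟨((e : ℤ) + 1 - |a g|).toNat, ?_, by omega, ?_⟩
      · have h6 : (((((e : ℤ) + 1 - |a g|).toNat : ℕ) : ℤ) : ℝ) = (((e : ℤ) + 1 - |a g| : ℤ) : ℝ) := by
          rw [Int.toNat_of_nonneg (by omega)]
        push_cast at h6
        rw [hn]; linarith
      · by_contra hc5
        have h7 : ((|a g| : ℤ) : ℝ) ≤ (((e : ℤ) - 4 : ℤ) : ℝ) := Int.cast_le.mpr (by omega)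
        rw [Int.cast_abs] at h7
        push_cast at h7
        rw [hn2] at h1
        nlinarith [mul_nonneg (show (0 : ℝ) ≤ n - 4 by linarith) (show (0 : ℝ) ≤ (e : ℝ) - 4 - n by rw [hn]; linarith)]
    -- the falls
    set Kc : ℝ := ((e : ℝ) + 1) ^ 2 - n ^ 2 with hKc
    have hYfall : (4 * (e : ℝ) + 1) - yv ≤ Kc := by
      have h2 := constituent_fall (isCharacter_prod h A A 1 b) Y g
      rw [hdY, (deg_A h D hA 1).1, (deg_A h D hA b).1, A.reg b 1 g hg, D.val g hg] at h2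
      push_cast at h2
      simp only [Complex.mul_re, Complex.intCast_re, Complex.intCast_im, Complex.add_re, Complex.natCast_re,
        Complex.one_re, Complex.add_im, Complex.natCast_im, Complex.one_im] at h2
      have h3 : (1 : ℝ) ≤ (cm (fun g => (A.exc 1 : G → ℂ) g * (A.exc b : G → ℂ) g) Y : ℝ) := by
        exact_mod_cast Nat.one_le_iff_ne_zero.mpr hcmY
      have h4 : 0 ≤ 4 * (e : ℝ) + 1 - yv := by
        linarith [(Complex.re_le_norm ((Y : G → ℂ) g)).trans hY1]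
      nlinarith [sq_abs (a g : ℝ)]
    have hXfall : (4 * (e : ℝ) + 3) - xv ≤ (Kc + 2 * ((e : ℝ) + 1)) / 2 := by
      have hsq2 := Char.IsCharacter.norm_le hzc (g ^ 2)
      rw [hz1, Complex.natCast_re] at hsq2
      push_cast at hsq2
      obtain ⟨hs1, hs2⟩ := abs_le.mp ((Complex.abs_re_le_norm _).trans hsq2)
      have hzg : z g = (a g : ℂ) := D.val g hg
      have h4 : 0 ≤ 4 * (e : ℝ) + 3 - xv := by
        linarith [(Complex.re_le_norm ((X : G → ℂ) g)).trans hX1]
      have hcs := cm_squares hzc X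
      rcases Nat.eq_zero_or_pos (cm (DegPMinusTwo.extSq z) X) with h0 | h0
      · have hs : 1 ≤ cm (symSq z) X := by
          rw [h0, zero_add] at hcs
          rw [← hcs]; exact Nat.one_le_iff_ne_zero.mpr hcmX
        have h2 := constituent_fall (isCharacter_symSq hzc) X g
        rw [hdX, symSq, symSq, one_pow, hz1, hzg] at h2
        push_cast at h2
        simp only [Complex.div_ofNat_re, Complex.add_re, pow_two, Complex.mul_re, Complex.intCast_re, Complex.intCast_im,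
          Complex.natCast_re, Complex.natCast_im, Complex.one_re, Complex.one_im, Complex.add_im] at h2
        have h3 : (1 : ℝ) ≤ (cm (symSq z) X : ℝ) := by exact_mod_cast hs
        change (cm (symSq z) X : ℝ) * (4 * (e : ℝ) + 3 - xv) ≤ _ at h2
        rw [pow_two g] at hs1 hs2
        nlinarith [mul_le_mul_of_nonneg_right h3 h4]
      · have h2 := constituent_fall (DegPMinusTwo.isCharacter_extSq hzc) X g
        rw [hdX, DegPMinusTwo.extSq, DegPMinusTwo.extSq, one_pow, hz1, hzg] at h2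
        push_cast at h2
        simp only [Complex.div_ofNat_re, Complex.sub_re, Complex.add_re, pow_two, Complex.mul_re, Complex.intCast_re,
          Complex.intCast_im, Complex.natCast_re, Complex.natCast_im, Complex.one_re, Complex.one_im, Complex.add_im] at h2
        have h3 : (1 : ℝ) ≤ (cm (DegPMinusTwo.extSq z) X : ℝ) := by exact_mod_cast h0
        change (cm (DegPMinusTwo.extSq z) X : ℝ) * (4 * (e : ℝ) + 3 - xv) ≤ _ at h2
        rw [pow_two g] at hs1 hs2
        nlinarith [mul_le_mul_of_nonneg_right h3 h4]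
    -- the contradiction
    have h8 : (c : ℝ) * (e + 2 - c) ≤ ((e : ℝ) + 1) * Kc / (4 * e + 1) + e * ((Kc + 2 * (e + 1)) / 2) / (4 * e + 3) := by
      have e1 : ((e : ℝ) + 1) * ((4 * e + 1) - yv) / (4 * e + 1) = ((e : ℝ) + 1) - (e + 1) * yv / (4 * e + 1) := by
        field_simp
      have e2 : (e : ℝ) * ((4 * e + 3) - xv) / (4 * e + 3) = (e : ℝ) - e * xv / (4 * e + 3) := by
        field_simp
      have f1 := div_le_div_of_nonneg_right (mul_le_mul_of_nonneg_left hYfall (show (0 : ℝ) ≤ e + 1 by linarith)) hd1.le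
      have f2 := div_le_div_of_nonneg_right (mul_le_mul_of_nonneg_left hXfall (show (0 : ℝ) ≤ (e : ℝ) by linarith)) hd3.le
      rw [hn2] at h1
      rw [hc] at h1
      nlinarith
    rw [hKc, hc, div_add_div _ _ hd1.ne' hd3.ne', le_div_iff₀ (mul_pos hd1 hd3)] at h8
    obtain ⟨hc1, hc4⟩ := hc4
    interval_cases c <;> push_cast at h8 <;> nlinarith
  -- the order is small
  set Rg := Finset.univ.filter (fun g : G => ¬ p ∣ orderOf g) with hRg
  have h1mem : (1 : G) ∈ Rg := Finset.mem_filter.mpr ⟨Finset.mem_univ _, one_regular h D hA⟩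
  have hS2 := sum_sq h D hA
  have hS4 := sum_four h D hA he (c := (e : ℝ) / 2 + 1) (by rw [hinner]; push_cast; ring)
  have hupper : ∑ g ∈ Rg, (a g : ℝ) ^ 2 * ((a g : ℝ) ^ 2 - 9) ≤ (a 1 : ℝ) ^ 2 * ((a 1 : ℝ) ^ 2 - 9) := by
    rw [← Finset.add_sum_erase _ _ h1mem]
    have : ∑ g ∈ Rg.erase 1, (a g : ℝ) ^ 2 * ((a g : ℝ) ^ 2 - 9) ≤ 0 := Finset.sum_nonpos fun g hg => by
      obtain ⟨hg1, hg⟩ := Finset.mem_erase.mp hg
      exact mul_nonpos_of_nonneg_of_nonpos (sq_nonneg _)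
        (by linarith [hbound g (Finset.mem_filter.mp hg).2 hg1])
    linarith
  have hrw : ∀ g : G, (a g : ℝ) ^ 2 * ((a g : ℝ) ^ 2 - 9) = (a g : ℝ) ^ 4 - 9 * (a g : ℝ) ^ 2 := fun g => by ring
  simp only [hrw, Finset.sum_sub_distrib, ← Finset.mul_sum] at hupper
  rw [hRg, hS4, hS2, a_one h D hA, hpr] at hupper
  push_cast at hupper
  field_simp at hupper
  -- the divisors
  have hgcd : ∀ {u w k : ℕ}, (∀ r : ℕ, r ∣ u → r ∣ w → r ∣ k) → Nat.gcd u w ∣ k := fun hh =>
    hh _ (Nat.gcd_dvd_left _ _) (Nat.gcd_dvd_right _ _)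
  have hYd : (4 * e + 1) * (e + 1) ∣ 3 * Nat.card G := by
    rw [← Nat.gcd_mul_lcm (4 * e + 1) (e + 1)]
    refine Nat.mul_dvd_mul (hgcd fun r h1 h2 => ?_) (Nat.lcm_dvd hdvdY hdvdA)
    have := Nat.dvd_sub (h2.mul_left 4) h1
    rwa [show 4 * (e + 1) - (4 * e + 1) = 3 by omega] at this
  have hone : ∀ {u w : ℕ}, (∀ r : ℕ, r ∣ u → r ∣ w → r ∣ 1) → Nat.Coprime u w := fun hh => Nat.dvd_one.mp (hgcd hh)
  have c1 : Nat.Coprime p (4 * e + 1) := hone fun r h1 h2 => by
    have := Nat.dvd_sub (h1.mul_left 2) h2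
    rwa [show 2 * p - (4 * e + 1) = 1 by omega] at this
  have c2 : Nat.Coprime p (e + 1) := hone fun r h1 h2 => by
    have := Nat.dvd_sub (h2.mul_left 2) h1
    rwa [show 2 * (e + 1) - p = 1 by omega] at this
  have c3 : Nat.Coprime p (4 * e + 3) := hone fun r h1 h2 => by
    have := Nat.dvd_sub h2 (h1.mul_left 2)
    rwa [show 4 * e + 3 - 2 * p = 1 by omega] at this
  have c4 : Nat.Coprime (4 * e + 3) (e + 1) := hone fun r h1 h2 => by
    have := Nat.dvd_sub (h2.mul_left 4) h1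
    rwa [show 4 * (e + 1) - (4 * e + 3) = 1 by omega] at this
  have c5 : Nat.Coprime (4 * e + 3) (4 * e + 1) := hone fun r h1 h2 => by
    have h3 := Nat.dvd_sub h1 h2
    rw [show 4 * e + 3 - (4 * e + 1) = 2 by omega] at h3
    rcases (Nat.dvd_prime Nat.prime_two).mp h3 with h4 | h4
    · exact h4.dvd
    · rw [h4] at h2; omega
  have hpG : p ∣ 3 * Nat.card G := (h.hS.hx ▸ orderOf_dvd_natCard x).mul_left 3
  have htot : p * (4 * e + 3) * ((4 * e + 1) * (e + 1)) ∣ 3 * Nat.card G := by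
    refine Nat.Coprime.mul_dvd_of_dvd_of_dvd
      (Nat.Coprime.mul_left (c1.mul_right c2) (c5.mul_right c4)) ?_ hYd
    exact c3.mul_dvd_of_dvd_of_dvd hpG (hdvdX.mul_left 3)
  have hlow := Nat.le_of_dvd (Nat.mul_pos (by norm_num) Nat.card_pos) htot
  rw [← Nat.cast_le (α := ℝ)] at hlow
  push_cast at hlow
  rw [hpr] at hlow
  -- numbers
  have hcard : (0 : ℝ) ≤ (Nat.card G : ℝ) := Nat.cast_nonneg _
  have hq : (0 : ℝ) < (e : ℝ) * (e - 17) := mul_pos (by linarith) (by linarith)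
  have hlow' := mul_le_mul_of_nonneg_right hlow hq.le
  have hkey : 6 * ((e : ℝ) + 1) * ((e + 1) ^ 2 - 9) < (4 * e + 1) * (4 * e + 3) * (e * (e - 17)) := by
    nlinarith [mul_nonneg (show (0 : ℝ) ≤ (e : ℝ) - 18 by linarith) (show (0 : ℝ) ≤ (e : ℝ) by linarith),
      mul_nonneg (mul_nonneg (show (0 : ℝ) ≤ (e : ℝ) - 18 by linarith) (show (0 : ℝ) ≤ (e : ℝ) by linarith))
        (show (0 : ℝ) ≤ (e : ℝ) by linarith)]
  nlinarith [mul_lt_mul_of_pos_left hkey (show (0 : ℝ) < (2 * (e : ℝ) + 1) * (e + 1) by positivity)]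

end Cfsg.Agent.FeitSmall

namespace Cfsg.Agent.FeitSmall

open Cfsg Cfsg.Agent.Blocks Cfsg.Agent.CyclicDefect

variable {G : Type*} [Group G] [Fintype G] {p : ℕ} [Fact p.Prime] {x : G} {L : Subgroup G} {e : ℕ}
variable (h : CCore p x L e 2)
include h

/-- Two classes and an even index. -/
theorem two_even (he : Even e) (he6 : 6 ≤ e) {μ : K x L →* ℂ} (A : Fam h μ) (hA : A.Minus h) {c0 : T h.hS}
    (hfaith : ∀ g : G, (A.exc c0 : G → ℂ) g = (A.exc c0 : G → ℂ) 1 → g = 1) :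
    Nonempty ((G ⧸ Subgroup.center G) ≃* Matrix.ProjectiveSpecialLinearGroup (Fin 2) (ZMod p)) := by
  obtain ⟨rfl, hK⟩ := even_central h he he6 A hA hfaith
  obtain ⟨b, a, D⟩ := even_cases h he he6 hK A hA
  rcases D.cases with ⟨St, h1, h2, h3, h4, h5⟩ | ⟨Y, X, h1, h2, h3, h4, h5, h6⟩
  · exact steinberg_psl h D hA he hfaith St h1 h2 h3 h4 h5
  · exact (mixed_false h D hA he he6 hfaith Y X h1 h2 h3 h4 h5 h6).elim

end Cfsg.Agent.FeitSmall
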