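/-
Two classes and an odd index (namespace `Cfsg.Agent.FeitSmall`).

Main results: `center_quot_bot`, `two_odd`.
-/
import Cfsg.Agent.Lib.FeitSmall.Inequality
import Cfsg.Agent.Lib.FeitSmall.DegreePlus
import Cfsg.Agent.S4504

set_option autoImplicit false
set_option linter.unusedSectionVars false
set_option linter.style.haveILetI false

open scoped ComplexConjugate
open scoped commutatorElement

namespace Cfsg.Agent.FeitSmall

open Cfsg Cfsg.Agent.Blocks Cfsg.Agent.CyclicDefect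

variable {G : Type*} [Group G]

/-- Grün's lemma. -/
theorem center_quot_bot (hperf : commutator G = ⊤) : Subgroup.center (G ⧸ Subgroup.center G) = ⊥ := by
  refine (Subgroup.eq_bot_iff_forall _).mpr fun q hq => ?_
  obtain ⟨n, rfl⟩ := QuotientGroup.mk'_surjective _ q
  refine (QuotientGroup.eq_one_iff n).mpr ?_
  have hstep : ∀ b : G, n * b * n⁻¹ * b⁻¹ ∈ Subgroup.center G := fun b => by
    rw [← QuotientGroup.eq_one_iff]
    have hc := Subgroup.mem_center_iff.mp hq (QuotientGroup.mk' _ b)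
    show QuotientGroup.mk' (Subgroup.center G) (n * b * n⁻¹ * b⁻¹) = 1
    simp only [map_mul, map_inv, ← hc]
    group
  let δ : G →* Subgroup.center G :=
    { toFun := fun b => ⟨n * b * n⁻¹ * b⁻¹, hstep b⟩
      map_one' := Subtype.ext (by simp)
      map_mul' := fun b b' => Subtype.ext (by
        show n * (b * b') * n⁻¹ * (b * b')⁻¹ = (n * b * n⁻¹ * b⁻¹) * (n * b' * n⁻¹ * b'⁻¹)
        have hc := Subgroup.mem_center_iff.mp (hstep b') (b⁻¹)
        rw [mul_assoc (n * b * n⁻¹) b⁻¹, hc]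
        group) }
  letI : CommGroup (Subgroup.center G) :=
    { (inferInstance : Group (Subgroup.center G)) with
      mul_comm := fun u v => Subtype.ext (Subgroup.mem_center_iff.mp v.2 u) }
  refine Subgroup.mem_center_iff.mpr fun a => ?_
  have h1 : n * a * n⁻¹ * a⁻¹ = 1 := congrArg Subtype.val (MonoidHom.mem_ker.mp
    (Abelianization.commutator_subset_ker δ (hperf ▸ Subgroup.mem_top a)))
  rw [mul_inv_eq_one, mul_inv_eq_iff_eq_mul] at h1
  exact h1.symm

variable [Fintype G] {p : ℕ} [Fact p.Prime] {x : G} {L : Subgroup G} {e : ℕ}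
variable (h : CCore p x L e 2)
include h

/-- An exceptional character of degree `e` gives the projective special linear group. -/
theorem two_odd_zero (hgen : Subgroup.closure {g : G | orderOf g = p} = ⊤) {μ : K x L →* ℂ} (A : Fam h μ)
    (hA : A.Minus h) {c0 : T h.hS}
    (hfaith : ∀ g : G, (A.exc c0 : G → ℂ) g = (A.exc c0 : G → ℂ) 1 → g = 1)
    (C : Fam h (1 : K x L →* ℂ)) (hC : C.M = 0) :
    Nonempty ((G ⧸ Subgroup.center G) ≃* Matrix.ProjectiveSpecialLinearGroup (Fin 2) (ZMod p)) := by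
  have hp : p.Prime := Fact.out
  have he2 := h.he2
  have hpe := p_two h
  set θ := C.exc 1
  have hε : C.ε = 1 := C.hε.resolve_right fun e' => by have := C.M_pos_of_neg h e'; omega
  have hθ : charDegree (θ : G → ℂ) = e := by
    have h1 := C.deg h 1
    rw [hC, hε] at h1
    push_cast at h1
    rw [show θ = C.exc 1 from rfl]
    omega
  have hd : charDegree (A.exc c0 : G → ℂ) = e + 1 := by
    have h1 := A.deg h c0
    rw [hA.m, hA.eps] at h1
    push_cast at h1
    omega
  set Z := Subgroup.center G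
  have hker : ∀ g : G, (θ : G → ℂ) g = (θ : G → ℂ) 1 ↔ g ∈ Z := by
    intro g
    constructor
    · intro hg
      by_cases hpN : p ∣ Nat.card (Codegree.kerSub θ)
      · exfalso
        obtain ⟨a, ha⟩ := exists_prime_orderOf_dvd_card' p hpN
        obtain ⟨c, hc⟩ := HalfDegree.exists_conj_mem h.hS (show orderOf (a : G) = p by rw [Subgroup.orderOf_coe, ha])
        haveI := Codegree.kerSub_normal θ
        have h1 : Subgroup.zpowers (c * (a : G) * c⁻¹) = Subgroup.zpowers x := Subgroup.eq_of_le_of_card_ge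
          (Subgroup.zpowers_le.mpr hc) (by
            rw [Nat.card_zpowers, Nat.card_zpowers, SecondMain.orderOf_conj, Subgroup.orderOf_coe, ha, h.hS.hx])
        have hxN : x ∈ Codegree.kerSub θ := (Subgroup.zpowers_le.mpr
          ((Codegree.kerSub_normal θ).conj_mem _ a.2 c)) (h1 ▸ Subgroup.mem_zpowers x)
        exact oneG_notMem h C ⟨1, eq_one_of_apply h.hS hgen (Codegree.mem_kerSub.mp hxN)⟩
      · haveI := Codegree.kerSub_normal θ
        have hle : Subgroup.closure {a : G | orderOf a = p} ≤ Subgroup.centralizer ({g} : Set G) :=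
          (Subgroup.closure_le _).mpr fun a ha => Subgroup.mem_centralizer_singleton_iff.mpr
            (HalfDegree.centralizes_of_coprime (Char.IsIrrCharacter.isCharacter (A.exc c0).2) hfaith hd (by omega) _ hpN
              ha (Codegree.mem_kerSub.mpr hg))
        rw [hgen] at hle
        exact Subgroup.mem_center_iff.mpr fun a => Subgroup.mem_centralizer_singleton_iff.mp (hle (Subgroup.mem_top a))
    · intro hg
      obtain ⟨k, hk⟩ := exists_K_of_center h hg
      rw [hk, show ((k : L) : G) = 1 * ((k : L) : G) from (one_mul _).symm, C.cent 1 1 k, MonoidHom.one_apply, mul_one]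
  obtain ⟨θ', hθ', hval⟩ := HalfDegree.exists_descend (QuotientGroup.mk' Z) (QuotientGroup.mk'_surjective _)
    (Char.IsIrrCharacter.isCharacter θ.2) fun z hz => (hker z).mpr ((QuotientGroup.eq_one_iff z).mp hz)
  haveI := Fintype.ofFinite (G ⧸ Z)
  have hdeg' : charDegree θ' = e := by
    apply Nat.cast_injective (R := ℂ)
    rw [RealBlock.charDegree_cast hθ', ← map_one (QuotientGroup.mk' Z), hval, ← hθ, charDegree_cast]
  have hpZ : ¬ p ∣ Nat.card Z := fun hd' => by
    refine h.hS.hcop (hd'.trans (Subgroup.card_dvd_of_le fun z hz => ?_))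
    obtain ⟨k, hk⟩ := exists_K_of_center h hz
    rw [hk]
    exact SetLike.coe_mem _
  have hcard := Subgroup.card_eq_card_quotient_mul_card_subgroup Z
  have hdiv : p ∣ Nat.card (G ⧸ Z) := by
    refine (hp.dvd_mul.mp ?_).resolve_right hpZ
    rw [← hcard, ← h.hS.hx]
    exact orderOf_dvd_natCard x
  have hsq : ¬ p ^ 2 ∣ Nat.card (G ⧸ Z) := fun hd' => h.hS.hsq (hd'.trans ⟨_, hcard⟩)
  have hperfQ : commutator (G ⧸ Z) = ⊤ := by
    rw [commutator_def, ← Subgroup.map_top_of_surjective (QuotientGroup.mk' Z) (QuotientGroup.mk'_surjective _),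
      ← Subgroup.map_commutator, ← commutator_def, h.hperf]
  have hnn : ∀ H : Subgroup (G ⧸ Z), H.Normal → Nat.card H ≠ p := by
    intro H hH hcH
    haveI := hH
    set N := H.comap (QuotientGroup.mk' Z)
    have hN : p ∣ Nat.card N := by
      refine dvd_trans ?_ (Subgroup.card_dvd_of_surjective ((QuotientGroup.mk' Z).subgroupComap H) ?_)
      · rw [hcH]
      · rintro ⟨q, hq⟩
        obtain ⟨g, rfl⟩ := QuotientGroup.mk'_surjective Z q
        exact ⟨⟨g, hq⟩, rfl⟩
    obtain ⟨a, ha⟩ := exists_prime_orderOf_dvd_card' p hN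
    have ha' : orderOf (a : G) = p := by rw [Subgroup.orderOf_coe, ha]
    obtain ⟨c, hc⟩ := HalfDegree.exists_conj_mem h.hS ha'
    have h1 : Subgroup.zpowers (c * (a : G) * c⁻¹) = Subgroup.zpowers x := Subgroup.eq_of_le_of_card_ge
      (Subgroup.zpowers_le.mpr hc) (by rw [Nat.card_zpowers, Nat.card_zpowers, SecondMain.orderOf_conj, ha', h.hS.hx])
    have hNn : N.Normal := inferInstance
    have hxN : x ∈ N := (Subgroup.zpowers_le.mpr (hNn.conj_mem _ a.2 c)) (h1 ▸ Subgroup.mem_zpowers x)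
    have hNtop : N = ⊤ := by
      rw [eq_top_iff, ← hgen, Subgroup.closure_le]
      intro g hg
      obtain ⟨c', hc'⟩ := HalfDegree.exists_conj_mem h.hS hg
      have := hNn.conj_mem' _ (Subgroup.zpowers_le.mpr hxN hc') c'
      rwa [show c'⁻¹ * (c' * g * c'⁻¹) * c' = g by group] at this
    have hHtop : H = ⊤ := top_le_iff.mp fun q _ => by
      obtain ⟨g, rfl⟩ := QuotientGroup.mk'_surjective Z q
      exact (hNtop.symm ▸ Subgroup.mem_top g : g ∈ N)
    rw [hHtop, Subgroup.card_top] at hcH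
    haveI : IsCyclic (G ⧸ Z) := isCyclic_of_prime_card hcH
    letI : CommGroup (G ⧸ Z) := IsCyclic.commGroup
    have hbot : commutator (G ⧸ Z) = ⊥ := by
      rw [commutator_def, Subgroup.commutator_eq_bot_iff_le_centralizer]
      exact fun a _ => Subgroup.mem_centralizer_iff.mpr fun b _ => mul_comm b a
    rw [hperfQ] at hbot
    have h2 : Nat.card (G ⧸ Z) = 1 := by
      rw [← Subgroup.card_top, hbot, Subgroup.card_bot]
    rw [hcH] at h2
    exact hp.ne_one h2
  have hfaith' : ∀ q : G ⧸ Z, θ' q = θ' 1 → q = 1 := fun q hq => by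
    obtain ⟨g, rfl⟩ := QuotientGroup.mk'_surjective Z q
    rw [hval, ← map_one (QuotientGroup.mk' Z), hval] at hq
    exact (QuotientGroup.eq_one_iff g).mpr ((hker g).mp hq)
  obtain ⟨φ⟩ := Cfsg.Agent.S4504.result p hp hdiv hsq hnn θ' hθ' hfaith' (by omega)
  exact ⟨(QuotientGroup.quotientBot.symm.trans
    (QuotientGroup.quotientMulEquivOfEq (center_quot_bot h.hperf).symm)).trans φ⟩

set_option maxHeartbeats 3000000 in
open scoped Classical in
/-- The principal exceptional characters have no line. -/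
theorem two_odd_pos (he : ¬ Even e) (he5 : 5 ≤ e)
    {μ : K x L →* ℂ} (A : Fam h μ) (hA : A.Minus h) (C : Fam h (1 : K x L →* ℂ)) (hCM : 1 ≤ C.M) : False := by
  have := Fintype.ofFinite (IrrCharacter G)
  have hpe := p_two h
  obtain ⟨i, hi⟩ := Nat.not_even_iff_odd.mp he
  obtain ⟨b, hb, hT⟩ := exists_other h
  have hbb := other_mul_self h hb hT
  have hneg : negOne (U0 h.hS) = b := (hT _).resolve_left (negOne_ne_one h he (p_ne_two h))
  set B := conjFam h A with hBdef
  have hB : B.Minus h := ⟨hA.eps, hA.m⟩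
  have hν : μ * (starRingEnd ℂ).toMonoidHom.comp μ = 1 := MonoidHom.ext fun k => norm_hom h μ k
  obtain ⟨k, hk, hbd⟩ := principal_shift h A C hA rfl hCM
  rw [← hBdef] at hk hbd
  have hB1 : ∀ g : G, (B.exc 1 : G → ℂ) g = conj ((A.exc b : G → ℂ) g) := fun g => by
    show (conjIrr (A.exc (negOne (U0 h.hS) * 1)) : G → ℂ) g = _
    rw [hneg, mul_one]; rfl
  have hBb : ∀ g : G, (B.exc b : G → ℂ) g = conj ((A.exc 1 : G → ℂ) g) := fun g => by
    show (conjIrr (A.exc (negOne (U0 h.hS) * b)) : G → ℂ) g = _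
    rw [hneg, hbb]; rfl
  -- the shift
  have hoff := shift_total h A B C hA hB hk 1 1
  have hdiag := shift_total h A B C hA hB hk 1 b
  rw [if_neg (by rw [hneg, mul_one]; exact hb.symm)] at hoff
  rw [if_pos (by rw [hneg, mul_one])] at hdiag
  have hb1 := hbd 1 1
  have hb2 := hbd 1 b
  obtain ⟨hε, hS1, hS2, hki⟩ : C.ε = 1 ∧
      ∑ γ, cm (fun g => (A.exc 1 : G → ℂ) g * (B.exc 1 : G → ℂ) g) (C.exc γ) = 1 ∧
      ∑ γ, cm (fun g => (A.exc 1 : G → ℂ) g * (B.exc b : G → ℂ) g) (C.exc γ) = 0 ∧ k = -(i : ℤ) := by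
    rcases C.hε with e' | e' <;> rw [e'] at hoff hdiag <;> simp only [Nat.cast_ofNat] at hoff hdiag
    · exact ⟨e', by omega, by omega, by omega⟩
    · exfalso; omega
  have hnu : ∀ γ : T h.hS, nu (U0 h.hS) 1 b γ = i := by
    intro γ
    have h1 := hk 1 b γ
    rw [hε, hA.eps, hB.eps, hki, Finset.sum_eq_zero_iff.mp hS2 γ (Finset.mem_univ _)] at h1
    push_cast at h1
    omega
  -- the three products
  set F : G → ℂ := fun g => (A.exc 1 : G → ℂ) g * (B.exc 1 : G → ℂ) g with hFdef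
  set f : G → ℂ := fun g => (A.exc 1 : G → ℂ) g * (B.exc b : G → ℂ) g with hfdef
  set f' : G → ℂ := fun g => (A.exc b : G → ℂ) g * (B.exc 1 : G → ℂ) g with hf'def
  have hFc : IsCharacter G F := isCharacter_prod h A B 1 1
  have hfc : IsCharacter G f := isCharacter_prod h A B 1 b
  have hFμ : Cent (1 : K x L →* ℂ) F := hν ▸ cent_prod h A B 1 1
  have hfμ : Cent (1 : K x L →* ℂ) f := hν ▸ cent_prod h A B 1 b
  have hpc : (p : ℂ) = 2 * e + 1 := by exact_mod_cast hpe
  have hd : ∀ c : T h.hS, (A.exc c : G → ℂ) 1 = ((e + 1 : ℕ) : ℂ) ∧ (B.exc c : G → ℂ) 1 = ((e + 1 : ℕ) : ℂ) := fun c => by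
    rw [deg_minus h A hA, deg_minus h B hB, hpc]
    constructor <;> push_cast <;> ring
  have hF1 : F 1 = (((e + 1) * (e + 1) : ℕ) : ℂ) := by
    simp only [hFdef, (hd 1).1, (hd 1).2]; push_cast; ring
  have hf1 : f 1 = (((e + 1) * (e + 1) : ℕ) : ℂ) := by
    simp only [hfdef, (hd 1).1, (hd b).2]; push_cast; ring
  have hF0 : mu x F (0 : ZMod p) = ((1 : ℕ) : ℂ) := by
    rw [hFdef, mu_prod_zero h A B hA hB, if_neg (by rw [hneg, mul_one]; exact hb.symm)]
    push_cast
    rw [hpc]; ring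
  have hf0 : mu x f (0 : ZMod p) = ((e + 1 : ℕ) : ℂ) := by
    rw [hfdef, mu_prod_zero h A B hA hB, if_pos (by rw [hneg, mul_one])]
    push_cast
    rw [hpc]; ring
  have hfu : ∀ u : (ZMod p)ˣ, mu x f (u : ZMod p) = ((i + 1 : ℕ) : ℂ) := fun u => by
    rw [hfdef, mu_prod h, hA.eps, hA.m, hB.eps, hB.m, nuAt_eq (U0 h.hS) ((unit_mem_cs (U0 h.hS)).mpr rfl), hnu]
    push_cast
    rw [hpc]; ring
  have hf'u : ∀ u : (ZMod p)ˣ, mu x f' (u : ZMod p) = ((i + 1 : ℕ) : ℂ) := fun u => by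
    rw [hf'def, mu_prod h, hA.eps, hA.m, hB.eps, hB.m, nuAt_eq (U0 h.hS) ((unit_mem_cs (U0 h.hS)).mpr rfl), nu_comm, hnu]
    push_cast
    rw [hpc]; ring
  have hf'0 : mu x f' (0 : ZMod p) = ((e + 1 : ℕ) : ℂ) := by
    rw [hf'def, mu_prod_zero h A B hA hB, if_pos (by rw [hneg, hbb])]
    push_cast
    rw [hpc]; ring
  have hff : f = f' := by
    refine ext_of_mu h (Char.IsCharacter.isClassFunction hfc)
      (Char.IsCharacter.isClassFunction (isCharacter_prod h A B b 1)) hfμ (hν ▸ cent_prod h A B b 1) (fun g hg => ?_)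
      fun j => ?_
    · simp only [hfdef, hf'def]
      rw [A.reg 1 b g hg, B.reg b 1 g hg]
    · by_cases hj : j = 0
      · rw [hj, hf0, hf'0]
      · rw [← Units.val_mk0 hj, hfu, hf'u]
  -- the first product
  obtain ⟨γ0, -, hγ0⟩ := Finset.exists_ne_zero_of_sum_ne_zero (hS1.trans_ne one_ne_zero)
  set θ := C.exc γ0 with hθdef
  have hθ0 : N h θ 0 = C.M := by
    have := C.row γ0 0
    rw [ind_zero h, mul_zero, add_zero] at this
    exact_mod_cast this
  have hFN := sum_N_eq h hFc hF0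
  rw [← Finset.add_sum_erase _ _ (Finset.mem_univ θ)] at hFN
  have hθpos : 1 ≤ cm F θ * N h θ 0 := Nat.mul_pos (Nat.pos_of_ne_zero hγ0) (by omega)
  have hθone : cm F θ * N h θ 0 = 1 := by omega
  have hθcm : cm F θ = 1 := Nat.eq_one_of_mul_eq_one_right hθone
  have hM : C.M = 1 := by rw [← hθ0]; exact Nat.eq_one_of_mul_eq_one_left hθone
  have hθdeg : charDegree (θ : G → ℂ) = 3 * e + 1 := by
    have h1 := C.deg h γ0
    rw [hM, hε] at h1
    push_cast at h1
    rw [← hθdef] at h1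
    omega
  set SF := (Finset.univ.erase θ).filter fun χ => cm F χ ≠ 0 with hSF
  have hSFm : ∀ χ ∈ SF, N h χ 0 = 0 ∧ Cent (1 : K x L →* ℂ) (χ : G → ℂ) ∧ χ ∉ Set.range C.exc ∧
      charDegree (χ : G → ℂ) = 2 * e ∧ ∃ u : (ZMod p)ˣ, N h χ (u : ZMod p) ≠ N h χ 0 := by
    intro χ hχ
    obtain ⟨hχ1, hne⟩ := Finset.mem_filter.mp hχ
    have hN : N h χ 0 = 0 := (Nat.mul_eq_zero.mp (Finset.sum_eq_zero_iff.mp
      (show ∑ χ ∈ Finset.univ.erase θ, cm F χ * N h χ 0 = 0 by omega) χ hχ1)).resolve_left hne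
    have hc := cent_of_cm h hFc hFμ hne
    have hn : χ ∉ Set.range C.exc := by
      rintro ⟨c, rfl⟩
      have := C.row c 0
      rw [ind_zero h, mul_zero, add_zero, hN, hM] at this
      norm_num at this
    obtain ⟨δ, hδ, hrow, -, hdeg, -⟩ := exists_cst h C hc hn
    rw [hN, Nat.cast_zero, mul_zero, zero_add] at hdeg
    have hpos := charDegree_pos χ
    have hδ1 : δ = 1 := by
      rcases hδ with e' | e' | e'
      · rw [e'] at hdeg; omega
      · exact e'
      · rw [e'] at hdeg; omega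
    refine ⟨hN, hc, hn, by rw [hδ1] at hdeg; omega, 1, fun e' => ?_⟩
    have := hrow 1
    rw [e', hδ1] at this
    omega
  have hFsum : ∀ v : IrrCharacter G → ℂ, ∑ χ : IrrCharacter G, (cm F χ : ℂ) * v χ =
      v θ + ∑ χ ∈ SF, (cm F χ : ℂ) * v χ := fun v => by
    rw [← Finset.add_sum_erase _ _ (Finset.mem_univ θ), hθcm, Nat.cast_one, one_mul, hSF,
      Finset.sum_filter_of_ne (p := fun χ => cm F χ ≠ 0) fun χ _ hne h0 => hne (by rw [h0, Nat.cast_zero, zero_mul])]
  have hT1 : ∑ χ ∈ SF, cm F χ = i := by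
    have h1 := sum_deg_eq hFc hF1
    rw [← Finset.add_sum_erase _ _ (Finset.mem_univ θ), hθcm, hθdeg, one_mul,
      ← Finset.sum_filter_of_ne (p := fun χ => cm F χ ≠ 0) (fun χ _ hne h0 => hne (by rw [h0, zero_mul])),
      ← hSF, Finset.sum_congr rfl (g := fun χ => cm F χ * (2 * e)) fun χ hχ => by rw [(hSFm χ hχ).2.2.2.1],
      ← Finset.sum_mul, hi] at h1
    set T1 := ∑ χ ∈ SF, cm F χ
    refine Nat.eq_of_mul_eq_mul_left (show 0 < 2 * (2 * i + 1) by omega) ?_
    linarith
  -- the second product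
  set one := oneIrr G with honedef
  have hone1 : cm f one = 1 := by
    apply Nat.cast_injective (R := ℂ)
    rw [← cm_spec hfc, Nat.cast_one, ← Char.classInner_irr_self (A.exc 1).2, classInner, classInner]
    congr 1
    refine Finset.sum_congr rfl fun g _ => ?_
    simp [hfdef, honedef, hBb g]
  have hone0 : N h one 0 = 1 := by rw [honedef, N_one h, if_pos rfl]
  have honed : charDegree (one : G → ℂ) = 1 := by
    apply Nat.cast_injective (R := ℂ)
    rw [charDegree_cast, Nat.cast_one]; rfl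
  set SP := (Finset.univ.erase one).filter fun χ => cm f χ ≠ 0 with hSP
  have hfsum : ∀ v : IrrCharacter G → ℂ, ∑ χ : IrrCharacter G, (cm f χ : ℂ) * v χ =
      v one + ∑ χ ∈ SP, (cm f χ : ℂ) * v χ := fun v => by
    rw [← Finset.add_sum_erase _ _ (Finset.mem_univ one), hone1, Nat.cast_one, one_mul, hSP,
      Finset.sum_filter_of_ne (p := fun χ => cm f χ ≠ 0) fun χ _ hne h0 => hne (by rw [h0, Nat.cast_zero, zero_mul])]
  -- the lines
  obtain ⟨ω, hω, -, hωv⟩ := exists_unique_line h A hA.m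
  set ω' : L →* ℂ := (starRingEnd ℂ).toMonoidHom.comp ω with hω'def
  have hBv : ∀ c (l : L), l ∉ K x L → (B.exc c : G → ℂ) (l : G) = ω' l := fun c l hl => congrArg conj (hωv _ l hl)
  have hωω : ω * ω' = 1 := MonoidHom.ext fun l => by
    show ω l * conj (ω l) = 1
    have h1 : ω l ^ Nat.card L = 1 := by rw [← map_pow, pow_card_eq_one', map_one]
    rw [Complex.mul_conj', Complex.norm_eq_one_of_pow_eq_one h1 Nat.card_pos.ne']
    norm_num
  have hmem : ∀ χ ∈ SP, ∃ δ : ℤ, (δ = 0 ∨ δ = 1 ∨ δ = -1) ∧ (∀ u : (ZMod p)ˣ, (N h χ (u : ZMod p) : ℤ) = N h χ 0 + δ) ∧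
      (charDegree (χ : G → ℂ) : ℤ) = (p : ℤ) * N h χ 0 + δ * (2 * e) ∧ 0 ≤ (N h χ 0 : ℤ) + δ - 1 ∧
      Cent (1 : K x L →* ℂ) (χ : G → ℂ) ∧ χ ∉ Set.range C.exc ∧
      (∀ ψ : L →* ℂ, cm f χ * lines p x (χ : G → ℂ) ψ ≤ 1) := by
    intro χ hχ
    obtain ⟨hχ1, hne⟩ := Finset.mem_filter.mp hχ
    have hc := cent_of_cm h hfc hfμ hne
    have hn : χ ∉ Set.range C.exc := by
      rintro ⟨c, rfl⟩
      exact hne (Finset.sum_eq_zero_iff.mp hS2 c (Finset.mem_univ _))
    obtain ⟨δ, hδ, hrow, -, hdeg, hminus⟩ := exists_cst h C hc hn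
    refine ⟨δ, hδ, hrow, hdeg, ?_, hc, hn, fun ψ => ?_⟩
    · have hpos := charDegree_pos χ
      rcases hδ with e' | e' | e' <;> rw [e'] at hdeg ⊢
      · rcases Nat.eq_zero_or_pos (N h χ 0) with h0 | h0
        · rw [h0] at hdeg; simp at hdeg; omega
        · omega
      · omega
      · have := hminus e' (Finset.ne_of_mem_erase hχ1); omega
    · by_cases hψ : lines p x (χ : G → ℂ) ψ = 0
      · simp [hψ]
      have hψK : ∀ z : K x L, ψ (z : L) = (1 : K x L →* ℂ) z :=
        line_central h (Char.IsIrrCharacter.isCharacter χ.2) hc hψ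
      have hl := lines_prod h A B hA hB hω (ω' := ω') (fun z => congrArg conj (hω z)) hωv hBv 1 b (ψ := ψ)
        (fun z => (hψK z).trans (by rw [hν]))
      rw [if_pos (by rw [hneg, mul_one]), hωω] at hl
      change (lines p x f ψ : ℤ) = _ at hl
      have h2 := lines_eq_sum h hfc ψ
      rw [← Finset.add_sum_erase _ _ (Finset.mem_univ one), hone1, one_mul] at h2
      have h3 := Finset.single_le_sum (f := fun φ => cm f φ * lines p x (φ : G → ℂ) ψ) (fun _ _ => Nat.zero_le _) hχ1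
      by_cases h1 : (1 : L →* ℂ) = ψ
      · rw [if_pos h1] at hl
        rw [← h1, show lines p x (one : G → ℂ) (1 : L →* ℂ) = 1 from lines_one h] at h2
        rw [← h1] at hl h3 ⊢
        push_cast at hl
        omega
      · rw [if_neg h1] at hl
        push_cast at hl
        omega
  choose! δ hδ hrow hdeg hpos hcent hrange hline using hmem
  have hfN : ∑ χ ∈ SP, (cm f χ : ℤ) * N h χ 0 = e := by
    have h1 := sum_N_eq h hfc hf0
    rw [← Finset.add_sum_erase _ _ (Finset.mem_univ one), hone1, hone0,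
      ← Finset.sum_filter_of_ne (p := fun χ => cm f χ ≠ 0) (fun χ _ hne h0 => hne (by rw [h0, zero_mul])), ← hSP] at h1
    have h2 : ((∑ χ ∈ SP, cm f χ * N h χ 0 : ℕ) : ℤ) = e := by omega
    push_cast at h2
    exact h2
  have hfδ : ∑ χ ∈ SP, (cm f χ : ℤ) * δ χ = -(i : ℤ) := by
    have h1 := sum_deg_eq hfc hf1
    rw [← Finset.add_sum_erase _ _ (Finset.mem_univ one), hone1, honed,
      ← Finset.sum_filter_of_ne (p := fun χ => cm f χ ≠ 0) (fun χ _ hne h0 => hne (by rw [h0, zero_mul])), ← hSP] at h1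
    have h2 := congrArg (Nat.cast (R := ℤ)) h1
    push_cast at h2
    rw [Finset.sum_congr rfl (g := fun χ => (p : ℤ) * ((cm f χ : ℤ) * N h χ 0) + (2 * e) * ((cm f χ : ℤ) * δ χ))
      fun χ hχ => by rw [hdeg χ hχ]; ring, Finset.sum_add_distrib, ← Finset.mul_sum, ← Finset.mul_sum, hfN] at h2
    set T2 := ∑ χ ∈ SP, (cm f χ : ℤ) * δ χ
    refine mul_left_cancel₀ (show (2 * (e : ℤ)) ≠ 0 by omega) ?_
    have hpz : (p : ℤ) = 2 * e + 1 := by exact_mod_cast hpe
    have hez : (e : ℤ) = 2 * i + 1 := by exact_mod_cast hi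
    rw [hpz, hez] at h2
    rw [hez]
    linarith
  -- the norms
  have hsq : ∑ χ ∈ SF, cm F χ * cm F χ = ∑ χ ∈ SP, cm f χ * cm f χ := by
    have hFF : classInner F F = classInner f f := by
      rw [classInner, classInner]
      congr 1
      refine Finset.sum_congr rfl fun g _ => ?_
      nth_rewrite 2 [hff]
      simp only [hFdef, hfdef, hf'def, hB1 g, hBb g, map_mul, Complex.conj_conj]
      ring
    rw [inner_self_eq hFc, inner_self_eq hfc, Nat.cast_inj,
      ← Finset.add_sum_erase _ _ (Finset.mem_univ θ), ← Finset.add_sum_erase _ _ (Finset.mem_univ one), hθcm, hone1,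
      ← Finset.sum_filter_of_ne (s := Finset.univ.erase θ) (p := fun χ => cm F χ ≠ 0)
        (fun χ _ hne h0 => hne (by rw [h0, zero_mul])),
      ← Finset.sum_filter_of_ne (s := Finset.univ.erase one) (p := fun χ => cm f χ ≠ 0)
        (fun χ _ hne h0 => hne (by rw [h0, zero_mul])), ← hSF, ← hSP] at hFF
    omega
  have hspare : ∑ χ ∈ SP, (cm f χ : ℤ) * ((N h χ 0 : ℤ) + δ χ - 1) = (i : ℤ) + 1 - ∑ χ ∈ SP, (cm f χ : ℤ) := by
    simp only [mul_sub, mul_add, mul_one, Finset.sum_sub_distrib, Finset.sum_add_distrib, hfN, hfδ]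
    omega
  have hTf : ∑ χ ∈ SP, cm f χ = i := by
    have h1 : (∑ χ ∈ SP, (cm f χ : ℤ)) = ((∑ χ ∈ SP, cm f χ : ℕ) : ℤ) := (Nat.cast_sum _ _).symm
    have h2 : (0 : ℤ) ≤ (i : ℤ) + 1 - ∑ χ ∈ SP, (cm f χ : ℤ) :=
      hspare ▸ Finset.sum_nonneg fun χ hχ => mul_nonneg (Int.natCast_nonneg _) (hpos χ hχ)
    have h3 : (i : ℤ) ≤ ∑ χ ∈ SP, (cm f χ : ℤ) := by
      have : ∑ χ ∈ SP, -((cm f χ : ℤ) * δ χ) ≤ ∑ χ ∈ SP, (cm f χ : ℤ) := Finset.sum_le_sum fun χ hχ => by
        rcases hδ χ hχ with e' | e' | e' <;> rw [e'] <;> omega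
      rw [Finset.sum_neg_distrib, hfδ] at this
      linarith
    have h4 := even_sum_sq_add SF (fun χ => cm F χ)
    have h5 := even_sum_sq_add SP (fun χ => cm f χ)
    rw [hsq, hT1] at h4
    rw [Nat.even_iff] at h4 h5
    omega
  have hδm : ∀ χ ∈ SP, δ χ = -1 ∧ 2 ≤ N h χ 0 ∧ cm f χ = 1 := by
    intro χ hχ
    have hnn : ∀ φ ∈ SP, 0 ≤ (cm f φ : ℤ) * (1 + δ φ) := fun φ hφ => mul_nonneg (Int.natCast_nonneg _) (by
      rcases hδ φ hφ with e' | e' | e' <;> omega)
    have h0 : ∑ φ ∈ SP, (cm f φ : ℤ) * (1 + δ φ) = 0 := by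
      simp only [mul_add, mul_one, Finset.sum_add_distrib, hfδ]
      rw [← Nat.cast_sum, hTf]; ring
    have hne := (Finset.mem_filter.mp hχ).2
    have hd1 : δ χ = -1 := by
      rcases mul_eq_zero.mp ((Finset.sum_eq_zero_iff_of_nonneg hnn).mp h0 χ hχ) with e' | e'
      · exact absurd (by exact_mod_cast e') hne
      · linarith
    have hN2 : 2 ≤ N h χ 0 := by have := hpos χ hχ; omega
    refine ⟨hd1, hN2, ?_⟩
    obtain ⟨ψ, hψ⟩ := exists_line_of_pos h (hcent χ hχ) (by omega)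
    exact le_antisymm ((Nat.le_mul_of_pos_right _ (Nat.pos_of_ne_zero hψ)).trans (hline χ hχ ψ))
      (Nat.pos_of_ne_zero hne)
  have hcardP : SP.card = i := by
    rw [← hTf, Finset.card_eq_sum_ones]
    exact Finset.sum_congr rfl fun χ hχ => (hδm χ hχ).2.2.symm
  have hSF1 : ∀ χ ∈ SF, cm F χ = 1 := by
    intro χ hχ
    rw [Finset.sum_congr (s₁ := SP) rfl (g := fun _ => 1) fun φ hφ => by rw [(hδm φ hφ).2.2], ← Finset.card_eq_sum_ones, hcardP] at hsq
    have hle : ∀ φ ∈ SF, cm F φ ≤ cm F φ * cm F φ := fun φ _ => Nat.le_mul_self _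
    have h1 := ((Finset.sum_eq_sum_iff_of_le hle).mp (hT1.trans hsq.symm)) χ hχ
    exact (Nat.mul_eq_left (Finset.mem_filter.mp hχ).2).mp h1.symm
  have hcardF : SF.card = i := by
    rw [← hT1, Finset.card_eq_sum_ones]
    exact Finset.sum_congr rfl fun χ hχ => (hSF1 χ hχ).symm
  -- the special constituent
  have hex : ∑ χ ∈ SP, (N h χ 0 - 2) = 1 := by
    have h1 : ((∑ χ ∈ SP, (N h χ 0 - 2) : ℕ) : ℤ) = ∑ χ ∈ SP, ((cm f χ : ℤ) * ((N h χ 0 : ℤ) + δ χ - 1)) := by
      rw [Nat.cast_sum]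
      exact Finset.sum_congr rfl fun χ hχ => by
        rw [(hδm χ hχ).1, (hδm χ hχ).2.2, Nat.cast_sub (hδm χ hχ).2.1]; push_cast; ring
    rw [hspare, ← Nat.cast_sum, hTf] at h1
    omega
  obtain ⟨X, hX, hX0⟩ := Finset.exists_ne_zero_of_sum_ne_zero (hex.trans_ne one_ne_zero)
  have hXsum := Finset.add_sum_erase SP (fun χ => N h χ 0 - 2) hX
  rw [hex] at hXsum
  have hX3 : N h X 0 = 3 := by omega
  have hP2 : ∀ χ ∈ SP.erase X, N h χ 0 = 2 := fun χ hχ => by
    have h1 := Finset.sum_eq_zero_iff.mp (show ∑ φ ∈ SP.erase X, (N h φ 0 - 2) = 0 by omega) χ hχ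
    have := (hδm χ (Finset.mem_of_mem_erase hχ)).2.1
    omega
  -- the block
  set S := insert one (SF ∪ SP) with hSdef
  have hnot : one ∉ SF ∪ SP := fun hm => by
    rcases Finset.mem_union.mp hm with hm | hm
    · have := (hSFm _ hm).1
      omega
    · have := (hδm _ hm).2.1
      omega
  have hdis : Disjoint SF SP := Finset.disjoint_left.mpr fun χ hχ hχ' => by
    have := (hSFm χ hχ).1
    have := (hδm χ hχ').2.1
    omega
  have hScard : S.card = e := by
    rw [hSdef, Finset.card_insert_of_notMem hnot, Finset.card_union_of_disjoint hdis, hcardF, hcardP, hi]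
    omega
  have hSmem : ∀ χ ∈ S, Cent (1 : K x L →* ℂ) (χ : G → ℂ) ∧ χ ∉ Set.range C.exc ∧
      ∃ u : (ZMod p)ˣ, N h χ (u : ZMod p) ≠ N h χ 0 := by
    intro χ hχ
    rcases Finset.mem_insert.mp hχ with rfl | hχ
    · refine ⟨fun g z => by simp [honedef], oneG_notMem h C, 1, ?_⟩
      rw [honedef, N_one h, N_one h, if_pos rfl, if_neg (Units.ne_zero _)]
      exact zero_ne_one
    rcases Finset.mem_union.mp hχ with hχ | hχ
    · obtain ⟨-, h1, h2, -, h3⟩ := hSFm χ hχ
      exact ⟨h1, h2, h3⟩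
    · refine ⟨hcent χ hχ, hrange χ hχ, 1, fun e' => ?_⟩
      have := hrow χ hχ 1
      rw [e', (hδm χ hχ).1] at this
      omega
  have hfixX : ∀ {kk : ℕ} (hkk : kk.Coprime (Nat.card G)) (g : G), (X : G → ℂ) (g ^ kk) = (X : G → ℂ) g := by
    intro kk hkk g
    suffices hh : GaloisPow.powIrr hkk X = X from congrFun (congrArg Subtype.val hh) g
    set X' := GaloisPow.powIrr hkk X
    have hc : Cent (1 : K x L →* ℂ) (X' : G → ℂ) := fun g z => by
      show (X : G → ℂ) ((g * ((z : L) : G)) ^ kk) = (X : G → ℂ) (g ^ kk) * (1 : K x L →* ℂ) z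
      have hcomm : Commute g (((z : L) : G)) := Subgroup.mem_center_iff.mp (h.hK z) g
      rw [hcomm.mul_pow, show ((z : L) : G) ^ kk = (((z ^ kk : K x L) : L) : G) from by simp, hcent X hX]
      simp
    have h0 : N h X' 0 = 3 := by
      have := N_powIrr h hkk X (0 : ZMod p)
      rw [mul_zero, hX3] at this
      exact this
    have hn : X' ∉ Set.range C.exc := by
      rintro ⟨c, hc'⟩
      have := C.row c 0
      rw [hc', h0, hM, ind_zero h, mul_zero, add_zero] at this
      norm_num at this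
    have hk0 : (kk : ZMod p) ≠ 0 := by
      rw [Ne, ZMod.natCast_eq_zero_iff]
      intro hd'
      exact (Fact.out : p.Prime).ne_one (Nat.eq_one_of_dvd_coprimes hkk hd' (h.hS.hx ▸ orderOf_dvd_natCard x))
    have hu : ∃ u : (ZMod p)ˣ, N h X' (u : ZMod p) ≠ N h X' 0 := by
      refine ⟨Units.mk0 _ hk0, fun e' => ?_⟩
      have h1 := N_powIrr h hkk X (((1 : (ZMod p)ˣ) : ZMod p))
      rw [Units.val_one, mul_one] at h1
      rw [Units.val_mk0, h1, h0] at e'
      have h2 := hrow X hX 1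
      rw [Units.val_one, e', hX3, (hδm X hX).1] at h2
      omega
    have hm := block_eq h C hScard hSmem hc hn hu
    rcases Finset.mem_insert.mp hm with e' | hm
    · rw [e', hone0] at h0; omega
    rcases Finset.mem_union.mp hm with hm | hm
    · have := (hSFm _ hm).1; omega
    · by_contra hne
      have := hP2 X' (Finset.mem_erase.mpr ⟨hne, hm⟩)
      omega
  -- the lines of the special constituent
  have := Fintype.ofFinite (IrrCharacter L)
  have := Fintype.ofFinite L
  obtain ⟨ψ, hψinj, hψsur, hexp, hsum3⟩ := fixed_expansion h (hcent X hX)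
  rw [hX3] at hsum3
  have hl1 : ∀ a : L →* ℂ, lines p x (X : G → ℂ) a ≤ 1 := fun a => by
    have := hline X hX a
    rwa [(hδm X hX).2.2, one_mul] at this
  set Z3 : Finset (L →* ℂ) := (Finset.univ.filter fun φ => lines p x (X : G → ℂ) (ψ φ) ≠ 0).image ψ with hZ3
  have hmemZ : ∀ a : L →* ℂ, a ∈ Z3 ↔ lines p x (X : G → ℂ) a ≠ 0 := fun a => by
    rw [hZ3, Finset.mem_image]
    refine ⟨fun ⟨φ, hφ, e'⟩ => e' ▸ (Finset.mem_filter.mp hφ).2, fun ha => ?_⟩
    obtain ⟨φ, rfl⟩ := hψsur a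
    exact ⟨φ, Finset.mem_filter.mpr ⟨Finset.mem_univ _, ha⟩, rfl⟩
  have hZcard : Z3.card = 3 := by
    rw [hZ3, Finset.card_image_of_injective _ hψinj, Finset.card_eq_sum_ones, Finset.sum_filter]
    refine (Finset.sum_congr rfl fun φ _ => ?_).trans hsum3
    have := hl1 (ψ φ)
    split_ifs <;> omega
  have hKe : ∀ l : L, l ^ e ∈ K x L := fun l => by
    rw [← ker_alpha h.hS, MonoidHom.mem_ker, map_pow]
    have h1 := pow_card_eq_one' (x := (⟨_, l, rfl⟩ : U0 h.hS))
    rw [card_U0 h] at h1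
    exact congrArg Subtype.val h1
  have hpowe : ∀ a ∈ Z3, a ^ e = 1 := fun a ha => MonoidHom.ext fun l => by
    rw [MonoidHom.pow_apply, ← map_pow, MonoidHom.one_apply]
    exact line_central h (Char.IsIrrCharacter.isCharacter X.2) (hcent X hX) ((hmemZ a).mp ha) ⟨_, hKe l⟩
  have hinv : ∀ {r : ℕ}, r.Coprime e → ∀ a ∈ Z3, a ^ r ∈ Z3 := by
    intro r hr a ha
    have hL : Nat.card L ∣ Nat.card G := Subgroup.card_subgroup_dvd_card L
    have heL : e ∣ Nat.card L := by rw [card_L h]; exact dvd_mul_right _ _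
    obtain ⟨kk, hkk, hmod⟩ := exists_coprime_modEq h (heL.trans hL) hr
    have hcopL : (Nat.card L).Coprime kk := (hkk.coprime_dvd_right hL).symm
    have hph : ∀ l : L, phiP p x (X : G → ℂ) ((powCoprime hcopL) l) = phiP p x (X : G → ℂ) l := by
      intro l
      show phiP p x (X : G → ℂ) (l ^ kk) = _
      by_cases hl : l ∈ K x L
      · rw [show l ^ kk = (((⟨l, hl⟩ : K x L) ^ kk : K x L) : L) from rfl, phiP_K h (hcent X hX)]
        exact (phiP_K h (hcent X hX) ⟨l, hl⟩).symm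
      · have hlk : l ^ kk ∉ K x L := fun hm => hl (by
          have h1 := Subgroup.zpow_mem _ hm ((Nat.card L).gcdB kk)
          have h2 : (powCoprime hcopL).symm ((powCoprime hcopL) l) = l := Equiv.symm_apply_apply _ _
          simp only [powCoprime_symm_apply, powCoprime_apply] at h2
          rwa [h2] at h1)
        rw [phiP_of_notMem h (irr_class _) hlk, phiP_of_notMem h (irr_class _) hl, Subgroup.coe_pow, hfixX hkk]
    have hlines : lines p x (X : G → ℂ) (a ^ kk) = lines p x (X : G → ℂ) a := by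
      apply Nat.cast_injective (R := ℂ)
      rw [← lines_spec h (Char.IsIrrCharacter.isCharacter X.2), ← lines_spec h (Char.IsIrrCharacter.isCharacter X.2),
        classInner, classInner]
      congr 1
      refine Fintype.sum_equiv (powCoprime hcopL) _ _ fun l => ?_
      rw [hph, powCoprime_apply, MonoidHom.pow_apply, map_pow, map_pow, map_pow]
    rw [pow_eq_pow_mod r (hpowe a ha), ← hmod, ← pow_eq_pow_mod kk (hpowe a ha)]
    exact (hmemZ _).mpr (by rw [hlines]; exact (hmemZ a).mp ha)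
  have hodd : Odd e := Nat.not_even_iff_odd.mp he
  have hcube : ∀ y ∈ Z3, y ^ 3 = 1 := by
    intro y hy
    by_contra hy3
    have hy1 : y ≠ 1 := fun e' => hy3 (by rw [e', one_pow])
    have h2 : y ^ 2 ∈ Z3 := hinv (Nat.coprime_two_left.mpr hodd) y hy
    have h3 : y ^ (e - 1) ∈ Z3 := hinv (by
      rw [Nat.coprime_self_sub_left (by omega)]; exact Nat.coprime_one_left _) y hy
    set y' := y ^ (e - 1)
    have hyy : y' * y = 1 := by rw [← pow_succ, Nat.sub_add_cancel (by omega), hpowe y hy]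
    have hne1 : y' ≠ y := fun e' => hy1 (eq_one_of_sq hodd (hpowe y hy) (by rw [pow_two]; nth_rewrite 1 [← e']; exact hyy))
    have hne2 : y ^ 2 ≠ y := fun e' => hy1 (by
      have h1 : y' * y ^ 2 = y' * y := by rw [e']
      rwa [pow_two, ← mul_assoc, hyy, one_mul] at h1)
    have hne3 : y ^ 2 ≠ y' := fun e' => hy3 (by rw [pow_succ, e', hyy])
    have hZ : Z3 = {y, y', y ^ 2} := (Finset.eq_of_subset_of_card_le
      (by simp [Finset.insert_subset_iff, hy, h2, h3])
      (by rw [hZcard, Finset.card_insert_of_notMem (by simp [hne1.symm, hne2.symm]), Finset.card_pair hne3.symm])).symm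
    have h4 : (y ^ 2) ^ (e - 1) ∈ Z3 := hinv (by
      rw [Nat.coprime_self_sub_left (by omega)]; exact Nat.coprime_one_left _) _ h2
    rw [← pow_mul, mul_comm, pow_mul, show y ^ (e - 1) = y' from rfl, hZ] at h4
    have h5 : y' ^ 2 * y ^ 2 = 1 := by rw [← mul_pow, hyy, one_pow]
    simp only [Finset.mem_insert, Finset.mem_singleton] at h4
    rcases h4 with e' | e' | e'
    · rw [e'] at h5
      exact hy3 (by rw [pow_succ']; exact h5)
    · rw [pow_two] at e'
      have h6 : y' = 1 := by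
        have h7 : y' * y' * y = y' * y := by rw [e']
        rwa [mul_assoc, hyy, mul_one] at h7
      rw [h6, one_mul] at hyy
      exact hy1 hyy
    · rw [e', ← pow_add] at h5
      exact hy1 (eq_one_of_sq hodd (hpowe y hy) (eq_one_of_sq (n := e) hodd (by
        rw [← pow_mul, mul_comm, pow_mul, hpowe y hy, one_pow]) (by rw [← pow_mul]; exact h5)))
  obtain ⟨l, hlK, hlval⟩ : ∃ l : L, l ∉ K x L ∧ ∀ a ∈ Z3, a l = 1 := by
    obtain ⟨⟨u, g, hg⟩, hu⟩ := (inferInstance : IsCyclic (U0 h.hS)).exists_generator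
    refine ⟨g ^ 3, fun hm => ?_, fun a ha => ?_⟩
    · rw [← ker_alpha h.hS, MonoidHom.mem_ker, map_pow, hg] at hm
      have ho : orderOf (⟨u, g, hg⟩ : U0 h.hS) = e := by
        rw [← Nat.card_zpowers, ((Subgroup.eq_top_iff' _).mpr hu), Subgroup.card_top, card_U0 h]
      have h1 := orderOf_dvd_of_pow_eq_one (show (⟨u, g, hg⟩ : U0 h.hS) ^ 3 = 1 from Subtype.ext hm)
      rw [ho] at h1
      have := Nat.le_of_dvd (by norm_num) h1
      omega
    · rw [map_pow, ← MonoidHom.pow_apply, hcube a ha, MonoidHom.one_apply]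
  have hlreg := h.hS.regular_L l
  -- the values
  have hXl : (X : G → ℂ) (l : G) = 3 := by
    rw [← phiP_of_notMem h (irr_class _) hlK, hexp l,
      Finset.sum_congr rfl (g := fun φ => (lines p x (X : G → ℂ) (ψ φ) : ℂ)) fun φ _ => ?_, ← Nat.cast_sum, hsum3]
    · norm_num
    · by_cases h0 : lines p x (X : G → ℂ) (ψ φ) = 0
      · rw [h0, Nat.cast_zero, zero_mul]
      · rw [hlval _ ((hmemZ _).mpr h0), mul_one]
  have hωl : ω l * conj (ω l) = 1 := congrFun (congrArg DFunLike.coe hωω) l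
  have hFl : F (l : G) = 1 := by simp only [hFdef, hωv 1 l hlK, hBv 1 l hlK]; exact hωl
  have hfl : f (l : G) = 1 := by simp only [hfdef, hωv 1 l hlK, hBv b l hlK]; exact hωl
  have hθl : (θ : G → ℂ) (l : G) = 1 := by
    obtain ⟨ν', hν', hν'1, hν'v⟩ := exists_unique_line h C hM
    have h1 := bound_line h C hFc (fun c => (hν'1 c).ge)
    rw [hS1] at h1
    have hl := lines_prod h A B hA hB hω (ω' := ω') (fun z => congrArg conj (hω z)) hωv hBv 1 1 (ψ := ν')
      (fun z => (hν' z).trans (by rw [hν]))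
    rw [if_neg (by rw [hneg, mul_one]; exact hb.symm), hωω] at hl
    change (lines p x F ν' : ℤ) = _ at hl
    by_cases h2 : (1 : L →* ℂ) = ν'
    · rw [hθdef, hν'v γ0 l hlK, ← h2, MonoidHom.one_apply]
    · rw [if_neg h2] at hl
      push_cast at hl
      omega
  have hsF : ∑ χ ∈ SF, (χ : G → ℂ) (l : G) = 0 := by
    have h1 := apply_eq_sum_cm hFc (l : G)
    rw [hFsum (fun χ => (χ : G → ℂ) (l : G)), hFl, hθl, Finset.sum_congr (s₁ := SF) rfl (g := fun χ => (χ : G → ℂ) (l : G))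
      fun χ hχ => by rw [hSF1 χ hχ, Nat.cast_one, one_mul]] at h1
    linear_combination -h1
  have hsP : ∑ χ ∈ SP.erase X, (χ : G → ℂ) (l : G) = -3 := by
    have h1 := apply_eq_sum_cm hfc (l : G)
    rw [hfsum (fun χ => (χ : G → ℂ) (l : G)), hfl, Finset.sum_congr (s₁ := SP) rfl (g := fun χ => (χ : G → ℂ) (l : G))
      fun χ hχ => by rw [(hδm χ hχ).2.2, Nat.cast_one, one_mul], ← Finset.add_sum_erase SP _ hX, hXl,
      show ((one : IrrCharacter G) : G → ℂ) (l : G) = 1 from rfl] at h1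
    linear_combination -h1
  -- the norm of the difference
  have hD : ‖((A.exc 1 : G → ℂ) x - (A.exc b : G → ℂ) x) ^ 2‖ = (p : ℝ) := by
    have h1 := exc_add h A hb hT
    rw [hA.eps] at h1
    have hv : ∀ {φ : G → ℂ}, mu x φ (0 : ZMod p) = ((e + 1 : ℕ) : ℂ) →
        (∀ u : (ZMod p)ˣ, mu x φ (u : ZMod p) = ((i + 1 : ℕ) : ℂ)) → φ x = ((i + 1 : ℕ) : ℂ) := fun {φ} h0 hu => by
      have := apply_of_const h hu (one_ne_zero : (1 : ZMod p) ≠ 0)
      rw [h.hS.pw_one, h0] at this
      rw [this, hi]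
      push_cast; ring
    rw [norm_diff (d := e + 1) (by rw [h1]; norm_num) ?_, hpe]
    · push_cast; ring
    · have e1 := hv hf0 hfu
      have e2 := hv hf'0 hf'u
      simp only [hfdef, hf'def, hBb, hB1] at e1 e2
      rw [e1, e2, hi]
      push_cast; ring
  have hineq := two_ineq h A C hb hT hD hScard hSmem hlreg
  have hdA : charDegree (A.exc 1 : G → ℂ) = e + 1 := Nat.cast_injective (R := ℂ) (by rw [charDegree_cast, (hd 1).1])
  have hdC : (C.exc 1 : G → ℂ) (l : G) = 1 ∧ charDegree (C.exc 1 : G → ℂ) = 3 * e + 1 := by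
    refine ⟨by rw [C.reg 1 γ0 _ hlreg]; exact hθl, Nat.cast_injective (R := ℂ) ?_⟩
    rw [← hθdeg, charDegree_cast, charDegree_cast, hθdef]
    exact C.reg 1 γ0 1 (by simpa using (Fact.out : p.Prime).ne_one)
  rw [hωv 1 l hlK, Complex.norm_eq_one_of_pow_eq_one (n := Nat.card L) (by rw [← map_pow, pow_card_eq_one', map_one])
      Nat.card_pos.ne', hdA, hdC.1, hdC.2, hSdef, Finset.sum_insert hnot, Finset.sum_union hdis,
    ← Finset.add_sum_erase SP _ hX, honed,
    Finset.sum_congr (s₁ := SF) rfl (g := fun χ => ((χ : G → ℂ) (l : G)).re / ((2 * e : ℕ) : ℝ))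
      fun χ hχ => by rw [(hSFm χ hχ).2.2.2.1],
    Finset.sum_congr (s₁ := SP.erase X) rfl (g := fun χ => ((χ : G → ℂ) (l : G)).re / ((2 * e + 2 : ℕ) : ℝ))
      fun χ hχ => ?_,
    ← Finset.sum_div, ← Finset.sum_div, ← Complex.re_sum, ← Complex.re_sum, hsF, hsP, hXl,
    show ((one : IrrCharacter G) : G → ℂ) (l : G) = 1 from rfl] at hineq
  swap
  · have h1 := hdeg χ (Finset.mem_of_mem_erase hχ)
    rw [hP2 χ hχ, (hδm χ (Finset.mem_of_mem_erase hχ)).1] at h1
    have : charDegree (χ : G → ℂ) = 2 * e + 2 := by push_cast at h1; omega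
    rw [this]
  have hXd : charDegree (X : G → ℂ) = 4 * e + 3 := by
    have h1 := hdeg X hX
    rw [hX3, (hδm X hX).1] at h1
    push_cast at h1
    omega
  rw [hXd, hpe] at hineq
  simp only [Complex.zero_re, Complex.one_re, Complex.neg_re, Complex.re_ofNat, zero_div, div_one, Nat.cast_one] at hineq
  push_cast at hineq
  have he' : (5 : ℝ) ≤ e := by exact_mod_cast he5
  rw [show (2 * (e : ℝ) + 2) = 2 * ((e : ℝ) + 1) by ring, ← sub_nonneg] at hineq
  field_simp at hineq
  nlinarith [mul_le_mul_of_nonneg_left he' (show (0 : ℝ) ≤ e by positivity)]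

/-- Two classes and an odd index. -/
theorem two_odd (hgen : Subgroup.closure {g : G | orderOf g = p} = ⊤) (he : ¬ Even e) (he5 : 5 ≤ e)
    {μ : K x L →* ℂ} (A : Fam h μ) (hA : A.Minus h) {c0 : T h.hS}
    (hfaith : ∀ g : G, (A.exc c0 : G → ℂ) g = (A.exc c0 : G → ℂ) 1 → g = 1) :
    Nonempty ((G ⧸ Subgroup.center G) ≃* Matrix.ProjectiveSpecialLinearGroup (Fin 2) (ZMod p)) := by
  obtain ⟨C⟩ := exists_fam h (1 : K x L →* ℂ)
  rcases Nat.eq_zero_or_pos C.M with h0 | h0
  · exact two_odd_zero h hgen A hA hfaith C h0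
  · exact (two_odd_pos h he he5 A hA C h0).elim

end Cfsg.Agent.FeitSmall
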