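/-
Faithful characters of degree less than `p - 1` (namespace `Cfsg.Agent.FeitSmall`).

Main results: `main_of_lt`, `main_of_sylow`, `psl_field`.
-/
import Cfsg.Agent.Lib.FeitSmall.Reduction
import Cfsg.Agent.Lib.FeitSmall.TwoOdd
import Cfsg.Agent.Lib.FeitSmall.TwoEven
import Cfsg.Agent.Lib.CyclicDefect.Apply

set_option autoImplicit false
set_option linter.unusedSectionVars false
set_option linter.style.haveILetI false

open scoped ComplexConjugate

namespace Cfsg.Agent.FeitSmall

open Cfsg Cfsg.Agent.Blocks Cfsg.Agent.CyclicDefect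

variable {G : Type*} [Group G] [Finite G] {p : ℕ} [Fact p.Prime] {x : G} {L : Subgroup G}

/-- The order of `K` divides the order of the centre. -/
theorem Reduced.card_K_dvd {H : Subgroup G} {y : H} {L0 : Subgroup H} {e t : ℕ} (R : Reduced H y L0 p e t) :
    Nat.card (K y L0) ∣ Nat.card (Subgroup.center G) := by
  let f : K y L0 →* Subgroup.center G :=
    { toFun := fun k => ⟨(((k : L0) : H) : G), R.center k⟩
      map_one' := Subtype.ext (by simp)
      map_mul' := fun a b => Subtype.ext (by simp) }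
  refine Subgroup.card_dvd_of_injective f fun a b hab => ?_
  have h1 : (f a : G) = (f b : G) := congrArg Subtype.val hab
  exact Subtype.ext (Subtype.ext (Subtype.ext h1))

/-- Two classes give the projective special linear group, more classes bound the index. -/
theorem Reduced.cases {H : Subgroup G} {y : H} {L0 : Subgroup H} {e t : ℕ} (R : Reduced H y L0 p e t) (hp : 7 < p) :
    (t = 2 ∧ Nonempty ((G ⧸ Subgroup.center G) ≃* Matrix.ProjectiveSpecialLinearGroup (Fin 2) (ZMod p))) ∨
    (e + 3 ≤ t ∧ (Odd (Nat.card (Subgroup.center G)) → e = 2)) := by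
  haveI := Fintype.ofFinite H
  have h := R.core
  obtain ⟨μ, A, c, hε, hM, hfaith⟩ := R.fam
  have hA : A.Minus h := ⟨hε, hM⟩
  have hp' : p.Prime := Fact.out
  have hte := h.hte
  have he2 := h.he2
  have hp11 : 11 ≤ p := by
    by_contra hlt
    interval_cases p <;> norm_num at hp'
  rcases Nat.lt_or_ge t 3 with ht | ht
  · have ht2 : t = 2 := by have := h.ht2; omega
    subst ht2
    left
    refine ⟨rfl, ?_⟩
    obtain ⟨φ⟩ := R.quot
    by_cases he : Even e
    · obtain ⟨ψ⟩ := two_even h he (by rcases he.two_dvd with ⟨j, hj⟩; omega) A hA hfaith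
      exact ⟨φ.trans ψ⟩
    · obtain ⟨ψ⟩ := two_odd h R.gen he (by omega) A hA hfaith
      exact ⟨φ.trans ψ⟩
  · right
    by_cases he : Even e
    · -- the degree is odd, so is the order of `K`
      have hodd : Odd (charDegree (A.exc c : H → ℂ)) := by
        have h1 : charDegree (A.exc c : H → ℂ) + e = p := by
          apply Nat.cast_injective (R := ℂ)
          push_cast
          rw [charDegree_cast, deg_minus h A hA c]
          ring
        rcases Nat.even_or_odd (charDegree (A.exc c : H → ℂ)) with h2 | h2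
        · exfalso
          have h3 : Odd p := hp'.odd_of_ne_two (by omega)
          rw [← h1] at h3
          exact (Nat.not_odd_iff_even.mpr (h2.add he)) h3
        · exact h2
      have hK : Odd (Nat.card (K y L0)) := by
        rw [← Nat.not_even_iff_odd, even_iff_two_dvd]
        intro h2
        haveI : Fact (Nat.Prime 2) := ⟨Nat.prime_two⟩
        obtain ⟨k, hk⟩ := exists_prime_orderOf_dvd_card' 2 h2
        have h3 := DegPMinusTwo.center_pow_eq_one (χ := A.exc c) hfaith h.hperf (h.hK k)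
        have h4 := orderOf_dvd_of_pow_eq_one h3
        rw [Subgroup.orderOf_coe, Subgroup.orderOf_coe, hk] at h4
        exact (Nat.not_even_iff_odd.mpr hodd) (even_iff_two_dvd.mpr h4)
      have he' := even_case h ht he hK A hA
      subst he'
      exact ⟨by omega, fun _ => rfl⟩
    · obtain ⟨h1, h2⟩ := odd_case h R.gen ht he A hA
      exact ⟨h1, fun hz => (h2 (hz.of_dvd_nat R.card_K_dvd)).elim⟩

/-- A faithful character of degree less than `p - 1`. -/
theorem main_of_lt (hS : Setting p x L) (hp : 7 < p) (hnn : ∀ H : Subgroup G, H.Normal → Nat.card H ≠ p)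
    (χ : IrrCharacter G) (hfaith : ∀ g : G, (χ : G → ℂ) g = (χ : G → ℂ) 1 → g = 1)
    (hlt : charDegree (χ : G → ℂ) + 1 < p) :
    (Nonempty ((G ⧸ Subgroup.center G) ≃* Matrix.ProjectiveSpecialLinearGroup (Fin 2) (ZMod p)) ∧
      (2 * charDegree (χ : G → ℂ) = p + 1 ∨ 2 * charDegree (χ : G → ℂ) = p - 1) ∧ 2 * (K x L).index + 1 = p) ∨
    (charDegree (χ : G → ℂ) + (K x L).index = p ∧ ∃ t : ℕ, t * (K x L).index + 1 = p ∧
      (K x L).index + 3 ≤ t ∧ (Odd (Nat.card (Subgroup.center G)) → (K x L).index = 2)) := by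
  rcases reduce hS hp hnn χ hfaith hlt with ⟨hpsl, hd, hE⟩ | ⟨hdE, H, y, L0, t, R⟩
  · exact Or.inl ⟨hpsl, Or.inr (by omega), hE⟩
  · have hte := R.core.hte
    rcases R.cases hp with ⟨rfl, hpsl⟩ | ⟨h1, h2⟩
    · exact Or.inl ⟨hpsl, Or.inl (by omega), by omega⟩
    · exact Or.inr ⟨hdE, t, by omega, h1, h2⟩

/-- The setting of a Sylow subgroup of order `p` that is not normal. -/
theorem main_of_sylow (hp : 7 < p) (P : Sylow p G) (hP : Nat.card P = p) (hnn : ¬ (P : Subgroup G).Normal)
    {ζ : G → ℂ} (hζ : IsIrrCharacter G ζ) (hfaith : ∀ g : G, ζ g = ζ 1 → g = 1) (hlt : charDegree ζ + 1 < p) :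
    ∃ E : ℕ, Nat.card {c : ConjClasses G // ∃ g : G, ConjClasses.mk g = c ∧ orderOf g = p} * E = p - 1 ∧
    ((Nonempty ((G ⧸ Subgroup.center G) ≃* Matrix.ProjectiveSpecialLinearGroup (Fin 2) (ZMod p)) ∧
      (2 * charDegree ζ = p + 1 ∨ 2 * charDegree ζ = p - 1) ∧ 2 * E + 1 = p) ∨
    (charDegree ζ + E = p ∧ ∃ t : ℕ, t * E + 1 = p ∧ E + 3 ≤ t ∧ (Odd (Nat.card (Subgroup.center G)) → E = 2))) := by
  have hp' : p.Prime := Fact.out
  obtain ⟨x, L, hPx, hS⟩ := CyclicDefect.exists_setting_of_sylow hp' P hP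
  have hnn' : ∀ H : Subgroup G, H.Normal → Nat.card H ≠ p := fun H hH hcard => by
    refine hnn ?_
    haveI := hH
    obtain ⟨Q, hQ⟩ := (IsPGroup.of_card (n := 1) (by rw [hcard, pow_one]) : IsPGroup p H).exists_le_sylow
    have hQc : Nat.card (Q : Subgroup G) = p := (Sylow.card_eq_multiplicity Q).trans ((Sylow.card_eq_multiplicity P).symm.trans hP)
    have hQH : (Q : Subgroup G) = H := (Subgroup.eq_of_le_of_card_ge hQ (by rw [hQc, hcard])).symm
    haveI : (Q : Subgroup G).Normal := hQH ▸ hH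
    haveI := Sylow.unique_of_normal Q inferInstance
    rw [Subsingleton.elim P Q]
    infer_instance
  exact ⟨_, card_classes_order hS, main_of_lt hS hp hnn' ⟨ζ, hζ⟩ hfaith hlt⟩

theorem psl_field {Q : Type*} [Group Q]
    (h : Nonempty (Q ≃* Matrix.ProjectiveSpecialLinearGroup (Fin 2) (ZMod p))) :
    ∃ (F : Type) (_ : Field F) (_ : Fintype F), Fintype.card F = p ∧
      Nonempty (Q ≃* Matrix.ProjectiveSpecialLinearGroup (Fin 2) F) :=
  ⟨ZMod p, inferInstance, inferInstance, ZMod.card p, h⟩

end Cfsg.Agent.FeitSmall
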